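import Cfsg.Agent.H65.Disp.Rgd
import Cfsg.Agent.H65.Disp.Twist
import Cfsg.Agent.H622.Levi.Chain
import Cfsg.Agent.H53.HC.Asm
import Cfsg.Agent.H122.SNX.Supp
import Cfsg.Agent.H459.Gallery
import Cfsg.Agent.H928.Van.Tor
import Cfsg.Agent.H196.SN.Cop_m3
import Cfsg.Agent.H874.SNX.RootsF
import Cfsg.Agent.H478.RadTools_m3
import Cfsg.Agent.Nodes.TyCox
import Cfsg.Agent.Lib.FinFast
import Cfsg.Agent.BpLin.PSL
import Cfsg.Agent.S0249
import Cfsg.Agent.H991.SN.HN
import Mathlib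
import Cfsg.Agent.H500.SN.UFour
import Cfsg.Agent.S0262
import Cfsg.Agent.S1163
import Cfsg.Agent.LieRecognition.ReeFinal
import Cfsg.Agent.ClassicalGeometry.AutPSL.SylowU
import Cfsg.Prelude.Def_Exceptional
import Cfsg.Agent.ClassicalGeometry.AutPSL.Main
import Cfsg.Agent.H363.PslCard
import Cfsg.Agent.ClassicalGeometry.PSL2Basic
import Cfsg.Agent.LieClassical.SLTwoUnipotent
import Cfsg.Agent.CpAutU.Fixed
import Cfsg.Agent.Lib.FieldAutCard
import Cfsg.Agent.S2283
import Cfsg.Agent.GenPsu.Psu_m3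
import Cfsg.Agent.SignalizersComponents.Components
import Cfsg.Agent.KFacts.RgdTI
import Cfsg.Agent.Nodes.Unique
import Cfsg.Agent.Lib.SolvableNormalP
import Cfsg.Agent.Cit.FamFb_m3
import Cfsg.Agent.S0242
import Cfsg.Prelude.Def_Classical
import Cfsg.Agent.H216.Rad3.SpSix_m3
import Cfsg.Agent.TwoFusion.SLTwoFacts
import Cfsg.Agent.FastGrp
import Cfsg.Agent.Prune
set_option linter.all false

-- part: H790/SNX/Comp_mg
section
set_option linter.all false

-- part: H790/SNX/Gal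
section
/-!
# S3831, exceptional rows: EQ3 (gallery connectedness) and EQ3two (panels with three chambers) (helper790)
-/

set_option autoImplicit false
set_option linter.unusedSectionVars false

namespace Cfsg.Agent.H790.SNX

open CoxeterSystem Cfsg.Agent.ChevalleyStructure.CoxeterGeom Cfsg.Agent.Tits.Roots Cfsg.Agent.Tits.Core
  Cfsg.Agent.Tits.RootComb Cfsg.Agent.Tits.Exchange Cfsg.Agent.Nodes.Reps Cfsg.Agent.Nodes.BNOf
  Cfsg.Agent.Nodes.StabComb Cfsg.Agent.Nodes.Bruhat Cfsg.Agent.Nodes.OppDec Cfsg.Agent.Nodes.LeviDec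
  Cfsg.Agent.Nodes.NormalForm Cfsg.Agent.KFacts.RgdOpp Cfsg.Agent.KFacts.RgdAut Cfsg.Agent.KFacts.RgdDiag
  Cfsg.Agent.KFacts.RgdRigid Cfsg.Agent.CpAut.RgdFix
open Cfsg Cfsg.Agent.H65.Disp.Rgd

variable {I W : Type*} [Fintype I] [DecidableEq I] [Group W] {Y : Type*} [Group Y] {M : CoxeterMatrix I}
  {cs : CoxeterSystem M W} {A : I → I → ℤ} {h : IsCartan M A} {p : ℕ} {T : Subgroup Y} {n : I → Y}
  {X : (I → ℤ) → Subgroup Y} (R : RGD cs h p T n X)

include R

end Cfsg.Agent.H790.SNX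
end

-- part: H790/SNX/Comp
section
/-!
# S3831, exceptional rows: EQ1 (components of type `A` of an invariant parabolic subgroup) (helper790)
-/

set_option autoImplicit false
set_option linter.unusedSectionVars false

namespace Cfsg.Agent.H790.SNX

open CoxeterSystem Cfsg.Agent.ChevalleyStructure.CoxeterGeom Cfsg.Agent.Tits.Roots Cfsg.Agent.Tits.Core
  Cfsg.Agent.Tits.RootComb Cfsg.Agent.Tits.Exchange Cfsg.Agent.Nodes.Reps Cfsg.Agent.Nodes.BNOf
  Cfsg.Agent.Nodes.StabComb Cfsg.Agent.Nodes.Bruhat Cfsg.Agent.Nodes.OppDec Cfsg.Agent.Nodes.LeviDec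
  Cfsg.Agent.Nodes.NormalForm Cfsg.Agent.KFacts.RgdOpp Cfsg.Agent.KFacts.RgdAut Cfsg.Agent.KFacts.RgdDiag
  Cfsg.Agent.KFacts.RgdRigid Cfsg.Agent.CpAut.RgdFix
open Cfsg Cfsg.Agent.H459.Rad Cfsg.Agent.H21.SN Cfsg.Agent.H65.Disp.Rgd Cfsg.Agent.H622.Levi
open Cfsg.Agent.LieRecognition.BNCox (cA)
open Matrix
open scoped Pointwise

/-! ### an invariant section -/

section abs

variable {Y : Type*} [Group Y] [Finite Y]

/-- `x` acts trivially on a simple section `M / rad` with `G3` -/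
theorem sec_eq {x : MulAut Y} (hx : x ^ 3 = 1) (hP : PS 2 x) (hR : RN x) {M : Subgroup Y} (hM : ∀ m ∈ M, x m ∈ M)
    {L : Type*} [Group L] [Finite L] [IsSimpleGroup L] (hL : ¬ Group.IsSolvable L) (hG3 : G3 L) (f : M →* L)
    (hf : Function.Surjective f) (hk : Group.IsSolvable f.ker) (m : M) : f ⟨x m, hM m m.2⟩ = f m := by
  -- the kernel is the radical
  have hker : ∀ m : M, m ∈ f.ker ↔ (m : Y) ∈ radIn M := by
    intro m
    rw [mem_radIn_coe]
    constructor
    · exact fun hm => le_rad inferInstance hk hm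
    · intro hm
      have h1 : ((solvableRadical M).map f).Normal := Subgroup.Normal.map (rad_normal M) f hf
      have h2 : Group.IsSolvable ↥((solvableRadical M).map f) :=
        Cfsg.Agent.SignalizersComponents.ComponentExists.isSolvable_map (rad_solvable M) f
      rcases h1.eq_bot_or_eq_top with h3 | h3
      · have h4 : f m ∈ (solvableRadical M).map f := ⟨m, hm, rfl⟩
        rw [h3, Subgroup.mem_bot] at h4
        exact h4
      · exfalso
        rw [h3] at h2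
        exact hL (Group.isSolvable_of_surjective (f := (⊤ : Subgroup L).subtype) fun g => ⟨⟨g, Subgroup.mem_top g⟩, rfl⟩)
  have hMx : M.map x.toMonoidHom = M :=
    Subgroup.eq_of_le_of_card_ge (by rintro _ ⟨a, ha, rfl⟩; exact hM a ha)
      (le_of_eq (Subgroup.card_map_of_injective x.injective).symm)
  have hrad : (radIn M).map x.toMonoidHom = radIn M := by
    have := radIn_map (x : Y ≃* Y) (M := M)
    rw [this]
    exact congrArg radIn hMx
  let g : M →* L := f.comp ((x.toMonoidHom.comp M.subtype).codRestrict M fun m => hM m m.2)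
  have hg : ∀ m : M, g m = f ⟨x m, hM m m.2⟩ := fun _ => rfl
  have hkg : f.ker ≤ g.ker := by
    intro m hm
    rw [MonoidHom.mem_ker, hg, ← MonoidHom.mem_ker, hker]
    have h1 : x m ∈ (radIn M).map x.toMonoidHom := ⟨m, (hker m).1 hm, rfl⟩
    rwa [hrad] at h1
  let y0 : L →* L := MonoidHom.liftOfSurjective f hf ⟨g, hkg⟩
  have hy0 : ∀ m : M, y0 (f m) = f ⟨x m, hM m m.2⟩ := by
    intro m
    rw [← hg]
    exact MonoidHom.liftOfRightInverse_comp_apply _ _ _ ⟨g, hkg⟩ m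
  have hy0s : Function.Surjective y0 := by
    intro l
    obtain ⟨m, rfl⟩ := hf l
    have h1 : (m : Y) ∈ M.map x.toMonoidHom := by rw [hMx]; exact m.2
    obtain ⟨a, ha, e⟩ := h1
    refine ⟨f ⟨a, ha⟩, ?_⟩
    rw [hy0]
    congr 1
    exact Subtype.ext e
  let y : MulAut L := MulEquiv.ofBijective y0 ⟨Finite.injective_iff_surjective.2 hy0s, hy0s⟩
  have hy : ∀ m : M, f ⟨x m, hM m m.2⟩ = y (f m) := fun m => (hy0 m).symm
  have hy3 : y ^ 3 = 1 := by
    ext l
    obtain ⟨m, rfl⟩ := hf l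
    have h1 : x (x (x m)) = m := by
      have := DFunLike.congr_fun hx (m : Y)
      rwa [pow_succ, pow_two, MulAut.mul_apply, MulAut.mul_apply, MulAut.one_apply] at this
    rw [pow_succ, pow_two, MulAut.mul_apply, MulAut.mul_apply, MulAut.one_apply, ← hy m, ← hy ⟨x m, hM m m.2⟩,
      ← hy ⟨x (x m), hM _ (hM m m.2)⟩]
    congr 1
    exact Subtype.ext h1
  have hy1 : y = 1 := by
    by_contra hne
    have h1 : orderOf y = 3 := orderOf_eq_prime hy3 hne
    exact hG3 y h1 (PS.sec hP hM f hf y hy) (RN.sec hR hM f hf hk y hy)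
  rw [hy m, hy1]
  rfl

end abs

section rgd

variable {I W : Type*} [Fintype I] [DecidableEq I] [Group W] {Y : Type*} [Group Y] {M : CoxeterMatrix I}
  {cs : CoxeterSystem M W} {A : I → I → ℤ} {h : IsCartan M A} {p : ℕ} {T : Subgroup Y} {n : I → Y}
  {X : (I → ℤ) → Subgroup Y} (R : RGD cs h p T n X)

include R

end rgd

/-! ### the components of type `A` -/

section psl

theorem not_isSolvable_psl {m : ℕ} (hm : 1 ≤ m) {F : Type*} [Field F]
    [IsSimpleGroup (Matrix.ProjectiveSpecialLinearGroup (Fin (m + 1)) F)] :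
    ¬ Group.IsSolvable (Matrix.ProjectiveSpecialLinearGroup (Fin (m + 1)) F) := by
  intro hs
  have hcomm := IsSimpleGroup.comm_iff_isSolvable.2 hs
  have h01 : (0 : Fin (m + 1)) ≠ 1 := by
    obtain ⟨m, rfl⟩ : ∃ m', m = m' + 1 := ⟨m - 1, by omega⟩
    exact Fin.zero_ne_one
  set a := SpecialLinearGroup.transvection (F := F) h01 1 with ha
  set b := SpecialLinearGroup.transvection (F := F) h01.symm 1 with hb
  have h1 := hcomm (QuotientGroup.mk a) (QuotientGroup.mk b)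
  have h2 : (a * b)⁻¹ * (b * a) ∈ Subgroup.center (SpecialLinearGroup (Fin (m + 1)) F) := by
    rw [← QuotientGroup.eq]
    exact h1
  rw [Matrix.SpecialLinearGroup.mem_center_iff] at h2
  obtain ⟨r, -, hr⟩ := h2
  have h3 : b * a = (a * b) * ((a * b)⁻¹ * (b * a)) := by group
  have h4 : (b * a).1 = (a * b).1 * Matrix.scalar _ r := by
    rw [hr]
    exact congrArg Subtype.val h3
  have e0 := congrFun (congrFun h4 0) 1
  have e1 := congrFun (congrFun h4 0) 0
  have a1 : a.1 = Matrix.transvection 0 1 (1 : F) := rfl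
  have b1 : b.1 = Matrix.transvection 1 0 (1 : F) := rfl
  have t00 : Matrix.transvection (0 : Fin (m + 1)) 1 (1 : F) 0 0 = 1 := by simp [Matrix.transvection, h01.symm]
  have t01 : Matrix.transvection (0 : Fin (m + 1)) 1 (1 : F) 0 1 = 1 := by simp [Matrix.transvection, h01]
  have s00 : Matrix.transvection (1 : Fin (m + 1)) 0 (1 : F) 0 0 = 1 := by simp [Matrix.transvection, h01.symm]
  have s10 : Matrix.transvection (1 : Fin (m + 1)) 0 (1 : F) 1 0 = 1 := by simp [Matrix.transvection, h01.symm]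
  have s01 : Matrix.transvection (1 : Fin (m + 1)) 0 (1 : F) 0 1 = 0 := by simp [Matrix.transvection, h01]
  have s11 : Matrix.transvection (1 : Fin (m + 1)) 0 (1 : F) 1 1 = 1 := by simp [Matrix.transvection, h01]
  rw [Matrix.SpecialLinearGroup.coe_mul, Matrix.SpecialLinearGroup.coe_mul, a1, b1, Matrix.scalar_apply,
    Matrix.mul_diagonal, Matrix.transvection_mul_apply_same, Matrix.transvection_mul_apply_of_ne _ _ _ _ h01] at e0 e1
  rw [t01, s01, s11] at e0
  rw [t00, s00, s10] at e1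
  have e2 : r = 1 := by rw [zero_add, one_mul, one_mul] at e0; exact e0.symm
  rw [e2] at e1
  have e3 : (1 : F) = 0 := by linear_combination -e1
  exact one_ne_zero e3

end psl

section main

variable {I W : Type*} [Fintype I] [DecidableEq I] [Group W] {Y : Type} [Group Y] {M : CoxeterMatrix I}
  {cs : CoxeterSystem M W} {A : I → I → ℤ} {h : IsCartan M A} {p : ℕ} {T : Subgroup Y} {n : I → Y}
  {X : (I → ℤ) → Subgroup Y} (R : RGD cs h p T n X)

include R

/-- `P_J` normalises `V_J M_K` -/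
theorem PJ_le_normalizer [Finite W] {J K : Set I} (hKJ : K ⊆ J) (ho : ∀ i ∈ K, ∀ j ∈ J \ K, M i j = 2) :
    PJ cs h T X J ≤ Subgroup.normalizer ((VJ cs h X J ⊔ H53.HC.MJ cs h X K : Subgroup Y) : Set Y) := by
  have : Fintype W := Fintype.ofFinite W
  have hS : Cfsg.Agent.Nodes.Block.Sep M K J := ⟨hKJ, fun a ha b hb hbK => ho a ha b ⟨hb, hbK⟩⟩
  have hcj : ∀ g : Y, cj g (VJ cs h X J) = VJ cs h X J → cj g (H53.HC.MJ cs h X K) = H53.HC.MJ cs h X K →
      g ∈ Subgroup.normalizer ((VJ cs h X J ⊔ H53.HC.MJ cs h X K : Subgroup Y) : Set Y) := by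
    intro g h1 h2
    rw [mem_normalizer_iff_cj, cj_sup, h1, h2]
  have hV : ∀ g ∈ LJ cs h T X J, cj g (VJ cs h X J) = VJ cs h X J := fun g hg =>
    mem_normalizer_iff_cj.1 (LJ_le_normalizer_VJ R J hg)
  have hMJ : H53.HC.MJ cs h X J ≤ Subgroup.normalizer ((VJ cs h X J ⊔ H53.HC.MJ cs h X K : Subgroup Y) : Set Y) := by
    have e : H53.HC.MJ cs h X J = H53.HC.MJ cs h X K ⊔ H53.HC.MJ cs h X (J \ K) := MJ_eq_sup hS
    rw [e]
    refine sup_le (le_trans le_sup_right Subgroup.le_normalizer) fun g hg => ?_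
    refine hcj g (hV g ?_) ?_
    · exact H53.HC.MJ_le_LJ J (by rw [e]; exact Subgroup.mem_sup_right hg)
    · rw [← mem_normalizer_iff_cj]
      refine Cfsg.Agent.Nodes.ClsNorm.centralizer_le_normalizer' _ ?_
      rw [Subgroup.mem_centralizer_iff]
      intro a ha
      exact comm_MJ hS R a ha g hg
  refine sup_le (sup_le ?_ hMJ) (le_trans le_sup_left Subgroup.le_normalizer)
  intro t ht
  exact hcj t (hV t (T_le_LJ ht)) (mem_normalizer_iff_cj.1 (H53.HC.T_le_normalizer_MJ R K ht))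

/-- the projection of `V_J M_K` onto `PSL` -/
theorem exists_proj [Finite W] [Finite Y] [Fact p.Prime] {J : Set I} {m : ℕ}
    (hm : 1 ≤ m) (k : Fin m ↪ I) (hk : ∀ i j, M (k i) (k j) = cA m i j) (hkJ : Set.range k ⊆ J)
    {F : Type} [Field F] {φ : SpecialLinearGroup (Fin (m + 1)) F →* Y} (C : Co X k F φ) :
    ∃ f : ↥(VJ cs h X J ⊔ H53.HC.MJ cs h X (Set.range k)) →* Matrix.ProjectiveSpecialLinearGroup (Fin (m + 1)) F,
      Function.Surjective f ∧ ∀ y : ↥(VJ cs h X J ⊔ H53.HC.MJ cs h X (Set.range k)), f y = 1 →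
        (y : Y) ∈ VJ cs h X J ⊔ (Subgroup.center (SpecialLinearGroup (Fin (m + 1)) F)).map φ := by
  set N : Subgroup Y := VJ cs h X J ⊔ H53.HC.MJ cs h X (Set.range k) with hN
  have hrange : φ.range = H53.HC.MJ cs h X (Set.range k) := C.range hk (by omega)
  have hroots : RootsJ cs h (Set.range k) ⊆ RootsJ cs h J := fun x hx => ⟨hx.1, fun j hj => hx.2 j fun h0 => hj (hkJ h0)⟩
  have hML : H53.HC.MJ cs h X (Set.range k) ≤ LJ cs h T X J :=
    le_trans (RGD.Sup_mono hroots) (H53.HC.MJ_le_LJ J)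
  have hNP : N ≤ PJ cs h T X J := sup_le VJ_le_PJ (le_trans hML LJ_le_PJ)
  obtain ⟨π, hπL, hπV⟩ := H53.HC.exists_projL R J
  let π' : N →* Y := (LJ cs h T X J).subtype.comp (π.comp (Subgroup.inclusion hNP))
  have hπ'M : ∀ (y : Y) (hy : y ∈ N), y ∈ H53.HC.MJ cs h X (Set.range k) → π' ⟨y, hy⟩ = y := by
    intro y hy hyM
    exact congrArg Subtype.val (hπL y (hML hyM))
  have hπ'V : ∀ (y : Y) (hy : y ∈ N), y ∈ VJ cs h X J → π' ⟨y, hy⟩ = 1 := by
    intro y hy hyV
    exact congrArg Subtype.val (hπV y hyV)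
  -- elements of `N`
  have hmem : ∀ y ∈ N, ∃ v ∈ VJ cs h X J, ∃ g, y = v * φ g := by
    intro y hy
    have h1 : y ∈ ((VJ cs h X J ⊔ H53.HC.MJ cs h X (Set.range k) : Subgroup Y) : Set Y) := hy
    rw [Subgroup.coe_mul_of_right_le_normalizer_left _ _ (le_trans hML (LJ_le_normalizer_VJ R J)), Set.mem_mul] at h1
    obtain ⟨v, hv, l, hl, e⟩ := h1
    have h2 : l ∈ φ.range := by rw [hrange]; exact hl
    obtain ⟨g, rfl⟩ := h2
    exact ⟨v, hv, g, e.symm⟩
  have hφM : ∀ g, φ g ∈ H53.HC.MJ cs h X (Set.range k) := fun g => by rw [← hrange]; exact ⟨g, rfl⟩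
  have hVN : VJ cs h X J ≤ N := le_sup_left
  have hMN : H53.HC.MJ cs h X (Set.range k) ≤ N := le_sup_right
  have hπ'φ : ∀ (v : Y) (hv : v ∈ VJ cs h X J) (g) (hy : v * φ g ∈ N), π' ⟨v * φ g, hy⟩ = φ g := by
    intro v hv g hy
    have e : (⟨v * φ g, hy⟩ : N) = ⟨v, hVN hv⟩ * ⟨φ g, hMN (hφM g)⟩ := rfl
    rw [e, map_mul, hπ'V v _ hv, hπ'M _ _ (hφM g), one_mul]
  have hπr : ∀ y : N, π' y ∈ φ.range := by
    rintro ⟨y, hy⟩
    obtain ⟨v, hv, g, rfl⟩ := hmem y hy
    rw [hπ'φ v hv g]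
    exact ⟨g, rfl⟩
  let ρ : N →* φ.range := π'.codRestrict φ.range hπr
  have hkc : φ.ker ≤ (Subgroup.center (SpecialLinearGroup (Fin (m + 1)) F)).comap (MonoidHom.id _) := fun g hg => C.ker hg
  let ψ : φ.range →* Matrix.ProjectiveSpecialLinearGroup (Fin (m + 1)) F :=
    (QuotientGroup.map φ.ker (Subgroup.center (SpecialLinearGroup (Fin (m + 1)) F)) (MonoidHom.id _) hkc).comp
      (QuotientGroup.quotientKerEquivRange φ).symm.toMonoidHom
  have hψ : ∀ g, ψ ⟨φ g, ⟨g, rfl⟩⟩ = QuotientGroup.mk g := by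
    intro g
    have h1 : (QuotientGroup.quotientKerEquivRange φ).symm ⟨φ g, ⟨g, rfl⟩⟩ = QuotientGroup.mk g := by
      rw [MulEquiv.symm_apply_eq]
      rfl
    change (QuotientGroup.map φ.ker _ (MonoidHom.id _) hkc) ((QuotientGroup.quotientKerEquivRange φ).symm ⟨φ g, ⟨g, rfl⟩⟩) = _
    rw [h1]
    rfl
  have hf : ∀ (v : Y) (hv : v ∈ VJ cs h X J) (g) (hy : v * φ g ∈ N), (ψ.comp ρ) ⟨v * φ g, hy⟩ = QuotientGroup.mk g := by
    intro v hv g hy
    have h1 : ρ ⟨v * φ g, hy⟩ = ⟨φ g, ⟨g, rfl⟩⟩ := Subtype.ext (hπ'φ v hv g hy)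
    rw [MonoidHom.comp_apply, h1, hψ]
  refine ⟨ψ.comp ρ, ?_, ?_⟩
  · intro l
    obtain ⟨g, rfl⟩ := QuotientGroup.mk_surjective l
    have h1 : (1 : Y) * φ g ∈ N := by rw [one_mul]; exact hMN (hφM g)
    exact ⟨⟨1 * φ g, h1⟩, hf 1 (one_mem _) g h1⟩
  · rintro ⟨y, hy⟩ h1
    obtain ⟨v, hv, g, rfl⟩ := hmem y hy
    rw [hf v hv g hy] at h1
    exact mul_mem (Subgroup.mem_sup_left hv) (Subgroup.mem_sup_right ⟨g, (QuotientGroup.eq_one_iff g).1 h1, rfl⟩)

/-- the image of the centre lies in the torus -/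
theorem center_le_T [Finite W] {m : ℕ} (hm : 1 ≤ m) (k : Fin m ↪ I) (hk : ∀ i j, M (k i) (k j) = cA m i j)
    {F : Type} [Field F] {φ : SpecialLinearGroup (Fin (m + 1)) F →* Y} (C : Co X k F φ) :
    (Subgroup.center (SpecialLinearGroup (Fin (m + 1)) F)).map φ ≤ T := by
  rintro _ ⟨g, hg, rfl⟩
  have hrange : φ.range = H53.HC.MJ cs h X (Set.range k) := C.range hk (by omega)
  have hφM : φ g ∈ H53.HC.MJ cs h X (Set.range k) := by rw [← hrange]; exact ⟨g, rfl⟩
  refine Cfsg.Agent.H928.Van.mem_T_of_cj R (J := Set.range k) (H53.HC.MJ_le_LJ _ hφM) fun x hx => ?_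
  obtain ⟨a, b, hab, rfl⟩ := (mem_rootsJ hk).1 hx
  rintro _ ⟨y, hy, rfl⟩
  have h1 : y ∈ (X (cr k a b) : Set Y) := hy
  rw [C.root a b hab] at h1
  obtain ⟨t, rfl⟩ := h1
  change φ g * φ (SpecialLinearGroup.transvection hab t) * (φ g)⁻¹ ∈ _
  have h2 := Subgroup.mem_center_iff.1 hg (SpecialLinearGroup.transvection hab t)
  rw [← map_mul, ← h2, map_mul, mul_inv_cancel_right]
  exact hy

theorem eq1a [Finite W] [Finite Y] [Fact p.Prime] {β : MulAut Y} (D : Diag T X β 1) {z : Y}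
    (hx : (MulAut.conj z * β) ^ 3 = 1)
    (hP : PS 2 (MulAut.conj z * β)) (hR : RN (MulAut.conj z * β)) {J : Set I} (hz : z ∈ PJ cs h T X J) {m : ℕ}
    (hm : 1 ≤ m) (k : Fin m ↪ I) (hk : ∀ i j, M (k i) (k j) = cA m i j) (hkJ : Set.range k ⊆ J)
    (ho : ∀ i ∈ Set.range k, ∀ j ∈ J \ Set.range k, M i j = 2) {F : Type} [Field F] [Fintype F]
    {φ : SpecialLinearGroup (Fin (m + 1)) F →* Y} (C : Co X k F φ)
    (hS : IsSimpleGroup (Matrix.ProjectiveSpecialLinearGroup (Fin (m + 1)) F))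
    (hG3 : G3 (Matrix.ProjectiveSpecialLinearGroup (Fin (m + 1)) F)) {y : Y}
    (hy : y ∈ H53.HC.MJ cs h X (Set.range k)) : y⁻¹ * (MulAut.conj z * β) y ∈ RGD.B cs h T X := by
  obtain ⟨N, hN⟩ : ∃ N : Subgroup Y, N = VJ cs h X J ⊔ H53.HC.MJ cs h X (Set.range k) := ⟨_, rfl⟩
  obtain ⟨f, hfs, hfk⟩ : ∃ f : N →* Matrix.ProjectiveSpecialLinearGroup (Fin (m + 1)) F,
      Function.Surjective f ∧ ∀ y : N, f y = 1 →
        (y : Y) ∈ VJ cs h X J ⊔ (Subgroup.center (SpecialLinearGroup (Fin (m + 1)) F)).map φ := by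
    rw [hN]
    exact exists_proj R (J := J) hm k hk hkJ C
  have hcT := center_le_T R hm k hk C
  have hZB : VJ cs h X J ⊔ (Subgroup.center (SpecialLinearGroup (Fin (m + 1)) F)).map φ ≤ RGD.B cs h T X :=
    sup_le (VJ_le_B J) (le_trans hcT (fun t ht => RGD.T_le_B ht))
  have hNP : PJ cs h T X J ≤ Subgroup.normalizer (N : Set Y) := by
    rw [hN]
    exact PJ_le_normalizer R hkJ ho
  -- `N` is invariant
  have hβ : Fix β N := by
    have e : N = RGD.Sup X (NotJ cs h J ∪ RootsJ cs h (Set.range k)) := by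
      rw [hN]
      apply le_antisymm
      · exact sup_le (RGD.Sup_mono Set.subset_union_left) (RGD.Sup_mono Set.subset_union_right)
      · refine RGD.Sup_le fun x hx => ?_
        rcases hx with hx | hx
        · exact le_trans (RGD.le_Sup hx) (le_sup_left (b := H53.HC.MJ cs h X (Set.range k)))
        · exact le_trans (RGD.le_Sup hx) (le_sup_right (a := VJ cs h X J))
    rw [e]
    refine fix_Sup fun x hx => fix_X R D ?_
    rcases hx with hx | hx
    · exact hx.1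
    · exact hx.1
  have hM : ∀ m ∈ N, (MulAut.conj z * β) m ∈ N := by
    intro m hm
    rw [MulAut.mul_apply, MulAut.conj_apply]
    exact (Subgroup.mem_normalizer_iff.1 (hNP hz) _).1 ((hβ m).2 hm)
  -- the kernel is solvable
  have hVs : Group.IsSolvable ↥(VJ cs h X J) := by
    have h1 : IsPGroup p ↥(VJ cs h X J) := (R.isPGroup_Upos).to_le (VJ_le_U J)
    have := h1.isNilpotent
    infer_instance
  have hCs : Group.IsSolvable ↥((Subgroup.center (SpecialLinearGroup (Fin (m + 1)) F)).map φ) := by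
    refine Group.isSolvable_of_comm ?_
    rintro ⟨_, a, ha, rfl⟩ ⟨_, b, hb, rfl⟩
    apply Subtype.ext
    change φ a * φ b = φ b * φ a
    rw [← map_mul, ← map_mul, Subgroup.mem_center_iff.1 hb a]
  have hks : Group.IsSolvable f.ker := by
    have h1 : Group.IsSolvable ↥(VJ cs h X J ⊔ (Subgroup.center (SpecialLinearGroup (Fin (m + 1)) F)).map φ) := by
      refine Cfsg.Agent.H459.Gallery.isSolvable_sup (M := PJ cs h T X J) VJ_le_PJ ?_ ?_ hVs hCs
      · exact le_trans hcT (fun t ht => B_le_PJ (RGD.T_le_B ht))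
      · intro g hg a ha
        exact (Subgroup.mem_normalizer_iff.1 (PJ_le_normalizer_VJ R J hg) a).1 ha
    let i : f.ker →* ↥(VJ cs h X J ⊔ (Subgroup.center (SpecialLinearGroup (Fin (m + 1)) F)).map φ) :=
      (N.subtype.comp f.ker.subtype).codRestrict _ fun y => hfk y y.2
    refine Group.isSolvable_of_isSolvable_injective (f := i) ?_
    intro a b hab
    have h2 := congrArg Subtype.val hab
    exact Subtype.ext (Subtype.ext h2)
  have hyN : y ∈ N := by
    rw [hN]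
    exact Subgroup.mem_sup_right hy
  have h1 := sec_eq hx hP hR hM (not_isSolvable_psl hm) hG3 f hfs hks ⟨y, hyN⟩
  have h2 : f (⟨y, hyN⟩⁻¹ * ⟨(MulAut.conj z * β) y, hM y hyN⟩) = 1 := by
    rw [map_mul, map_inv, h1, inv_mul_cancel]
  exact hZB (hfk _ h2)

/-- **EQ1a** the components of type `A` of an invariant parabolic subgroup -/
theorem EQ1a [Finite W] [Finite Y] [Fact p.Prime] (_hG : GG cs h T X = ⊤) {β : MulAut Y}
    (_hU : Fix β (RGD.Sup X (RGD.Pos cs h))) (D : Diag T X β 1) {z : Y} (hx : (MulAut.conj z * β) ^ 3 = 1)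
    (hP : PS 2 (MulAut.conj z * β)) (hR : RN (MulAut.conj z * β)) {J : Set I} (hz : z ∈ PJ cs h T X J) {m : ℕ}
    (hm : 1 ≤ m) (k : Fin m ↪ I) (hk : ∀ i j, M (k i) (k j) = cA m i j) (hkJ : Set.range k ⊆ J)
    (ho : ∀ i ∈ Set.range k, ∀ j ∈ J \ Set.range k, M i j = 2) {F : Type} [Field F] [Fintype F]
    {φ : SpecialLinearGroup (Fin (m + 1)) F →* Y} (C : Co X k F φ)
    (hS : IsSimpleGroup (Matrix.ProjectiveSpecialLinearGroup (Fin (m + 1)) F))
    (hG3 : G3 (Matrix.ProjectiveSpecialLinearGroup (Fin (m + 1)) F)) {y : Y}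
    (hy : y ∈ H53.HC.MJ cs h X (Set.range k)) : y⁻¹ * (MulAut.conj z * β) y ∈ RGD.B cs h T X :=
  eq1a R D hx hP hR hz hm k hk hkJ ho C hS hG3 hy

end main

end Cfsg.Agent.H790.SNX
end

-- part: H874/SNX/Sect
section
/-!
# The action on a section of order `81` (S3831, T4b; helper874)

* `exists_lam` : coordinates on `V / K`;
* `exists_rho` : the matrices of the elements normalising `V` and `K`.
-/

set_option autoImplicit false

namespace Cfsg.Agent.H874.SNX

open Subgroup Multiplicative Matrix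

theorem lam_comm {Q : Type*} [CommGroup Q] [Finite Q] (q : Fin 4 → Q) (h3 : ∀ x : Q, x ^ 3 = 1)
    (hgen : closure (Set.range q) = ⊤) (hcard : Nat.card Q = 81) :
    ∃ l : Q ≃* Multiplicative (Fin 4 → ZMod 3), ∀ i, l (q i) = ofAdd (Pi.single i 1) := by
  have : Fact (Nat.Prime 3) := ⟨Nat.prime_three⟩
  let _ : Module (ZMod 3) (Additive Q) := AddCommGroup.zmodModule (n := 3) fun x => by
    have := h3 x.toMul
    exact this
  have hfin : Module.Finite (ZMod 3) (Additive Q) := Module.Finite.of_finite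
  have hrank : Module.finrank (ZMod 3) (Additive Q) = 4 := by
    have h1 := Module.natCard_eq_pow_finrank (K := ZMod 3) (V := Additive Q)
    have h2 : Nat.card (Additive Q) = 81 := hcard
    rw [h2, Nat.card_zmod] at h1
    have h3 : (3 : ℕ) ^ 4 = 3 ^ Module.finrank (ZMod 3) (Additive Q) := by rw [← h1]; norm_num
    exact (Nat.pow_right_injective (le_refl 2 |>.trans (by norm_num)) h3).symm
  have hspan : ⊤ ≤ Submodule.span (ZMod 3) (Set.range fun i => Additive.ofMul (q i)) := by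
    intro x _
    have h1 : x.toMul ∈ closure (Set.range q) := by rw [hgen]; trivial
    have key : ∀ y ∈ closure (Set.range q), Additive.ofMul y ∈ Submodule.span (ZMod 3)
        (Set.range fun i => Additive.ofMul (q i)) := by
      intro y hy
      refine closure_induction (p := fun y _ => Additive.ofMul y ∈ Submodule.span (ZMod 3)
        (Set.range fun i => Additive.ofMul (q i))) ?_ ?_ ?_ ?_ hy
      · rintro _ ⟨i, rfl⟩
        exact Submodule.subset_span ⟨i, rfl⟩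
      · rw [ofMul_one]; exact Submodule.zero_mem _
      · intro a b _ _ ha hb
        rw [ofMul_mul]; exact Submodule.add_mem _ ha hb
      · intro a _ ha
        rw [ofMul_inv]; exact Submodule.neg_mem _ ha
    exact key _ h1
  let b := basisOfTopLeSpanOfCardEqFinrank (fun i => Additive.ofMul (q i)) hspan (by rw [hrank, Fintype.card_fin])
  have hb : ∀ i, b i = Additive.ofMul (q i) := fun i => by
    rw [coe_basisOfTopLeSpanOfCardEqFinrank]
  refine ⟨{ toFun := fun x => ofAdd (b.equivFun (Additive.ofMul x))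
            invFun := fun y => (b.equivFun.symm y.toAdd).toMul
            left_inv := fun x => by simp
            right_inv := fun y => by simp only [ofMul_toMul, LinearEquiv.apply_symm_apply, ofAdd_toAdd]
            map_mul' := fun x y => by rw [ofMul_mul, map_add, ofAdd_add] }, fun i => ?_⟩
  change ofAdd (b.equivFun (Additive.ofMul (q i))) = _
  rw [← hb i]
  congr 1
  funext j
  rw [Module.Basis.equivFun_self, Pi.single_apply]
  by_cases h : j = i
  · subst h; simp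
  · rw [if_neg h, if_neg (fun e => h e.symm)]

theorem exists_lam {Y : Type*} [Group Y] [Finite Y] {V K : Subgroup Y} (hKV : K ≤ V)
    (hN : V ≤ normalizer (K : Set Y)) {e : Fin 4 → Y} (he : ∀ i, e i ∈ V) (h3 : ∀ i, e i ^ 3 ∈ K)
    (hc : ∀ i j, (e j * e i)⁻¹ * (e i * e j) ∈ K) (hgen : V ≤ K ⊔ closure (Set.range e))
    (hcard : Nat.card V = 81 * Nat.card K) :
    ∃ l : V →* Multiplicative (Fin 4 → ZMod 3), (∀ i, l ⟨e i, he i⟩ = ofAdd (Pi.single i 1)) ∧
      ∀ v : V, l v = 1 ↔ (v : Y) ∈ K := by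
  have hnorm : (K.subgroupOf V).Normal := ⟨fun n hn g => by
    rw [mem_subgroupOf] at hn ⊢
    exact (mem_normalizer_iff.1 (hN g.2) _).1 hn⟩
  let q : Fin 4 → V ⧸ K.subgroupOf V := fun i => QuotientGroup.mk ⟨e i, he i⟩
  have hq : closure (Set.range q) = ⊤ := by
    rw [eq_top_iff]
    rintro x -
    obtain ⟨⟨v, hv⟩, rfl⟩ := QuotientGroup.mk_surjective x
    have hN' : K ⊔ closure (Set.range e) ≤ V := sup_le hKV (by
      rw [closure_le]; rintro _ ⟨i, rfl⟩; exact he i)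
    have key : ∀ v (hv : v ∈ K ⊔ closure (Set.range e)), (QuotientGroup.mk ⟨v, hN' hv⟩ : V ⧸ K.subgroupOf V) ∈
        closure (Set.range q) := by
      intro v hv
      have hv0 := hv
      rw [← closure_eq K, ← Subgroup.closure_union] at hv
      refine closure_induction (p := fun v _ => ∀ hv : v ∈ V, (QuotientGroup.mk ⟨v, hv⟩ : V ⧸ K.subgroupOf V) ∈
        closure (Set.range q)) ?_ ?_ ?_ ?_ hv (hN' hv0)
      · rintro v (h | ⟨i, rfl⟩) hvV
        · have : (QuotientGroup.mk ⟨v, hvV⟩ : V ⧸ K.subgroupOf V) = 1 := by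
            rw [QuotientGroup.eq_one_iff, mem_subgroupOf]; exact h
          rw [this]; exact one_mem _
        · exact subset_closure ⟨i, rfl⟩
      · intro h
        exact one_mem _
      · intro a b ha hb iha ihb hab
        have h1 : closure (K ∪ Set.range e) ≤ V := by
          rw [Subgroup.closure_union, closure_eq]; exact hN'
        exact mul_mem (iha (h1 ha)) (ihb (h1 hb))
      · intro a ha iha hab
        have h1 : closure (K ∪ Set.range e) ≤ V := by
          rw [Subgroup.closure_union, closure_eq]; exact hN'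
        exact inv_mem (iha (h1 ha))
    exact key v (hgen hv)
  have hcomm1 : ∀ i j, q i * q j = q j * q i := by
    intro i j
    symm
    change (QuotientGroup.mk (⟨e j, he j⟩ * ⟨e i, he i⟩) : V ⧸ K.subgroupOf V) = QuotientGroup.mk (⟨e i, he i⟩ * ⟨e j, he j⟩)
    rw [QuotientGroup.eq, mem_subgroupOf]
    exact hc i j
  have hcomm : ∀ x y : V ⧸ K.subgroupOf V, x * y = y * x := by
    have h1 : ∀ x : V ⧸ K.subgroupOf V, ∀ i, x * q i = q i * x := by
      intro x i
      have hx : x ∈ closure (Set.range q) := by rw [hq]; trivial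
      have h2 : closure (Set.range q) ≤ centralizer {q i} := by
        rw [closure_le]
        rintro _ ⟨j, rfl⟩
        exact mem_centralizer_singleton_iff.2 (hcomm1 j i)
      exact mem_centralizer_singleton_iff.1 (h2 hx)
    intro x y
    have hy : y ∈ closure (Set.range q) := by rw [hq]; trivial
    have h2 : closure (Set.range q) ≤ centralizer {x} := by
      rw [closure_le]
      rintro _ ⟨j, rfl⟩
      exact mem_centralizer_singleton_iff.2 (h1 x j).symm
    exact (mem_centralizer_singleton_iff.1 (h2 hy)).symm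
  let _ : CommGroup (V ⧸ K.subgroupOf V) := { (inferInstance : Group (V ⧸ K.subgroupOf V)) with mul_comm := hcomm }
  have hcube : ∀ x : V ⧸ K.subgroupOf V, x ^ 3 = 1 := by
    intro x
    have hx : x ∈ closure (Set.range q) := by rw [hq]; trivial
    refine closure_induction (p := fun x _ => x ^ 3 = 1) ?_ ?_ ?_ ?_ hx
    · rintro _ ⟨i, rfl⟩
      change (QuotientGroup.mk (⟨e i, he i⟩ ^ 3) : V ⧸ K.subgroupOf V) = 1
      rw [QuotientGroup.eq_one_iff, mem_subgroupOf]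
      exact h3 i
    · exact one_pow 3
    · intro a b _ _ ha hb
      rw [mul_pow, ha, hb, one_mul]
    · intro a _ ha
      rw [inv_pow, ha, inv_one]
  have hcQ : Nat.card (V ⧸ K.subgroupOf V) = 81 := by
    have h1 := card_eq_card_quotient_mul_card_subgroup (K.subgroupOf V)
    have h2 : Nat.card (K.subgroupOf V) = Nat.card K := Nat.card_congr (subgroupOfEquivOfLe hKV).toEquiv
    rw [hcard, h2] at h1
    exact (Nat.eq_of_mul_eq_mul_right Nat.card_pos h1).symm
  obtain ⟨l, hl⟩ := lam_comm q hcube hq hcQ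
  refine ⟨l.toMonoidHom.comp (QuotientGroup.mk' (K.subgroupOf V)), hl, fun v => ?_⟩
  change l (QuotientGroup.mk v) = 1 ↔ _
  rw [← map_one l, l.injective.eq_iff, QuotientGroup.eq_one_iff, mem_subgroupOf]

theorem lam_surjective {Y : Type*} [Group Y] {V : Subgroup Y} (l : V →* Multiplicative (Fin 4 → ZMod 3)) {e : Fin 4 → V}
    (hl : ∀ i, l (e i) = ofAdd (Pi.single i 1)) : Function.Surjective l := by
  intro c
  refine ⟨e 0 ^ (c.toAdd 0).val * e 1 ^ (c.toAdd 1).val * e 2 ^ (c.toAdd 2).val * e 3 ^ (c.toAdd 3).val, ?_⟩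
  rw [map_mul, map_mul, map_mul, map_pow, map_pow, map_pow, map_pow, hl, hl, hl, hl]
  apply toAdd.injective
  rw [toAdd_mul, toAdd_mul, toAdd_mul, toAdd_pow, toAdd_pow, toAdd_pow, toAdd_pow, toAdd_ofAdd, toAdd_ofAdd, toAdd_ofAdd,
    toAdd_ofAdd]
  funext k
  fin_cases k <;>
    simp only [Pi.add_apply, Pi.smul_apply, Pi.single_apply, Fin.zero_eta, Fin.mk_one, Fin.reduceFinMk, Fin.isValue,
      Fin.reduceEq, if_true, if_false, smul_zero, add_zero, zero_add, nsmul_one, ZMod.natCast_zmod_val, zero_ne_one, one_ne_zero]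

/-- **the matrices** -/
theorem exists_rho {Y : Type*} [Group Y] {V K : Subgroup Y} (l : V →* Multiplicative (Fin 4 → ZMod 3))
    (hs : Function.Surjective l) (hk : ∀ v : V, l v = 1 ↔ (v : Y) ∈ K) :
    ∃ ρ : ↥(normalizer (V : Set Y) ⊓ normalizer (K : Set Y)) →* M4ˣ,
      ∀ (g : ↥(normalizer (V : Set Y) ⊓ normalizer (K : Set Y))) (v : V) (h : (g : Y) * v * (g : Y)⁻¹ ∈ V),
        toAdd (l ⟨g * v * (g : Y)⁻¹, h⟩) = ((ρ g : M4ˣ) : M4) *ᵥ toAdd (l v) := by
  obtain ⟨N, hN⟩ : ∃ N, N = normalizer (V : Set Y) ⊓ normalizer (K : Set Y) := ⟨_, rfl⟩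
  rw [← hN]
  have hV : ∀ (g : N) (v : V), (g : Y) * v * (g : Y)⁻¹ ∈ V := fun g v => by
    have h1 : (g : Y) ∈ normalizer (V : Set Y) ⊓ normalizer (K : Set Y) := hN ▸ g.2
    exact (mem_normalizer_iff.1 h1.1 _).1 v.2
  have hK : ∀ (g : N) (v : Y), v ∈ K → (g : Y) * v * (g : Y)⁻¹ ∈ K := fun g v hv => by
    have h1 : (g : Y) ∈ normalizer (V : Set Y) ⊓ normalizer (K : Set Y) := hN ▸ g.2
    exact (mem_normalizer_iff.1 h1.2 _).1 hv
  let f : N → V →* Multiplicative (Fin 4 → ZMod 3) := fun g =>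
    { toFun := fun v => l ⟨g * v * (g : Y)⁻¹, hV g v⟩
      map_one' := by
        rw [← map_one l]; congr 1; apply Subtype.ext; simp
      map_mul' := fun v w => by
        rw [← map_mul]; congr 1; apply Subtype.ext
        change (g : Y) * (v * w) * (g : Y)⁻¹ = (g * v * (g : Y)⁻¹) * (g * w * (g : Y)⁻¹)
        group }
  have hf : ∀ g v w, l v = l w → f g v = f g w := by
    intro g v w hvw
    have h1 : l (v⁻¹ * w) = 1 := by rw [map_mul, map_inv, hvw, inv_mul_cancel]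
    have h2 := hK g _ ((hk _).1 h1)
    have h3 : f g (v⁻¹ * w) = 1 := (hk _).2 h2
    rw [map_mul, map_inv, inv_mul_eq_one] at h3
    exact h3
  choose s hsl using hs
  let φ : N → ((Fin 4 → ZMod 3) →+ (Fin 4 → ZMod 3)) := fun g =>
    { toFun := fun c => toAdd (f g (s (ofAdd c)))
      map_zero' := by
        have h1 : f g (s (ofAdd 0)) = f g 1 := hf g _ _ (by rw [hsl, map_one]; rfl)
        rw [h1, map_one]; rfl
      map_add' := fun c d => by
        have h1 : f g (s (ofAdd (c + d))) = f g (s (ofAdd c) * s (ofAdd d)) := hf g _ _ (by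
          rw [hsl, map_mul, hsl, hsl, ofAdd_add])
        rw [h1, map_mul, toAdd_mul] }
  have hφ : ∀ g v, φ g (toAdd (l v)) = toAdd (f g v) := by
    intro g v
    change toAdd (f g (s (ofAdd (toAdd (l v))))) = _
    rw [ofAdd_toAdd, hf g (s (l v)) v (hsl _)]
  have hφ1 : φ 1 = AddMonoidHom.id _ := by
    refine AddMonoidHom.ext fun c => ?_
    obtain ⟨v, hv⟩ : ∃ v, l v = ofAdd c := ⟨s (ofAdd c), hsl _⟩
    have h1 := hφ 1 v
    rw [hv, toAdd_ofAdd] at h1
    rw [h1, AddMonoidHom.id_apply]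
    have h2 : f 1 v = l v := by
      change l ⟨_, _⟩ = l v
      congr 1; apply Subtype.ext; simp
    rw [h2, hv, toAdd_ofAdd]
  have hφm : ∀ g g', φ (g * g') = (φ g).comp (φ g') := by
    intro g g'
    refine AddMonoidHom.ext fun c => ?_
    obtain ⟨v, hv⟩ : ∃ v, l v = ofAdd c := ⟨s (ofAdd c), hsl _⟩
    have h1 := hφ (g * g') v
    have h2 := hφ g' v
    rw [hv, toAdd_ofAdd] at h1 h2
    rw [AddMonoidHom.comp_apply, h1, h2]
    have h3 := hφ g ⟨g' * v * (g' : Y)⁻¹, hV g' v⟩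
    change _ = φ g (toAdd (l ⟨g' * v * (g' : Y)⁻¹, hV g' v⟩))
    rw [h3]
    congr 1
    change l ⟨_, _⟩ = l ⟨_, _⟩
    congr 1; apply Subtype.ext
    change ((g * g' : N) : Y) * v * ((g * g' : N) : Y)⁻¹ = g * (g' * v * (g' : Y)⁻¹) * (g : Y)⁻¹
    rw [Subgroup.coe_mul]
    group
  let m : N →* M4 :=
    { toFun := fun g => LinearMap.toMatrix' ((φ g).toZModLinearMap 3)
      map_one' := by
        rw [hφ1]
        have : (AddMonoidHom.id (Fin 4 → ZMod 3)).toZModLinearMap 3 = LinearMap.id := by ext; rfl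
        rw [this, LinearMap.toMatrix'_id]
      map_mul' := fun g g' => by
        rw [hφm]
        have : ((φ g).comp (φ g')).toZModLinearMap 3 = ((φ g).toZModLinearMap 3).comp ((φ g').toZModLinearMap 3) := by
          apply LinearMap.ext; intro x; rfl
        rw [this, LinearMap.toMatrix'_comp] }
  refine ⟨m.toHomUnits, fun g v h => ?_⟩
  rw [MonoidHom.coe_toHomUnits]
  change _ = LinearMap.toMatrix' ((φ g).toZModLinearMap 3) *ᵥ _
  rw [LinearMap.toMatrix'_mulVec]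
  change _ = φ g (toAdd (l v))
  rw [hφ]
  rfl

end Cfsg.Agent.H874.SNX
end

-- part: H874/SNX/LevA
section
/-!
# The action of the Levi subgroup `{1, 2}` of `F₄(3)` on a section of order `81` (S3831, T4b; helper874)
-/

set_option autoImplicit false
set_option linter.unusedSectionVars false
set_option Elab.async false

namespace Cfsg.Agent.H874.SNX

open CoxeterSystem Cfsg.Agent.ChevalleyStructure.CoxeterGeom Cfsg.Agent.Tits.Roots Cfsg.Agent.Tits.Core
  Cfsg.Agent.Tits.Exchange Cfsg.Agent.Nodes.Reps Cfsg.Agent.Nodes.BNOf Cfsg.Agent.Nodes.StabComb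
  Cfsg.Agent.Nodes.Bruhat Cfsg.Agent.Nodes.OppDec Cfsg.Agent.Nodes.Unique Cfsg.Agent.Nodes.CardSup
open Multiplicative Matrix
open scoped commutatorElement

/-- the roots of `V` -/
def SV : List (Fin 4 → ℤ) := LF.filter fun x => decide (0 < x 0 ∨ 0 < x 3)

/-- the roots of `K` -/
def SK : List (Fin 4 → ℤ) := LF.filter fun x => decide (1 < x 0 ∨ 0 < x 3)

/-- the four roots of the section -/
def rr : Fin 4 → (Fin 4 → ℤ) := ![![1, 0, 0, 0], ![1, 1, 0, 0], ![1, 1, 1, 0], ![1, 2, 1, 0]]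

theorem SV_LF : ∀ x ∈ SV, x ∈ LF := fun _ hx => (List.mem_filter.1 hx).1
theorem SK_LF : ∀ x ∈ SK, x ∈ LF := fun _ hx => (List.mem_filter.1 hx).1
theorem SK_SV : ∀ x ∈ SK, x ∈ SV := by decide +kernel
theorem rr_SV : ∀ i, rr i ∈ SV := by decide +kernel
theorem SV_or : ∀ x ∈ SV, x ∈ SK ∨ ∃ i, x = rr i := by decide +kernel

/-- the roots `± α₁`, `± α₂` -/
def J4 : List (Fin 4 → ℤ) := [sr 1, sr 2, -sr 1, -sr 2]

/-- coordinates as tuples (fast kernel evaluation) -/
private abbrev V4 : Type := ℤ × ℤ × ℤ × ℤ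

private def tup (x : Fin 4 → ℤ) : V4 := (x 0, x 1, x 2, x 3)

private theorem tup_inj {x y : Fin 4 → ℤ} (h : tup x = tup y) : x = y := by
  simp only [tup, Prod.mk.injEq] at h
  obtain ⟨h0, h1, h2, h3⟩ := h
  funext k
  match k with
  | 0 => exact h0
  | 1 => exact h1
  | 2 => exact h2
  | 3 => exact h3

private def eqv (x y : V4) : Bool :=
  decide (x.1 = y.1) && (decide (x.2.1 = y.2.1) && (decide (x.2.2.1 = y.2.2.1) && decide (x.2.2.2 = y.2.2.2)))

private theorem eqv_iff {x y : V4} : eqv x y = true ↔ x = y := by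
  obtain ⟨a, b, c, d⟩ := x
  obtain ⟨a', b', c', d'⟩ := y
  simp only [eqv, Bool.and_eq_true, decide_eq_true_iff, Prod.mk.injEq]

private def memv (L : List V4) (x : V4) : Bool := L.any fun y => eqv x y

private theorem memv_iff {L : List V4} {x : V4} : memv L x = true ↔ x ∈ L := by
  simp only [memv, List.any_eq_true, eqv_iff, exists_eq_right']

private theorem mem_of_tup {L : List (Fin 4 → ℤ)} {x : Fin 4 → ℤ} (h : tup x ∈ L.map tup) : x ∈ L := by
  obtain ⟨y, hy, e⟩ := List.mem_map.1 h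
  rw [← tup_inj e]
  exact hy

private def cv (a b c d e f : ℤ) : Bool :=
  decide ((e * d - f * c).sign = (a * d - b * c).sign) && decide ((a * f - b * e).sign = (a * d - b * c).sign)

private def btv (x y z : V4) : Bool :=
  cv x.1 x.2.1 y.1 y.2.1 z.1 z.2.1 && (cv x.2.1 x.2.2.1 y.2.1 y.2.2.1 z.2.1 z.2.2.1 &&
  (cv x.2.2.1 x.2.2.2 y.2.2.1 y.2.2.2 z.2.2.1 z.2.2.2 && (cv x.1 x.2.2.1 y.1 y.2.2.1 z.1 z.2.2.1 &&
  (cv x.2.1 x.2.2.2 y.2.1 y.2.2.2 z.2.1 z.2.2.2 && cv x.1 x.2.2.2 y.1 y.2.2.2 z.1 z.2.2.2))))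

private theorem btv_of {x y z : Fin 4 → ℤ} (h : bt x y z = true) : btv (tup x) (tup y) (tup z) = true := by
  rw [bt, decide_eq_true_iff] at h
  simp only [btv, cv, Bool.and_eq_true, decide_eq_true_iff]
  exact ⟨h 0 1, h 1 2, h 2 3, h 0 2, h 1 3, h 0 3⟩

private def addv (x y : V4) : V4 := (x.1 + y.1, x.2.1 + y.2.1, x.2.2.1 + y.2.2.1, x.2.2.2 + y.2.2.2)

private def LFv : List V4 := [(1, 0, 0, 0), (0, 1, 0, 0), (0, 0, 1, 0), (0, 0, 0, 1), (1, 1, 0, 0), (0, 1, 1, 0), (0, 0, 1, 1),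
  (1, 1, 1, 0), (0, 2, 1, 0), (0, 1, 1, 1), (1, 2, 1, 0), (1, 1, 1, 1), (0, 2, 1, 1), (2, 2, 1, 0),
  (1, 2, 1, 1), (0, 2, 2, 1), (2, 2, 1, 1), (1, 2, 2, 1), (2, 2, 2, 1), (1, 3, 2, 1), (2, 3, 2, 1),
  (2, 4, 2, 1), (2, 4, 3, 1), (2, 4, 3, 2)]

private def RTv : List V4 := [(1, 0, 0, 0), (0, 1, 0, 0), (0, 0, 1, 0), (0, 0, 0, 1), (1, 1, 0, 0), (0, 1, 1, 0), (0, 0, 1, 1),
  (1, 1, 1, 0), (0, 2, 1, 0), (0, 1, 1, 1), (1, 2, 1, 0), (1, 1, 1, 1), (0, 2, 1, 1), (2, 2, 1, 0),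
  (1, 2, 1, 1), (0, 2, 2, 1), (2, 2, 1, 1), (1, 2, 2, 1), (2, 2, 2, 1), (1, 3, 2, 1), (2, 3, 2, 1),
  (2, 4, 2, 1), (2, 4, 3, 1), (2, 4, 3, 2), (-1, 0, 0, 0), (0, -1, 0, 0), (0, 0, -1, 0), (0, 0, 0, -1),
  (-1, -1, 0, 0), (0, -1, -1, 0), (0, 0, -1, -1), (-1, -1, -1, 0), (0, -2, -1, 0), (0, -1, -1, -1),
  (-1, -2, -1, 0), (-1, -1, -1, -1), (0, -2, -1, -1), (-2, -2, -1, 0), (-1, -2, -1, -1),
  (0, -2, -2, -1), (-2, -2, -1, -1), (-1, -2, -2, -1), (-2, -2, -2, -1), (-1, -3, -2, -1),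
  (-2, -3, -2, -1), (-2, -4, -2, -1), (-2, -4, -3, -1), (-2, -4, -3, -2)]

private def SVv : List V4 := [(1, 0, 0, 0), (0, 0, 0, 1), (1, 1, 0, 0), (0, 0, 1, 1), (1, 1, 1, 0), (0, 1, 1, 1), (1, 2, 1, 0),
  (1, 1, 1, 1), (0, 2, 1, 1), (2, 2, 1, 0), (1, 2, 1, 1), (0, 2, 2, 1), (2, 2, 1, 1), (1, 2, 2, 1),
  (2, 2, 2, 1), (1, 3, 2, 1), (2, 3, 2, 1), (2, 4, 2, 1), (2, 4, 3, 1), (2, 4, 3, 2)]

private def SKv : List V4 := [(0, 0, 0, 1), (0, 0, 1, 1), (0, 1, 1, 1), (1, 1, 1, 1), (0, 2, 1, 1), (2, 2, 1, 0), (1, 2, 1, 1),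
  (0, 2, 2, 1), (2, 2, 1, 1), (1, 2, 2, 1), (2, 2, 2, 1), (1, 3, 2, 1), (2, 3, 2, 1), (2, 4, 2, 1),
  (2, 4, 3, 1), (2, 4, 3, 2)]

private def XJv : List V4 := [(1, 0, 0, 0), (0, 1, 0, 0), (0, 0, 1, 0), (0, 0, 0, 1), (1, 1, 0, 0), (0, 1, 1, 0), (0, 0, 1, 1),
  (1, 1, 1, 0), (0, 2, 1, 0), (0, 1, 1, 1), (1, 2, 1, 0), (1, 1, 1, 1), (0, 2, 1, 1), (2, 2, 1, 0),
  (1, 2, 1, 1), (0, 2, 2, 1), (2, 2, 1, 1), (1, 2, 2, 1), (2, 2, 2, 1), (1, 3, 2, 1), (2, 3, 2, 1),
  (2, 4, 2, 1), (2, 4, 3, 1), (2, 4, 3, 2), (0, 1, 0, 0), (0, 0, 1, 0), (0, -1, 0, 0), (0, 0, -1, 0)]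

private def nSV : List V4 := [(0, 1, 0, 0), (0, 0, 1, 0), (0, 1, 1, 0), (0, 2, 1, 0), (-1, 0, 0, 0), (0, -1, 0, 0), (0, 0, -1, 0),
  (0, 0, 0, -1), (-1, -1, 0, 0), (0, -1, -1, 0), (0, 0, -1, -1), (-1, -1, -1, 0), (0, -2, -1, 0),
  (0, -1, -1, -1), (-1, -2, -1, 0), (-1, -1, -1, -1), (0, -2, -1, -1), (-2, -2, -1, 0),
  (-1, -2, -1, -1), (0, -2, -2, -1), (-2, -2, -1, -1), (-1, -2, -2, -1), (-2, -2, -2, -1),
  (-1, -3, -2, -1), (-2, -3, -2, -1), (-2, -4, -2, -1), (-2, -4, -3, -1), (-2, -4, -3, -2)]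

private def nSK : List V4 := [(1, 0, 0, 0), (0, 1, 0, 0), (0, 0, 1, 0), (1, 1, 0, 0), (0, 1, 1, 0), (1, 1, 1, 0), (0, 2, 1, 0),
  (1, 2, 1, 0), (-1, 0, 0, 0), (0, -1, 0, 0), (0, 0, -1, 0), (0, 0, 0, -1), (-1, -1, 0, 0),
  (0, -1, -1, 0), (0, 0, -1, -1), (-1, -1, -1, 0), (0, -2, -1, 0), (0, -1, -1, -1), (-1, -2, -1, 0),
  (-1, -1, -1, -1), (0, -2, -1, -1), (-2, -2, -1, 0), (-1, -2, -1, -1), (0, -2, -2, -1),
  (-2, -2, -1, -1), (-1, -2, -2, -1), (-2, -2, -2, -1), (-1, -3, -2, -1), (-2, -3, -2, -1),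
  (-2, -4, -2, -1), (-2, -4, -3, -1), (-2, -4, -3, -2)]

private theorem LFv_eq : LF.map tup = LFv := by decide +kernel
private theorem RTv_eq : RT.map tup = RTv := by decide +kernel
private theorem SVv_eq : SV.map tup = SVv := by decide +kernel
private theorem SKv_eq : SK.map tup = SKv := by decide +kernel
private theorem XJv_eq : (LF ++ J4).map tup = XJv := by decide +kernel

private def okv (N : List V4) (x y : V4) : Bool :=
  !eqv (addv x y) (0, 0, 0, 0) && (!memv RTv (addv x y) || (!eqv x y && N.all fun z => !btv x y z))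

private theorem cl_of {L Z : List (Fin 4 → ℤ)} {Lv Zv N : List V4} (hL : L.map tup = Lv) (hZ : Z.map tup = Zv)
    (hN : (Zv.all fun z => memv Lv z || memv N z) = true) {x y : Fin 4 → ℤ}
    (h : (N.all fun z => !btv (tup x) (tup y) z) = true) : ∀ z ∈ Z, bt x y z = true → z ∈ L := by
  intro z hz hb
  have h1 := List.all_eq_true.1 hN (tup z) (hZ ▸ List.mem_map_of_mem hz)
  rw [Bool.or_eq_true, memv_iff, memv_iff] at h1
  rcases h1 with h1 | h1
  · exact mem_of_tup (hL ▸ h1)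
  · have h2 := List.all_eq_true.1 h _ h1
    rw [btv_of hb] at h2
    exact absurd h2 (by decide)

private theorem ok_of {L : List (Fin 4 → ℤ)} {Lv N : List V4} (hL : L.map tup = Lv)
    (hN : (RTv.all fun z => memv Lv z || memv N z) = true) {x y : Fin 4 → ℤ}
    (h : okv N (tup x) (tup y) = true) : ok L x y = true := by
  rw [okv, Bool.and_eq_true, Bool.or_eq_true, Bool.and_eq_true, Bool.not_eq_true', Bool.not_eq_true',
    Bool.not_eq_true', ← Bool.not_eq_true, ← Bool.not_eq_true, ← Bool.not_eq_true, eqv_iff, eqv_iff, memv_iff] at h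
  have e : addv (tup x) (tup y) = tup (x + y) := rfl
  rw [e] at h
  rw [ok, decide_eq_true_iff]
  refine ⟨fun h0 => h.1 ?_, h.2.imp (fun h1 h2 => h1 ?_) fun h1 => ⟨fun h2 => h1.1 (by rw [h2]), cl_of hL RTv_eq hN h1.2⟩⟩
  · rw [h0, neg_add_cancel]
    rfl
  · exact RTv_eq ▸ List.mem_map_of_mem h2

private theorem all2 {X Y : List (Fin 4 → ℤ)} {Xv Yv : List V4} (hX : X.map tup = Xv) (hY : Y.map tup = Yv)
    {f : V4 → V4 → Bool} (h : (Xv.all fun x => Yv.all fun y => f x y) = true) {x y : Fin 4 → ℤ} (hx : x ∈ X)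
    (hy : y ∈ Y) : f (tup x) (tup y) = true :=
  List.all_eq_true.1 (List.all_eq_true.1 h (tup x) (hX ▸ List.mem_map_of_mem hx)) (tup y) (hY ▸ List.mem_map_of_mem hy)

private theorem covV : (RTv.all fun z => memv SVv z || memv nSV z) = true := by decide +kernel
private theorem covK : (RTv.all fun z => memv SKv z || memv nSK z) = true := by decide +kernel

private noncomputable def _root_.Cfsg.Agent.LsF.ffb6bc4_0 : {f // @Cfsg.Agent.H874.SNX.eqv = f} := ⟨_, by first | (delta Cfsg.Agent.H874.SNX.eqv; rewrite [Cfsg.Agent.LsF.and_eq, Cfsg.Agent.LsF.instIDecEq_eq, Cfsg.Agent.LsF.decide_eq]; exact rfl) | exact rfl⟩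
private noncomputable def _root_.Cfsg.Agent.LsF.ffb6bc4_1 : {f // @Cfsg.Agent.H874.SNX.addv = f} := ⟨_, by first | (delta Cfsg.Agent.H874.SNX.addv; rewrite [Cfsg.Agent.LsF.iadd_pat]; exact rfl) | exact rfl⟩
private noncomputable def _root_.Cfsg.Agent.LsF.ffb6bc4_2 : {f // @Cfsg.Agent.H874.SNX.memv = f} := ⟨_, by first | (delta Cfsg.Agent.H874.SNX.memv; rewrite [Cfsg.Agent.LsF.ffb6bc4_0.2, Cfsg.Agent.LsF.any_eq]; exact rfl) | exact rfl⟩
private noncomputable def _root_.Cfsg.Agent.LsF.ffb6bc4_3 : {f // @Int.sign = f} := ⟨_, by first | (delta Int.sign; rewrite [Cfsg.Agent.LsF.ineg_pat]; (try delta Int.sign.match_1); (try delta Int.casesOn Nat.casesOn); exact rfl) | exact rfl⟩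
private noncomputable def _root_.Cfsg.Agent.LsF.ffb6bc4_4 : {f // @Cfsg.Agent.H874.SNX.cv = f} := ⟨_, by first | (delta Cfsg.Agent.H874.SNX.cv; rewrite [Cfsg.Agent.LsF.ffb6bc4_3.2, Cfsg.Agent.LsF.imul_pat, Cfsg.Agent.LsF.isub_pat, Cfsg.Agent.LsF.and_eq, Cfsg.Agent.LsF.instIDecEq_eq, Cfsg.Agent.LsF.decide_eq]; exact rfl) | exact rfl⟩
private noncomputable def _root_.Cfsg.Agent.LsF.ffb6bc4_5 : {f // @Cfsg.Agent.H874.SNX.btv = f} := ⟨_, by first | (delta Cfsg.Agent.H874.SNX.btv; rewrite [Cfsg.Agent.LsF.ffb6bc4_4.2, Cfsg.Agent.LsF.and_eq]; exact rfl) | exact rfl⟩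
private noncomputable def _root_.Cfsg.Agent.LsF.ffb6bc4_6 : {f // @Cfsg.Agent.H874.SNX.okv = f} := ⟨_, by first | (delta Cfsg.Agent.H874.SNX.okv; rewrite [Cfsg.Agent.LsF.ffb6bc4_0.2, Cfsg.Agent.LsF.ffb6bc4_1.2, Cfsg.Agent.LsF.ffb6bc4_2.2, Cfsg.Agent.LsF.ffb6bc4_5.2, Cfsg.Agent.LsF.and_eq, Cfsg.Agent.LsF.or_eq, Cfsg.Agent.LsF.not_eq, Cfsg.Agent.LsF.all_eq]; exact rfl) | exact rfl⟩
theorem okV : ∀ x ∈ LF ++ J4, ∀ y ∈ SV, ok SV x y = true := fun _ hx _ hy =>
  ok_of SVv_eq covV (all2 XJv_eq SVv_eq (f := okv nSV) (by ((try (rewrite [Cfsg.Agent.LsF.ffb6bc4_6.2, Cfsg.Agent.LsF.all_eq])); decide +kernel)) hx hy)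
theorem okK : ∀ x ∈ LF ++ J4, ∀ y ∈ SK, ok SK x y = true := fun _ hx _ hy =>
  ok_of SKv_eq covK (all2 XJv_eq SKv_eq (f := okv nSK) (by ((try (rewrite [Cfsg.Agent.LsF.ffb6bc4_6.2, Cfsg.Agent.LsF.all_eq])); decide +kernel)) hx hy)
theorem ok0 : ∀ x ∈ SV, ∀ j, ok SK x (rr j) = true := fun _ hx j =>
  ok_of SKv_eq covK (all2 SVv_eq (Y := [rr 0, rr 1, rr 2, rr 3]) (Yv := [(1, 0, 0, 0), (1, 1, 0, 0), (1, 1, 1, 0), (1, 2, 1, 0)])
    (by decide +kernel) (f := okv nSK) (by ((try (rewrite [Cfsg.Agent.LsF.ffb6bc4_6.2, Cfsg.Agent.LsF.all_eq])); decide +kernel)) hx (by revert j; decide +kernel))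

/-- `± α₁`, `± α₂` -/
def j4 : Fin 4 → (Fin 4 → ℤ) := ![sr 1, sr 2, -sr 1, -sr 2]

/-- the images -/
def tg : Fin 4 → Fin 4 → List (Fin 4 → ℤ) := ![![rr 1 :: SK, SK, rr 3 :: SK, SK], ![SK, rr 2 :: SK, SK, SK],
  ![SK, rr 0 :: SK, SK, rr 2 :: SK], ![SK, SK, rr 1 :: SK, SK]]

private noncomputable def _root_.Cfsg.Agent.LsF.ffb6bc4_7 : {f // @Cfsg.Agent.H874.SNX.LF = f} := ⟨_, by first | (delta Cfsg.Agent.H874.SNX.LF; rewrite [Cfsg.Agent.LsF.vecCons_eq]; exact rfl) | exact rfl⟩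
private noncomputable def _root_.Cfsg.Agent.LsF.ffb6bc4_8 : {f // @Cfsg.Agent.H874.SNX.RT = f} := ⟨_, by first | (delta Cfsg.Agent.H874.SNX.RT; rewrite [Cfsg.Agent.LsF.pneg_pat, Cfsg.Agent.LsF.ffb6bc4_7.2, Cfsg.Agent.LsF.ineg_pat, Cfsg.Agent.LsF.lappend_pat, Cfsg.Agent.LsF.map_eq]; exact rfl) | exact rfl⟩
private noncomputable def _root_.Cfsg.Agent.LsF.ffb6bc4_9 : {f // @Cfsg.Agent.H874.SNX.dd = f} := ⟨_, by first | (delta Cfsg.Agent.H874.SNX.dd; rewrite [Cfsg.Agent.LsF.imul_pat, Cfsg.Agent.LsF.isub_pat]; exact rfl) | exact rfl⟩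
private noncomputable def _root_.Cfsg.Agent.LsF.ffb6bc4_10 : {f // @Cfsg.Agent.H874.SNX.bt = f} := ⟨_, by first | (delta Cfsg.Agent.H874.SNX.bt; rewrite [Cfsg.Agent.LsF.ffb6bc4_3.2, Cfsg.Agent.LsF.ffb6bc4_9.2, Cfsg.Agent.LsF.instIDecEq_eq, Cfsg.Agent.LsF.dAnd_eq, Cfsg.Agent.LsF.dForallFin_eq, Cfsg.Agent.LsF.decide_eq]; exact rfl) | exact rfl⟩
private noncomputable def _root_.Cfsg.Agent.LsF.ffb6bc4_11 : {f // @Cfsg.Agent.H874.SNX.ok = f} := ⟨_, by first | (delta Cfsg.Agent.H874.SNX.ok; rewrite [Cfsg.Agent.LsF.padd_pat, Cfsg.Agent.LsF.pneg_pat, Cfsg.Agent.LsF.dMemE_pat, Cfsg.Agent.LsF.ffb6bc4_8.2, Cfsg.Agent.LsF.ffb6bc4_10.2, Cfsg.Agent.LsF.iadd_pat, Cfsg.Agent.LsF.ineg_pat, Cfsg.Agent.LsF.finFintype_eq, Cfsg.Agent.LsF.dPi_eq, Cfsg.Agent.LsF.instIDecEq_eq, Cfsg.Agent.LsF.dAnd_eq, Cfsg.Agent.LsF.dOr_eq, Cfsg.Agent.LsF.dNot_eq, Cfsg.Agent.LsF.dBoolEq_eq, Cfsg.Agent.LsF.dBAll_eq, Cfsg.Agent.LsF.dAllP_eq, Cfsg.Agent.LsF.decide_eq]; exact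 rfl) | exact rfl⟩
private noncomputable def _root_.Cfsg.Agent.LsF.ffb6bc4_12 : {f // @Cfsg.Agent.H874.SNX.rr = f} := ⟨_, by first | (delta Cfsg.Agent.H874.SNX.rr; rewrite [Cfsg.Agent.LsF.vecCons_eq]; exact rfl) | exact rfl⟩
private noncomputable def _root_.Cfsg.Agent.LsF.ffb6bc4_13 : {f // @Cfsg.Agent.H874.SNX.SK = f} := ⟨_, by first | (delta Cfsg.Agent.H874.SNX.SK; rewrite [Cfsg.Agent.LsF.ffb6bc4_7.2, Cfsg.Agent.LsF.filter_eq, Cfsg.Agent.LsF.idecLt_eq, Cfsg.Agent.LsF.dOr_eq, Cfsg.Agent.LsF.decide_eq]; exact rfl) | exact rfl⟩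
private noncomputable def _root_.Cfsg.Agent.LsF.ffb6bc4_14 : {f // @Cfsg.Agent.H874.SNX.tg = f} := ⟨_, by first | (delta Cfsg.Agent.H874.SNX.tg; rewrite [Cfsg.Agent.LsF.ffb6bc4_12.2, Cfsg.Agent.LsF.ffb6bc4_13.2, Cfsg.Agent.LsF.vecCons_eq]; exact rfl) | exact rfl⟩
private noncomputable def _root_.Cfsg.Agent.LsF.ffb6bc4_15 : {f // @Cfsg.Agent.H874.SNX.j4 = f} := ⟨_, by first | (delta Cfsg.Agent.H874.SNX.j4 Function.update Pi.single Cfsg.Agent.Tits.Roots.sr; rewrite [Cfsg.Agent.LsF.pneg_pat, Cfsg.Agent.LsF.ineg_pat, Cfsg.Agent.LsF.vecCons_eq, Cfsg.Agent.LsF.dFinEq_eq, Cfsg.Agent.LsF.dite_eq]; exact rfl) | exact rfl⟩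
theorem okt : ∀ k j, ok (tg k j) (j4 k) (rr j) = true := by (refine of_decide_eq_true ?_; (try (rewrite [Cfsg.Agent.LsF.ffb6bc4_11.2, Cfsg.Agent.LsF.ffb6bc4_14.2, Cfsg.Agent.LsF.ffb6bc4_15.2, Cfsg.Agent.LsF.ffb6bc4_12.2, Cfsg.Agent.LsF.dBoolEq_eq, Cfsg.Agent.LsF.dForallFin_eq, Cfsg.Agent.LsF.decide_eq])); decide +kernel)

theorem clV : ∀ x ∈ SV, ∀ y ∈ SV, ∀ z ∈ LF, bt x y z = true → z ∈ SV := fun _ hx _ hy =>
  cl_of SVv_eq LFv_eq (N := [(0, 1, 0, 0), (0, 0, 1, 0), (0, 1, 1, 0), (0, 2, 1, 0)]) (by decide +kernel)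
    (all2 SVv_eq SVv_eq (f := fun x y => ([(0, 1, 0, 0), (0, 0, 1, 0), (0, 1, 1, 0), (0, 2, 1, 0)] : List V4).all fun z => !btv x y z) (by ((try (rewrite [Cfsg.Agent.LsF.ffb6bc4_5.2, Cfsg.Agent.LsF.not_eq, Cfsg.Agent.LsF.all_eq])); decide +kernel)) hx hy)
theorem clK : ∀ x ∈ SK, ∀ y ∈ SK, ∀ z ∈ LF, bt x y z = true → z ∈ SK := fun _ hx _ hy =>
  cl_of SKv_eq LFv_eq (N := [(1, 0, 0, 0), (0, 1, 0, 0), (0, 0, 1, 0), (1, 1, 0, 0), (0, 1, 1, 0), (1, 1, 1, 0), (0, 2, 1, 0),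
  (1, 2, 1, 0)]) (by decide +kernel)
    (all2 SKv_eq SKv_eq (f := fun x y => ([(1, 0, 0, 0), (0, 1, 0, 0), (0, 0, 1, 0), (1, 1, 0, 0), (0, 1, 1, 0), (1, 1, 1, 0), (0, 2, 1, 0),
  (1, 2, 1, 0)] : List V4).all fun z => !btv x y z) (by ((try (rewrite [Cfsg.Agent.LsF.ffb6bc4_5.2, Cfsg.Agent.LsF.not_eq, Cfsg.Agent.LsF.all_eq])); decide +kernel)) hx hy)

end Cfsg.Agent.H874.SNX
end

-- part: H874/SNX/LevF
section
/-!
# The matrices of the Levi subgroup `{1, 2}` of `F₄(3)` (S3831, T4b; helper874)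
-/

set_option autoImplicit false
set_option linter.unusedSectionVars false

namespace Cfsg.Agent.H874.SNX

open CoxeterSystem Cfsg.Agent.ChevalleyStructure.CoxeterGeom Cfsg.Agent.Tits.Roots Cfsg.Agent.Tits.Core
  Cfsg.Agent.Tits.Exchange Cfsg.Agent.Nodes.Reps Cfsg.Agent.Nodes.BNOf Cfsg.Agent.Nodes.StabComb
  Cfsg.Agent.Nodes.Bruhat Cfsg.Agent.Nodes.OppDec Cfsg.Agent.Nodes.Unique Cfsg.Agent.Nodes.CardSup
open Multiplicative Matrix
open scoped commutatorElement

/-- strictness: root groups commute if the sum is not a root -/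
def Strict {I W Y : Type*} [Fintype I] [DecidableEq I] [Group W] [Group Y] {M : CoxeterMatrix I} (cs : CoxeterSystem M W)
    {A : I → I → ℤ} (h : IsCartan M A) (X : (I → ℤ) → Subgroup Y) : Prop :=
  ∀ x y, IsRoot cs h x → IsRoot cs h y → x ≠ -y → ¬ IsRoot cs h (x + y) → ∀ a ∈ X x, ∀ b ∈ X y, a * b = b * a

variable {W Y : Type*} [Group W] [Group Y] {cs : CoxeterSystem CoxeterMatrix.F₄ W}
  {h : IsCartan CoxeterMatrix.F₄ A4} {T : Subgroup Y} {n : Fin 4 → Y} {X : (Fin 4 → ℤ) → Subgroup Y}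

/-- the group of a list of roots -/
def SL (X : (Fin 4 → ℤ) → Subgroup Y) (L : List (Fin 4 → ℤ)) : Subgroup Y := RGD.Sup X {z | z ∈ L}

theorem X_le_SL {L : List (Fin 4 → ℤ)} {x : Fin 4 → ℤ} (hx : x ∈ L) : X x ≤ SL X L := RGD.le_Sup (S := {z | z ∈ L}) hx

theorem SL_le {L : List (Fin 4 → ℤ)} {H : Subgroup Y} (hL : ∀ x ∈ L, X x ≤ H) : SL X L ≤ H := RGD.Sup_le hL

section

variable (R : RGD cs h 3 T n X) (hst : Strict cs h X)

include R hst

theorem comm_mem {L : List (Fin 4 → ℤ)} {x y : Fin 4 → ℤ} (hx : IsRoot cs h x) (hy : IsRoot cs h y)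
    (hok : ok L x y = true) {a b : Y} (ha : a ∈ X x) (hb : b ∈ X y) : ⁅a, b⁆ ∈ SL X L := by
  rw [ok, decide_eq_true_iff] at hok
  obtain ⟨h1, h2⟩ := hok
  rcases h2 with h2 | ⟨h2, h3⟩
  · have h4 := hst x y hx hy h1 (fun h5 => h2 (mem_RT h5)) a ha b hb
    rw [commutatorElement_eq_one_iff_mul_comm.2 h4]
    exact one_mem _
  · have h4 := R.comm x y hx hy h2 h1 a ha b hb
    refine (?_ : Nodes.Reps.btw cs h X x y ≤ SL X L) h4
    unfold Nodes.Reps.btw
    refine iSup_le ?_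
    rintro ⟨z, hz⟩
    exact X_le_SL (h3 z (mem_RT hz.1) (bt_of hz))

theorem conj_mem_SL {L : List (Fin 4 → ℤ)} {x : Fin 4 → ℤ} (hx : IsRoot cs h x) (hL : ∀ y ∈ L, IsRoot cs h y)
    (hok : ∀ y ∈ L, ok L x y = true) {a : Y} (ha : a ∈ X x) {g : Y} (hg : g ∈ SL X L) : a * g * a⁻¹ ∈ SL X L := by
  have h1 : (SL X L) ≤ (SL X L).comap (MulAut.conj a).toMonoidHom := by
    refine SL_le fun y hy b hb => ?_
    change a * b * a⁻¹ ∈ SL X L
    have h2 := comm_mem R hst hx (hL y hy) (hok y hy) ha hb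
    have h3 : a * b * a⁻¹ = ⁅a, b⁆ * b := by rw [commutatorElement_def]; group
    rw [h3]
    exact mul_mem h2 (X_le_SL hy hb)
  exact h1 hg

theorem le_normalizer_SL {L : List (Fin 4 → ℤ)} {x : Fin 4 → ℤ} (hx : IsRoot cs h x) (hL : ∀ y ∈ L, IsRoot cs h y)
    (hok : ∀ y ∈ L, ok L x y = true) : X x ≤ Subgroup.normalizer (SL X L : Set Y) := by
  intro a ha
  rw [Subgroup.mem_normalizer_iff]
  intro g
  refine ⟨fun hg => conj_mem_SL R hst hx hL hok ha hg, fun hg => ?_⟩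
  have h1 := conj_mem_SL R hst hx hL hok (inv_mem ha) hg
  have h2 : a⁻¹ * (a * g * a⁻¹) * a⁻¹⁻¹ = g := by group
  rwa [h2] at h1

end

theorem root_SV {x : Fin 4 → ℤ} (hx : x ∈ SV) : IsRoot cs h x := root_LF (SV_LF x hx)
theorem root_SK {x : Fin 4 → ℤ} (hx : x ∈ SK) : IsRoot cs h x := root_LF (SK_LF x hx)
theorem root_LJ {x : Fin 4 → ℤ} (hx : x ∈ LF ++ J4) : IsRoot cs h x := by
  rcases List.mem_append.1 hx with h1 | h1
  · exact root_LF h1
  · simp only [J4, List.mem_cons, List.not_mem_nil, or_false] at h1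
    rcases h1 with rfl | rfl | rfl | rfl
    · exact isRoot_sr cs h 1
    · exact isRoot_sr cs h 2
    · exact (isRoot_sr cs h 1).neg
    · exact (isRoot_sr cs h 2).neg
theorem j4_mem : ∀ k, j4 k ∈ LF ++ J4 := by decide +kernel

/-- the common normaliser -/
def Nn (X : (Fin 4 → ℤ) → Subgroup Y) : Subgroup Y :=
  Subgroup.normalizer (SL X SV : Set Y) ⊓ Subgroup.normalizer (SL X SK : Set Y)

section

variable (R : RGD cs h 3 T n X) (hst : Strict cs h X)

include R hst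

theorem X_le_Nn {x : Fin 4 → ℤ} (hx : x ∈ LF ++ J4) : X x ≤ Nn X :=
  le_inf (le_normalizer_SL R hst (root_LJ hx) (fun _ hy => root_SV hy) (okV x hx))
    (le_normalizer_SL R hst (root_LJ hx) (fun _ hy => root_SK hy) (okK x hx))

omit hst in
theorem card_X (hc : ∀ i, Nat.card (X (sr i)) = 3) {x : Fin 4 → ℤ} (hx : IsRoot cs h x) : Nat.card (X x) = 3 := by
  have : Finite W := posRoots.finite h cs
  obtain ⟨w, i, rfl⟩ := hx
  rw [card_X_rep R w (isRoot_sr cs h i), hc]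

omit R hst in
theorem mem_zpowers_of {H : Subgroup Y} (hH : Nat.card H = 3) {e : Y} (he : e ∈ H) (he1 : e ≠ 1) {u : Y} (hu : u ∈ H) :
    ∃ k : Fin 3, u = e ^ (k : ℕ) := by
  have : Fact (Nat.Prime 3) := ⟨Nat.prime_three⟩
  have hfin : Finite H := Nat.finite_of_card_ne_zero (by rw [hH]; norm_num)
  have h1 : Nat.card H = 3 := hH
  have h2 : (⟨u, hu⟩ : H) ∈ Subgroup.zpowers (⟨e, he⟩ : H) := by
    have h3 : Subgroup.zpowers (⟨e, he⟩ : H) = ⊤ := by
      apply Subgroup.eq_top_of_card_eq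
      rw [Nat.card_zpowers]
      have h4 : orderOf (⟨e, he⟩ : H) ∣ 3 := h1 ▸ orderOf_dvd_natCard _
      rcases (Nat.dvd_prime Nat.prime_three).1 h4 with h5 | h5
      · exact absurd (congrArg Subtype.val (orderOf_eq_one_iff.1 h5)) he1
      · rw [h5, h1]
    rw [h3]; trivial
  have h5 : (⟨e, he⟩ : H) ^ 3 = 1 := by rw [← h1]; exact pow_card_eq_one'
  obtain ⟨k, hk⟩ := Subgroup.mem_zpowers_iff.1 h2
  refine ⟨⟨(k % 3).toNat, by have := Int.emod_lt_of_pos k (by norm_num : (0 : ℤ) < 3); have := Int.emod_nonneg k (by norm_num : (3 : ℤ) ≠ 0); omega⟩, ?_⟩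
  have h6 : (⟨u, hu⟩ : H) = (⟨e, he⟩ : H) ^ (k % 3).toNat := by
    rw [← hk, ← zpow_natCast]
    have h7 : (((k % 3).toNat : ℕ) : ℤ) = k % 3 := Int.toNat_of_nonneg (Int.emod_nonneg k (by norm_num))
    rw [h7]
    conv_lhs => rw [← Int.emod_add_mul_ediv k 3, _root_.zpow_add, _root_.zpow_mul]
    rw [show (⟨e, he⟩ : H) ^ (3 : ℤ) = 1 from by rw [show (3 : ℤ) = ((3 : ℕ) : ℤ) from rfl, zpow_natCast, h5], _root_.one_zpow, mul_one]
  exact congrArg Subtype.val h6

omit hst in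
theorem card_SL [Finite Y] (hc : ∀ i, Nat.card (X (sr i)) = 3) {L : List (Fin 4 → ℤ)} (hL : ∀ x ∈ L, x ∈ LF)
    (hcl : ∀ x ∈ L, ∀ y ∈ L, ∀ z ∈ LF, bt x y z = true → z ∈ L) : Nat.card (SL X L) = 3 ^ L.toFinset.card := by
  have : Finite W := posRoots.finite h cs
  have e : ({z | z ∈ L} : Set (Fin 4 → ℤ)) = (L.toFinset : Set (Fin 4 → ℤ)) := by
    ext z; simp
  have hp : ∀ x ∈ L, 0 ≤ x := fun x hx => posRoots.pos x (List.mem_toFinset.2 (hL x hx))
  unfold SL
  rw [e, card_sup R]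
  · rw [Finset.prod_congr rfl fun x hx => card_X R hc (root_LF (hL x (List.mem_toFinset.1 hx))), Finset.prod_const]
  · rw [← e]
    exact fun x hx => ⟨root_LF (hL x hx), hp x hx⟩
  · rw [← e]
    exact fun x hx y hy z hz => hcl x hx y hy z
      (mem_LF hz.1 (RGD.nonneg_of_btwn (hp x hx) (hp y hy) hz)) (bt_of hz)

/-- **the representation** -/
theorem exists_mat [Finite Y] (hc : ∀ i, Nat.card (X (sr i)) = 3) :
    ∃ ρ : ↥(Nn X) →* M4ˣ,
      (∀ (u : Y) (hu : u ∈ X (sr 1)) (hN : u ∈ Nn X), ∃ s s' : ZMod 3,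
        ((ρ ⟨u, hN⟩ : M4ˣ) : M4) = !![1, 0, 0, 0; s, 1, 0, 0; 0, 0, 1, 0; 0, 0, s', 1]) ∧
      (∀ (u : Y) (hu : u ∈ X (-sr 1)) (hN : u ∈ Nn X), ∃ s s' : ZMod 3,
        ((ρ ⟨u, hN⟩ : M4ˣ) : M4) = !![1, s, 0, 0; 0, 1, 0, 0; 0, 0, 1, s'; 0, 0, 0, 1]) ∧
      (∀ (u : Y) (hu : u ∈ X (sr 2)) (hN : u ∈ Nn X), ∃ s : ZMod 3,
        ((ρ ⟨u, hN⟩ : M4ˣ) : M4) = !![1, 0, 0, 0; 0, 1, 0, 0; 0, s, 1, 0; 0, 0, 0, 1]) ∧
      (∀ (u : Y) (hu : u ∈ X (-sr 2)) (hN : u ∈ Nn X), ∃ s : ZMod 3,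
        ((ρ ⟨u, hN⟩ : M4ˣ) : M4) = !![1, 0, 0, 0; 0, 1, s, 0; 0, 0, 1, 0; 0, 0, 0, 1]) ∧
      (∀ x ∈ SV, ∀ (u : Y) (hu : u ∈ X x) (hN : u ∈ Nn X), ρ ⟨u, hN⟩ = 1) ∧
      (∀ (g : Y) (hN : g ∈ Nn X) (i j : Fin 4), (∀ u ∈ X (rr j), g * u * g⁻¹ ∈ X (rr i)) →
        ∀ k, k ≠ i → ((ρ ⟨g, hN⟩ : M4ˣ) : M4) k j = 0) := by
  classical
  have hrr : ∀ i, IsRoot cs h (rr i) := fun i => root_SV (rr_SV i)
  have hex : ∀ i, ∃ e ∈ X (rr i), e ≠ 1 := by
    intro i
    have h1 := card_X R hc (hrr i)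
    by_contra hcon
    push Not at hcon
    have h2 : X (rr i) = ⊥ := (Subgroup.eq_bot_iff_forall _).2 hcon
    rw [h2, Subgroup.card_bot] at h1
    norm_num at h1
  choose e he he1 using hex
  have heV : ∀ i, e i ∈ SL X SV := fun i => X_le_SL (rr_SV i) (he i)
  have hpw : ∀ i, ∀ u ∈ X (rr i), ∃ k : Fin 3, u = e i ^ (k : ℕ) := fun i u hu =>
    mem_zpowers_of (card_X R hc (hrr i)) (he i) (he1 i) hu
  have hKV : SL X SK ≤ SL X SV := SL_le fun x hx => X_le_SL (SK_SV x hx)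
  have hVK : SL X SV ≤ Subgroup.normalizer (SL X SK : Set Y) :=
    SL_le fun x hx => (X_le_Nn R hst (List.mem_append_left _ (SV_LF x hx))).trans inf_le_right
  obtain ⟨l, hl, hlK⟩ := exists_lam hKV hVK heV
    (fun i => by
      have h1 : (⟨e i, he i⟩ : X (rr i)) ^ 3 = 1 := by
        rw [← card_X R hc (hrr i)]
        have : Finite (X (rr i)) := inferInstance
        exact pow_card_eq_one'
      have h2 : e i ^ 3 = 1 := congrArg Subtype.val h1
      rw [h2]; exact one_mem _)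
    (fun i j => by
      have h1 := comm_mem R hst (hrr i) (hrr j) (ok0 (rr i) (rr_SV i) j) (inv_mem (he i)) (inv_mem (he j))
      have h2 : (e j * e i)⁻¹ * (e i * e j) = ⁅(e i)⁻¹, (e j)⁻¹⁆ := by rw [commutatorElement_def]; group
      rw [h2]; exact h1)
    (SL_le fun x hx => by
      rcases SV_or x hx with h1 | ⟨i, rfl⟩
      · exact (X_le_SL h1).trans le_sup_left
      · intro u hu
        obtain ⟨k, rfl⟩ := hpw i u hu
        exact pow_mem (Subgroup.mem_sup_right (Subgroup.subset_closure (Set.mem_range_self i))) _)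
    (by
      rw [card_SL R hc SV_LF clV, card_SL R hc SK_LF clK, show SV.toFinset.card = 20 by decide +kernel,
        show SK.toFinset.card = 16 by decide +kernel]
      norm_num)
  obtain ⟨ρ, hρ⟩ : ∃ ρ : ↥(Nn X) →* M4ˣ, ∀ (g : ↥(Nn X)) (v : SL X SV) (h : (g : Y) * v * (g : Y)⁻¹ ∈ SL X SV),
      toAdd (l ⟨g * v * (g : Y)⁻¹, h⟩) = ((ρ g : M4ˣ) : M4) *ᵥ toAdd (l v) :=
    exists_rho l (lam_surjective l (e := fun i => (⟨e i, heV i⟩ : SL X SV)) hl) hlK
  have hNV : ∀ g ∈ Nn X, ∀ v ∈ SL X SV, g * v * g⁻¹ ∈ SL X SV := fun g hg v hv =>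
    (Subgroup.mem_normalizer_iff.1 hg.1 v).1 hv
  have hcol : ∀ (g : Y) (hg : g ∈ Nn X) (i j : Fin 4),
      ((ρ ⟨g, hg⟩ : M4ˣ) : M4) i j = toAdd (l ⟨g * e j * g⁻¹, hNV g hg _ (heV j)⟩) i := by
    intro g hg i j
    have h1 := hρ ⟨g, hg⟩ ⟨e j, heV j⟩ (hNV g hg _ (heV j))
    have h2 : l ⟨e j, heV j⟩ = ofAdd (Pi.single j 1) := hl j
    rw [h2, toAdd_ofAdd] at h1
    rw [h1, Matrix.mulVec_single_one]
    rfl
  -- `l` on `X (rr i)` and on `K`
  have hlK' : ∀ (k : Y) (hk : k ∈ SL X SK) (hV : k ∈ SL X SV), l ⟨k, hV⟩ = 1 := fun k hk hV => (hlK _).2 hk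
  have hlr : ∀ i, ∀ u ∈ X (rr i), ∀ hV : u ∈ SL X SV, ∃ s : ZMod 3, l ⟨u, hV⟩ = ofAdd (Pi.single i s) := by
    intro i u hu hV
    obtain ⟨k, rfl⟩ := hpw i u hu
    refine ⟨((k : ℕ) : ZMod 3), ?_⟩
    have h1 : (⟨e i ^ (k : ℕ), hV⟩ : SL X SV) = ⟨e i, heV i⟩ ^ (k : ℕ) := rfl
    rw [h1, map_pow, hl]
    apply toAdd.injective
    rw [toAdd_pow, toAdd_ofAdd, toAdd_ofAdd]
    funext j
    rw [Pi.smul_apply, Pi.single_apply, Pi.single_apply]
    split_ifs <;> simp
  have hlt : ∀ i, ∀ u ∈ SL X (rr i :: SK), ∀ hV : u ∈ SL X SV, ∃ s : ZMod 3, l ⟨u, hV⟩ = ofAdd (Pi.single i s) := by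
    intro i u hu hV
    let H : Subgroup Y :=
      { carrier := {g | ∃ hg : g ∈ SL X SV, ∃ s : ZMod 3, l ⟨g, hg⟩ = ofAdd (Pi.single i s)}
        one_mem' := ⟨one_mem _, 0, by
          rw [Pi.single_zero, ofAdd_zero]
          exact map_one l⟩
        mul_mem' := by
          rintro a b ⟨ha, s, hs⟩ ⟨hb, t, ht⟩
          refine ⟨mul_mem ha hb, s + t, ?_⟩
          have h1 : (⟨a * b, mul_mem ha hb⟩ : SL X SV) = ⟨a, ha⟩ * ⟨b, hb⟩ := rfl
          rw [h1, map_mul, hs, ht, Pi.single_add, ofAdd_add]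
        inv_mem' := by
          rintro a ⟨ha, s, hs⟩
          refine ⟨inv_mem ha, -s, ?_⟩
          have h1 : (⟨a⁻¹, inv_mem ha⟩ : SL X SV) = ⟨a, ha⟩⁻¹ := rfl
          rw [h1, map_inv, hs, Pi.single_neg, ofAdd_neg] }
    have h1 : SL X (rr i :: SK) ≤ H := by
      refine SL_le fun x hx g hg => ?_
      rcases List.mem_cons.1 hx with rfl | hx
      · exact ⟨X_le_SL (rr_SV i) hg, hlr i g hg _⟩
      · refine ⟨X_le_SL (SK_SV x hx) hg, 0, ?_⟩
        rw [Pi.single_zero, ofAdd_zero]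
        exact hlK' _ (X_le_SL hx hg) _
    obtain ⟨_, h2⟩ := h1 hu
    exact h2
  -- the columns of the root elements
  have hsplit : ∀ (u : Y) (hu : u ∈ Nn X) (j : Fin 4) (hV : ⁅u, e j⁆ ∈ SL X SV),
      toAdd (l ⟨u * e j * u⁻¹, hNV u hu _ (heV j)⟩) = toAdd (l ⟨⁅u, e j⁆, hV⟩) + Pi.single j 1 := by
    intro u hu j hV
    have h1 : (⟨u * e j * u⁻¹, hNV u hu _ (heV j)⟩ : SL X SV) = ⟨⁅u, e j⁆, hV⟩ * ⟨e j, heV j⟩ := by
      apply Subtype.ext
      change u * e j * u⁻¹ = ⁅u, e j⁆ * e j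
      rw [commutatorElement_def]; group
    rw [h1, map_mul, toAdd_mul, hl, toAdd_ofAdd]
  have hcV : ∀ (u : Y) (hu : u ∈ Nn X) (j : Fin 4), ⁅u, e j⁆ ∈ SL X SV := by
    intro u hu j
    have h3 : ⁅u, e j⁆ = (u * e j * u⁻¹) * (e j)⁻¹ := by rw [commutatorElement_def]
    rw [h3]
    exact mul_mem (hNV u hu _ (heV j)) (inv_mem (heV j))
  have hc0 : ∀ {x : Fin 4 → ℤ} {u : Y} (hu : u ∈ Nn X) (hx : u ∈ X x) (hxr : IsRoot cs h x) (j : Fin 4),
      ok SK x (rr j) = true → ∀ i, ((ρ ⟨u, hu⟩ : M4ˣ) : M4) i j = if i = j then 1 else 0 := by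
    intro x u hu hx hxr j hok i
    rw [hcol, hsplit u hu j (hcV u hu j), hlK' _ (comm_mem R hst hxr (hrr j) hok hx (he j)) _]
    rw [toAdd_one, zero_add, Pi.single_apply]
  have hc1 : ∀ {x : Fin 4 → ℤ} {u : Y} (hu : u ∈ Nn X) (hx : u ∈ X x) (hxr : IsRoot cs h x) (j i₀ : Fin 4),
      ok (rr i₀ :: SK) x (rr j) = true → ∃ s : ZMod 3, ∀ i, ((ρ ⟨u, hu⟩ : M4ˣ) : M4) i j =
        (if i = i₀ then s else 0) + if i = j then 1 else 0 := by
    intro x u hu hx hxr j i₀ hok
    obtain ⟨s, hs⟩ := hlt i₀ _ (comm_mem R hst hxr (hrr j) hok hx (he j)) (hcV u hu j)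
    refine ⟨s, fun i => ?_⟩
    rw [hcol, hsplit u hu j (hcV u hu j), hs, toAdd_ofAdd, Pi.add_apply, Pi.single_apply, Pi.single_apply]
  refine ⟨ρ, ?_, ?_, ?_, ?_, ?_, ?_⟩
  · intro u hu hN
    have hr : IsRoot cs h (sr 1) := isRoot_sr cs h 1
    obtain ⟨s, hs⟩ := hc1 hN hu hr 0 1 (okt 0 0)
    have h1 := hc0 hN hu hr 1 (okt 0 1)
    obtain ⟨s', hs'⟩ := hc1 hN hu hr 2 3 (okt 0 2)
    have h3 := hc0 hN hu hr 3 (okt 0 3)
    refine ⟨s, s', ?_⟩
    ext i j
    fin_cases j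
    · exact (hs i).trans (by fin_cases i <;> simp)
    · exact (h1 i).trans (by fin_cases i <;> simp)
    · exact (hs' i).trans (by fin_cases i <;> simp)
    · exact (h3 i).trans (by fin_cases i <;> simp)
  · intro u hu hN
    have hr : IsRoot cs h (-sr 1) := (isRoot_sr cs h 1).neg
    have h0 := hc0 hN hu hr 0 (okt 2 0)
    obtain ⟨s, hs⟩ := hc1 hN hu hr 1 0 (okt 2 1)
    have h2 := hc0 hN hu hr 2 (okt 2 2)
    obtain ⟨s', hs'⟩ := hc1 hN hu hr 3 2 (okt 2 3)
    refine ⟨s, s', ?_⟩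
    ext i j
    fin_cases j
    · exact (h0 i).trans (by fin_cases i <;> simp)
    · exact (hs i).trans (by fin_cases i <;> simp)
    · exact (h2 i).trans (by fin_cases i <;> simp)
    · exact (hs' i).trans (by fin_cases i <;> simp)
  · intro u hu hN
    have hr : IsRoot cs h (sr 2) := isRoot_sr cs h 2
    have h0 := hc0 hN hu hr 0 (okt 1 0)
    obtain ⟨s, hs⟩ := hc1 hN hu hr 1 2 (okt 1 1)
    have h2 := hc0 hN hu hr 2 (okt 1 2)
    have h3 := hc0 hN hu hr 3 (okt 1 3)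
    refine ⟨s, ?_⟩
    ext i j
    fin_cases j
    · exact (h0 i).trans (by fin_cases i <;> simp)
    · exact (hs i).trans (by fin_cases i <;> simp)
    · exact (h2 i).trans (by fin_cases i <;> simp)
    · exact (h3 i).trans (by fin_cases i <;> simp)
  · intro u hu hN
    have hr : IsRoot cs h (-sr 2) := (isRoot_sr cs h 2).neg
    have h0 := hc0 hN hu hr 0 (okt 3 0)
    have h1 := hc0 hN hu hr 1 (okt 3 1)
    obtain ⟨s, hs⟩ := hc1 hN hu hr 2 1 (okt 3 2)
    have h3 := hc0 hN hu hr 3 (okt 3 3)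
    refine ⟨s, ?_⟩
    ext i j
    fin_cases j
    · exact (h0 i).trans (by fin_cases i <;> simp)
    · exact (h1 i).trans (by fin_cases i <;> simp)
    · exact (hs i).trans (by fin_cases i <;> simp)
    · exact (h3 i).trans (by fin_cases i <;> simp)
  · intro x hx u hu hN
    apply Units.ext
    rw [Units.val_one]
    ext i j
    rw [hc0 hN hu (root_SV hx) j (ok0 x hx j) i, Matrix.one_apply]
  · intro g hN i j hg k hk
    obtain ⟨s, hs⟩ := hlr i _ (hg _ (he j)) (hNV g hN _ (heV j))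
    rw [hcol, hs, toAdd_ofAdd, Pi.single_apply, if_neg hk]

end

end Cfsg.Agent.H874.SNX
end

-- part: H874/SNX/Key
section
/-!
# The key lemma for the `C₂` Levi subgroups over `F₃` (S3831, T4b; helper874)

* `isSolvable_pair` : if `⟨a, t a t⁻¹⟩` is solvable and `t²` commutes with `a` then `⟨a, t⟩` is solvable;
* `key` : a group acting on `F₃⁴` by the root elements of `Sp₄(3)`; `v` of order three with `PS 2`, unitriangular,
  is a transvection.
-/

set_option autoImplicit false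

namespace Cfsg.Agent.H874.SNX

open Subgroup

theorem isSolvable_pair {G : Type*} [Group G] {a t : G}
    (h : Group.IsSolvable ↥(closure ({a, t * a * t⁻¹} : Set G))) (hc : t * t * a = a * (t * t)) :
    Group.IsSolvable ↥(closure ({a, t} : Set G)) := by
  obtain ⟨H, hH⟩ : ∃ H, H = closure ({a, t * a * t⁻¹} : Set G) := ⟨_, rfl⟩
  rw [← hH] at h
  obtain ⟨C, hC⟩ : ∃ C, C = closure ({a, t} : Set G) := ⟨_, rfl⟩
  rw [← hC]
  have ha : a ∈ H := by rw [hH]; exact subset_closure (Or.inl rfl)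
  have ht : H.map (MulAut.conj t).toMonoidHom = H := by
    rw [hH, MonoidHom.map_closure]
    have e : (MulAut.conj t).toMonoidHom '' ({a, t * a * t⁻¹} : Set G) = {a, t * a * t⁻¹} := by
      rw [Set.image_pair]
      have e1 : (MulAut.conj t).toMonoidHom a = t * a * t⁻¹ := rfl
      have e2 : (MulAut.conj t).toMonoidHom (t * a * t⁻¹) = a := by
        change t * (t * a * t⁻¹) * t⁻¹ = a
        calc t * (t * a * t⁻¹) * t⁻¹ = (t * t * a) * t⁻¹ * t⁻¹ := by group
          _ = a := by rw [hc]; group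
      rw [e1, e2, Set.pair_comm]
    rw [e]
  have htn : t ∈ normalizer (H : Set G) := mem_normalizer_iff_map_conj_eq.2 ht
  have haC : a ∈ C := by rw [hC]; exact subset_closure (Or.inl rfl)
  have htC : t ∈ C := by rw [hC]; exact subset_closure (Or.inr rfl)
  have hHC : H ≤ C := by
    rw [hH, closure_le]
    rintro z (rfl | rfl)
    · exact haC
    · exact mul_mem (mul_mem htC haC) (inv_mem htC)
  have hCN : C ≤ normalizer (H : Set G) := by
    rw [hC, closure_le]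
    rintro z (rfl | rfl)
    · exact le_normalizer ha
    · exact htn
  have hp : ∀ g ∈ C, ∃ n : ℤ, g * (t ^ n)⁻¹ ∈ H := by
    intro g hg
    rw [hC] at hg
    refine closure_induction (p := fun g _ => ∃ n : ℤ, g * (t ^ n)⁻¹ ∈ H) ?_ ?_ ?_ ?_ hg
    · rintro z (rfl | rfl)
      · exact ⟨0, by simpa using ha⟩
      · exact ⟨1, by simp⟩
    · exact ⟨0, by simp⟩
    · rintro u v - - ⟨n, hn⟩ ⟨m, hm⟩
      refine ⟨n + m, ?_⟩
      have h1 : t ^ n * (v * (t ^ m)⁻¹) * (t ^ n)⁻¹ ∈ H :=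
        (mem_normalizer_iff.1 (zpow_mem htn n) _).1 hm
      have h2 : u * v * (t ^ (n + m))⁻¹ = (u * (t ^ n)⁻¹) * (t ^ n * (v * (t ^ m)⁻¹) * (t ^ n)⁻¹) := by
        rw [zpow_add]
        have : (t ^ n * t ^ m)⁻¹ = (t ^ m)⁻¹ * (t ^ n)⁻¹ := mul_inv_rev _ _
        rw [this]
        group
      rw [h2]
      exact mul_mem hn h1
    · rintro u - ⟨n, hn⟩
      refine ⟨-n, ?_⟩
      have h1 : (t ^ n)⁻¹ * (u * (t ^ n)⁻¹)⁻¹ * ((t ^ n)⁻¹)⁻¹ ∈ H :=
        (mem_normalizer_iff.1 (inv_mem (zpow_mem htn n)) _).1 (inv_mem hn)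
      have h2 : u⁻¹ * (t ^ (-n))⁻¹ = (t ^ n)⁻¹ * (u * (t ^ n)⁻¹)⁻¹ * ((t ^ n)⁻¹)⁻¹ := by
        rw [zpow_neg]; group
      rw [h2]
      exact h1
  have hnorm : (H.subgroupOf C).Normal := ⟨fun n hn g => by
    rw [mem_subgroupOf] at hn ⊢
    exact (mem_normalizer_iff.1 (hCN g.2) _).1 hn⟩
  refine (Group.isSolvable_iff_subgroup_quotient (H.subgroupOf C)).2 ⟨?_, ?_⟩
  · exact Group.isSolvable_of_surjective (f := (subgroupOfEquivOfLe hHC).symm.toMonoidHom)
      (subgroupOfEquivOfLe hHC).symm.surjective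
  · have hq : ∀ q : C ⧸ H.subgroupOf C, ∃ n : ℤ, q = (QuotientGroup.mk ⟨t, htC⟩ : C ⧸ H.subgroupOf C) ^ n := by
      intro q
      obtain ⟨⟨g, hg⟩, rfl⟩ := QuotientGroup.mk_surjective q
      obtain ⟨n, hn⟩ := hp g hg
      refine ⟨n, ?_⟩
      rw [← QuotientGroup.mk_zpow, QuotientGroup.eq]
      rw [mem_subgroupOf]
      change g⁻¹ * (⟨t, htC⟩ ^ n : C) ∈ H
      have e : ((⟨t, htC⟩ ^ n : C) : G) = t ^ n := by simp
      rw [e]
      have h1 := (mem_normalizer_iff.1 (hCN (inv_mem hg)) _).1 (inv_mem hn)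
      have h2 : g⁻¹ * (g * (t ^ n)⁻¹)⁻¹ * g⁻¹⁻¹ = g⁻¹ * t ^ n := by group
      rwa [h2] at h1
    refine Group.isSolvable_of_comm fun x y => ?_
    obtain ⟨n, rfl⟩ := hq x
    obtain ⟨m, rfl⟩ := hq y
    exact (Commute.zpow_zpow_self _ n m).eq

/-- **the key lemma** -/
theorem key {N : Type*} [Group N] (ρ : N →* M4ˣ) (g : Fin 4 → N) (hg : ∀ k, ((ρ (g k) : M4ˣ) : M4) = gen k) {v : N}
    (hP : ∀ t : N, Group.IsSolvable ↥(closure ({v, t * v * t⁻¹} : Set N))) (i : Fin 3) (a b c : ZMod 3)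
    (hv : ((ρ v : M4ˣ) : M4) = SB a b c * A1 ^ (i : ℕ)) (h3 : v ^ 3 = 1) : i = 0 ∧ b * b + a * c = 0 := by
  by_contra hcon
  have h3' : ((ρ v : M4ˣ) : M4) * (((ρ v : M4ˣ) : M4) * ((ρ v : M4ˣ) : M4)) = 1 := by
    have h1 : ρ v * (ρ v * ρ v) = 1 := by
      rw [← map_mul, ← map_mul, ← map_one ρ]
      congr 1
      rw [← h3]
      simp only [pow_succ, pow_zero, one_mul, mul_assoc]
    exact congrArg Units.val h1
  have h4 : i ≠ 0 ∨ b * b + a * c ≠ 0 := by
    by_contra h5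
    push Not at h5
    exact hcon h5
  rw [hv] at h3'
  obtain ⟨k, hk⟩ := table i a b c h3' h4
  rw [← hv] at hk
  obtain ⟨t, ht⟩ : ∃ t : N, ((ρ t : M4ˣ) : M4) = tm k := by
    refine ⟨((words k).map g).prod, ?_⟩
    rw [← ev_words k]
    generalize words k = l
    induction l with
    | nil => simp
    | cons x l ih =>
      rw [List.map_cons, List.prod_cons, List.map_cons, List.prod_cons, map_mul, Units.val_mul, ih, hg]
  have hts : (ρ t * ρ t = 1) ∨ (ρ t * ρ t = -1) := by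
    rcases tm_sq k with h5 | h5
    · left
      apply Units.ext
      rw [Units.val_mul, ht, h5, Units.val_one]
    · right
      apply Units.ext
      rw [Units.val_mul, ht, h5, Units.val_neg, Units.val_one]
  have hcm : ρ t * ρ t * ρ v = ρ v * (ρ t * ρ t) := by
    rcases hts with h5 | h5 <;> rw [h5] <;> simp
  have hs : Group.IsSolvable ↥(Subgroup.closure ({ρ v, ρ t * ρ v * (ρ t)⁻¹} : Set M4ˣ)) := by
    have h5 := hP t
    have e : (closure ({v, t * v * t⁻¹} : Set N)).map ρ = Subgroup.closure ({ρ v, ρ t * ρ v * (ρ t)⁻¹} : Set M4ˣ) := by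
      rw [MonoidHom.map_closure, Set.image_pair, map_mul, map_mul, map_inv]
    rw [← e]
    exact Group.isSolvable_of_surjective (f := ρ.subgroupMap (closure ({v, t * v * t⁻¹} : Set N)))
      (ρ.subgroupMap_surjective _)
  refine H959.Rad3.not_solvable_of_coprime (a := ρ v) (b := ρ t) (k := 2) (n := 5) ?_ ?_ ?_ (by norm_num) ?_
    (isSolvable_pair hs hcm)
  · rw [← map_pow, h3, map_one]
  · have h6 : (ρ t) ^ 2 ^ 2 = (ρ t * ρ t) * (ρ t * ρ t) := by
      rw [show (2 : ℕ) ^ 2 = 4 from rfl]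
      simp only [pow_succ, pow_zero, one_mul, mul_assoc]
    rw [h6]
    rcases hts with h5 | h5 <;> rw [h5] <;> simp
  · apply Units.ext
    rw [Units.val_pow_eq_pow_val, Units.val_mul, ht, Units.val_one]
    rw [← hk]
    unfold p5
    simp only [pow_succ, pow_zero, one_mul, mul_assoc]
  · intro h5
    -- `ρ v ^ 3 = 1` and `ρ v = (ρ t)⁻¹` has order dividing `4`
    have h6 : ρ v = (ρ t)⁻¹ := eq_inv_of_mul_eq_one_left h5
    have h7 : ρ v ^ 3 = 1 := by rw [← map_pow, h3, map_one]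
    have h8 : ρ t ^ 4 = 1 := by
      have h6 : (ρ t) ^ 4 = (ρ t * ρ t) * (ρ t * ρ t) := by
        simp only [pow_succ, pow_zero, one_mul, mul_assoc]
      rw [h6]
      rcases hts with h5 | h5 <;> rw [h5] <;> simp
    have h9 : ρ t ^ 3 = 1 := by
      rw [h6, inv_pow, inv_eq_one] at h7
      exact h7
    have h10 : ρ t = 1 := by
      have : ρ t ^ 4 = ρ t ^ 3 * ρ t := pow_succ _ _
      rw [h8, h9, one_mul] at this
      exact this.symm
    apply tm_ne k
    rw [← ht, h10, Units.val_one]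

end Cfsg.Agent.H874.SNX
end

-- part: H874/SNX/LevG
section
/-!
# The `B₂` test for `F₄(3)` (S3831, T4b; helper874)

`Strict cs h X` : root groups commute if the sum is not a root (fixes the orientation: an abstract `RGD` of type `F₄` has a
dual labelling).

* **`tB2_F4`** : `v ∈ U`, `v ^ 3 = 1`, `PS2 v` : the simple coordinate at the short node `1` vanishes;
* **`tB2_F4'`** : if moreover the `{1, 2}`-part of `v` lies in `X (α₂) X (α₂ + 2 α₁)` then it lies in one of them.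
-/

set_option autoImplicit false
set_option linter.unusedSectionVars false

namespace Cfsg.Agent.H874.SNX

open CoxeterSystem Cfsg.Agent.ChevalleyStructure.CoxeterGeom Cfsg.Agent.Tits.Roots Cfsg.Agent.Tits.Core
  Cfsg.Agent.Tits.Exchange Cfsg.Agent.Nodes.Reps Cfsg.Agent.Nodes.BNOf Cfsg.Agent.Nodes.StabComb
  Cfsg.Agent.Nodes.Bruhat Cfsg.Agent.Nodes.OppDec Cfsg.Agent.Nodes.Unique Cfsg.Agent.Nodes.CardSup
  Cfsg.Agent.Nodes.LeviDec
open Matrix
open scoped commutatorElement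

def Pm (s s' : ZMod 3) : M4 := !![1, 0, 0, 0; s, 1, 0, 0; 0, 0, 1, 0; 0, 0, s', 1]
def Qm (s s' : ZMod 3) : M4 := !![1, s, 0, 0; 0, 1, 0, 0; 0, 0, 1, s'; 0, 0, 0, 1]
def P2 (s : ZMod 3) : M4 := !![1, 0, 0, 0; 0, 1, 0, 0; 0, s, 1, 0; 0, 0, 0, 1]
def Q2 (s : ZMod 3) : M4 := !![1, 0, 0, 0; 0, 1, s, 0; 0, 0, 1, 0; 0, 0, 0, 1]

theorem solve0 : ∀ p q r : ZMod 3, 1 + q * r = 0 → p * q + 1 = 0 → q = -p ∧ r = p ∧ p ≠ 0 := by decide +kernel

theorem solve1 (p p' q q' r r' : ZMod 3) (h0 : (Pm p p' * Qm q q' * Pm r r') 0 0 = 0)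
    (h1 : (Pm p p' * Qm q q' * Pm r r') 1 1 = 0) (h2 : (Pm p p' * Qm q q' * Pm r r') 2 2 = 0)
    (h3 : (Pm p p' * Qm q q' * Pm r r') 3 3 = 0) : q = -p ∧ q' = -p' ∧ r = p ∧ r' = p' ∧ p ≠ 0 ∧ p' ≠ 0 := by
  have e0 : (Pm p p' * Qm q q' * Pm r r') 0 0 = 1 + q * r := by
    simp [Pm, Qm, Matrix.mul_apply, Fin.sum_univ_four]
  have e1 : (Pm p p' * Qm q q' * Pm r r') 1 1 = p * q + 1 := by
    simp [Pm, Qm, Matrix.mul_apply, Fin.sum_univ_four]
  have e2 : (Pm p p' * Qm q q' * Pm r r') 2 2 = 1 + q' * r' := by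
    simp [Pm, Qm, Matrix.mul_apply, Fin.sum_univ_four]
  have e3 : (Pm p p' * Qm q q' * Pm r r') 3 3 = p' * q' + 1 := by
    simp [Pm, Qm, Matrix.mul_apply, Fin.sum_univ_four]
  rw [e0] at h0
  rw [e1] at h1
  rw [e2] at h2
  rw [e3] at h3
  obtain ⟨a1, a2, a3⟩ := solve0 p q r h0 h1
  obtain ⟨b1, b2, b3⟩ := solve0 p' q' r' h2 h3
  exact ⟨a1, b1, a2, b2, a3, b3⟩

theorem solve2 : ∀ p q r : ZMod 3, (P2 p * Q2 q * P2 r) 1 1 = 0 → (P2 p * Q2 q * P2 r) 2 2 = 0 →
    q = -p ∧ r = p ∧ p ≠ 0 := by decide +kernel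

/-- the change of basis -/
def Dm (α β γ : ZMod 3) : M4 := Matrix.diagonal ![1, α, α * γ, α * β * γ]

theorem Dm_sq : ∀ α β γ : ZMod 3, α ≠ 0 → β ≠ 0 → γ ≠ 0 → Dm α β γ * Dm α β γ = 1 := by decide +kernel

private noncomputable def _root_.Cfsg.Agent.LsF.ffb6bc4_16 : {f // @Cfsg.Agent.H874.SNX.Dm = f} := ⟨_, by first | (delta Cfsg.Agent.H874.SNX.Dm; rewrite [Cfsg.Agent.LsF.zmul_pat, Cfsg.Agent.LsF.vecCons_eq, Cfsg.Agent.LsF.diagonal_eq, Cfsg.Agent.LsF.dFinEq_eq]; exact rfl) | exact rfl⟩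
private noncomputable def _root_.Cfsg.Agent.LsF.ffb6bc4_17 : {f // @Cfsg.Agent.H874.SNX.Pm = f} := ⟨_, by first | (delta Cfsg.Agent.H874.SNX.Pm; rewrite [Cfsg.Agent.LsF.mof_pat, Cfsg.Agent.LsF.vecCons_eq]; exact rfl) | exact rfl⟩
private noncomputable def _root_.Cfsg.Agent.LsF.ffb6bc4_18 : {f // @Cfsg.Agent.H874.SNX.A1 = f} := ⟨_, by first | (delta Cfsg.Agent.H874.SNX.A1; rewrite [Cfsg.Agent.LsF.mof_pat, Cfsg.Agent.LsF.vecCons_eq]; exact rfl) | exact rfl⟩
private noncomputable def _root_.Cfsg.Agent.LsF.ffb6bc4_19 : {f // @Cfsg.Agent.H874.SNX.Qm = f} := ⟨_, by first | (delta Cfsg.Agent.H874.SNX.Qm; rewrite [Cfsg.Agent.LsF.mof_pat, Cfsg.Agent.LsF.vecCons_eq]; exact rfl) | exact rfl⟩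
private noncomputable def _root_.Cfsg.Agent.LsF.ffb6bc4_20 : {f // @Cfsg.Agent.H874.SNX.B1 = f} := ⟨_, by first | (delta Cfsg.Agent.H874.SNX.B1; rewrite [Cfsg.Agent.LsF.mof_pat, Cfsg.Agent.LsF.vecCons_eq]; exact rfl) | exact rfl⟩
private noncomputable def _root_.Cfsg.Agent.LsF.ffb6bc4_21 : {f // @Cfsg.Agent.H874.SNX.P2 = f} := ⟨_, by first | (delta Cfsg.Agent.H874.SNX.P2; rewrite [Cfsg.Agent.LsF.mof_pat, Cfsg.Agent.LsF.vecCons_eq]; exact rfl) | exact rfl⟩
private noncomputable def _root_.Cfsg.Agent.LsF.ffb6bc4_22 : {f // @Cfsg.Agent.H874.SNX.A2 = f} := ⟨_, by first | (delta Cfsg.Agent.H874.SNX.A2; rewrite [Cfsg.Agent.LsF.mof_pat, Cfsg.Agent.LsF.vecCons_eq]; exact rfl) | exact rfl⟩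
private noncomputable def _root_.Cfsg.Agent.LsF.ffb6bc4_23 : {f // @Cfsg.Agent.H874.SNX.Q2 = f} := ⟨_, by first | (delta Cfsg.Agent.H874.SNX.Q2; rewrite [Cfsg.Agent.LsF.mof_pat, Cfsg.Agent.LsF.vecCons_eq]; exact rfl) | exact rfl⟩
private noncomputable def _root_.Cfsg.Agent.LsF.ffb6bc4_24 : {f // @Cfsg.Agent.H874.SNX.B2 = f} := ⟨_, by first | (delta Cfsg.Agent.H874.SNX.B2; rewrite [Cfsg.Agent.LsF.mof_pat, Cfsg.Agent.LsF.vecCons_eq]; exact rfl) | exact rfl⟩
theorem Dm_conj : ∀ α β γ : ZMod 3, α ≠ 0 → β ≠ 0 → γ ≠ 0 →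
    Dm α β γ * Pm α β * Dm α β γ = A1 ∧ Dm α β γ * Qm (-α) (-β) * Dm α β γ = B1 ∧
    Dm α β γ * P2 γ * Dm α β γ = A2 ∧ Dm α β γ * Q2 (-γ) * Dm α β γ = B2 := by (refine of_decide_eq_true ?_; (try (rewrite [Cfsg.Agent.LsF.mmulF_pat, Cfsg.Agent.LsF.ffb6bc4_16.2, Cfsg.Agent.LsF.ffb6bc4_17.2, Cfsg.Agent.LsF.ffb6bc4_18.2, Cfsg.Agent.LsF.ffb6bc4_19.2, Cfsg.Agent.LsF.ffb6bc4_20.2, Cfsg.Agent.LsF.ffb6bc4_21.2, Cfsg.Agent.LsF.ffb6bc4_22.2, Cfsg.Agent.LsF.ffb6bc4_23.2, Cfsg.Agent.LsF.ffb6bc4_24.2, Cfsg.Agent.LsF.zadd_pat, Cfsg.Agent.LsF.zmul_pat, Cfsg.Agent.LsF.zneg_pat, Cfsg.Agent.LsF.zdecEq_eq, Cfsg.Agent.LsF.finFintype_eq, Cfsg.Agent.LsF.zFintype_eq, Cfsg.Agent.LsF.dForall_eq, Cfsg.Agent.LsF.dMat_eq, Cfsg.Agent.LsF.zACM_pat, Cfsg.Agent.LsF.dAnd_eq, Cfsg.Agent.LsF.dNot_eq, Cfsg.Agent.LsF.dImp_eq, Cfsg.Agent.LsF.dAllP_eq, Cfsg.Agent.LsF.decide_eq])); decide +kernel)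

theorem SB_mul : ∀ a b c a' b' c' : ZMod 3, SB a b c * SB a' b' c' = SB (a + a') (b + b') (c + c') := by
  intro a b c a' b' c'
  delta SB
  ext i j
  fin_cases i <;> fin_cases j <;> simp [Matrix.mul_apply, Fin.sum_univ_four] <;> ring
theorem SB_zero : SB 0 0 0 = 1 := by decide +kernel
theorem SB_inj : ∀ a b c a' b' c' : ZMod 3, SB a b c = SB a' b' c' → a = a' ∧ b = b' ∧ c = c' := by
  intro a b c a' b' c' h
  refine ⟨congrFun (congrFun h 2) 1, congrFun (congrFun h 2) 0, congrFun (congrFun h 3) 0⟩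

theorem A2_pow : ∀ k : Fin 3, A2 ^ (k : ℕ) = SB (k : ℕ) 0 0 := by decide +kernel
private noncomputable def _root_.Cfsg.Agent.LsF.ffb6bc4_25 : {f // @Cfsg.Agent.H874.SNX.SB = f} := ⟨_, by first | (delta Cfsg.Agent.H874.SNX.SB; rewrite [Cfsg.Agent.LsF.mof_pat, Cfsg.Agent.LsF.zneg_pat, Cfsg.Agent.LsF.vecCons_eq]; exact rfl) | exact rfl⟩
theorem conj12 : ∀ k : Fin 3, A2 * B2 * A2 * A1 ^ (k : ℕ) = SB 0 (k : ℕ) 0 * (A2 * B2 * A2) := by (refine of_decide_eq_true ?_; (try (rewrite [Cfsg.Agent.LsF.mpowF_pat, Cfsg.Agent.LsF.mmulF_pat, Cfsg.Agent.LsF.ffb6bc4_22.2, Cfsg.Agent.LsF.ffb6bc4_24.2, Cfsg.Agent.LsF.ffb6bc4_18.2, Cfsg.Agent.LsF.ffb6bc4_25.2, Cfsg.Agent.LsF.zadd_pat, Cfsg.Agent.LsF.zmul_pat, Cfsg.Agent.LsF.zcast_pat, Cfsg.Agent.LsF.zdecEq_eq, Cfsg.Agent.LsF.finFintype_eq, Cfsg.Agent.LsF.dMat_eq, Cfsg.Agent.LsF.zACM_pat, Cfsg.Agent.LsF.dForallFin_eq, Cfsg.Agent.LsF.decide_eq])); decide +kernel)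
theorem conj112 : ∀ k : Fin 3, A1 * B1 * A1 * A2 ^ (k : ℕ) = SB 0 0 (-(k : ℕ)) * (A1 * B1 * A1) := by (refine of_decide_eq_true ?_; (try (rewrite [Cfsg.Agent.LsF.mpowF_pat, Cfsg.Agent.LsF.mmulF_pat, Cfsg.Agent.LsF.ffb6bc4_18.2, Cfsg.Agent.LsF.ffb6bc4_20.2, Cfsg.Agent.LsF.ffb6bc4_22.2, Cfsg.Agent.LsF.ffb6bc4_25.2, Cfsg.Agent.LsF.zadd_pat, Cfsg.Agent.LsF.zmul_pat, Cfsg.Agent.LsF.zneg_pat, Cfsg.Agent.LsF.zcast_pat, Cfsg.Agent.LsF.zdecEq_eq, Cfsg.Agent.LsF.finFintype_eq, Cfsg.Agent.LsF.dMat_eq, Cfsg.Agent.LsF.zACM_pat, Cfsg.Agent.LsF.dForallFin_eq, Cfsg.Agent.LsF.decide_eq])); decide +kernel)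
theorem k_zero : ∀ k : Fin 3, ((k : ℕ) : ZMod 3) = 0 → k = 0 := by decide +kernel

/-- `α₁ + α₂`, `2 α₁ + α₂` -/
def r12 : Fin 4 → ℤ := ![0, 1, 1, 0]
def r112 : Fin 4 → ℤ := ![0, 2, 1, 0]

theorem LF_cases : ∀ z ∈ LF, z = sr 1 ∨ z = sr 2 ∨ z = r12 ∨ z = r112 ∨ z ∈ SV := by decide +kernel
theorem refl12 : refl A4 2 r12 = sr 1 := by decide +kernel
theorem refl112 : refl A4 1 r112 = sr 2 := by decide +kernel
/-- lists of roots -/
def L1 : List (Fin 4 → ℤ) := LF.filter fun x => decide (x ≠ sr 1)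
def L2 : List (Fin 4 → ℤ) := sr 2 :: SV
def L3 : List (Fin 4 → ℤ) := r112 :: SV

private noncomputable def _root_.Cfsg.Agent.LsF.ffb6bc4_26 : {f // @Cfsg.Agent.H874.SNX.L1 = f} := ⟨_, by first | (delta Cfsg.Agent.H874.SNX.L1 Function.update Pi.single Cfsg.Agent.Tits.Roots.sr; rewrite [Cfsg.Agent.LsF.dPiF_pat, Cfsg.Agent.LsF.ffb6bc4_7.2, Cfsg.Agent.LsF.filter_eq, Cfsg.Agent.LsF.instIDecEq_eq, Cfsg.Agent.LsF.dNot_eq, Cfsg.Agent.LsF.dFinEq_eq, Cfsg.Agent.LsF.dite_eq, Cfsg.Agent.LsF.decide_eq]; exact rfl) | exact rfl⟩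
theorem okL1 : ∀ y ∈ L1, ok L1 (sr 1) y = true := by (refine of_decide_eq_true ?_; (try (delta Cfsg.Agent.Tits.Roots.sr Function.update Pi.single; rewrite [Cfsg.Agent.LsF.ffb6bc4_26.2, Cfsg.Agent.LsF.ffb6bc4_11.2, Cfsg.Agent.LsF.dFinEq_eq, Cfsg.Agent.LsF.dBoolEq_eq, Cfsg.Agent.LsF.dBAll_eq, Cfsg.Agent.LsF.dite_eq, Cfsg.Agent.LsF.decide_eq])); decide +kernel)
private noncomputable def _root_.Cfsg.Agent.LsF.ffb6bc4_27 : {f // @Cfsg.Agent.H874.SNX.SV = f} := ⟨_, by first | (delta Cfsg.Agent.H874.SNX.SV; rewrite [Cfsg.Agent.LsF.ffb6bc4_7.2, Cfsg.Agent.LsF.filter_eq, Cfsg.Agent.LsF.idecLt_eq, Cfsg.Agent.LsF.dOr_eq, Cfsg.Agent.LsF.decide_eq]; exact rfl) | exact rfl⟩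
private noncomputable def _root_.Cfsg.Agent.LsF.ffb6bc4_28 : {f // @Cfsg.Agent.H874.SNX.L2 = f} := ⟨_, by first | (delta Cfsg.Agent.H874.SNX.L2 Function.update Pi.single Cfsg.Agent.Tits.Roots.sr; rewrite [Cfsg.Agent.LsF.ffb6bc4_27.2, Cfsg.Agent.LsF.dFinEq_eq, Cfsg.Agent.LsF.dite_eq]; exact rfl) | exact rfl⟩
private noncomputable def _root_.Cfsg.Agent.LsF.ffb6bc4_29 : {f // @Cfsg.Agent.H874.SNX.r112 = f} := ⟨_, by first | (delta Cfsg.Agent.H874.SNX.r112; rewrite [Cfsg.Agent.LsF.vecCons_eq]; exact rfl) | exact rfl⟩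
theorem okL2 : ∀ y ∈ L2, ok L2 r112 y = true := by (refine of_decide_eq_true ?_; (try (rewrite [Cfsg.Agent.LsF.ffb6bc4_28.2, Cfsg.Agent.LsF.ffb6bc4_11.2, Cfsg.Agent.LsF.ffb6bc4_29.2, Cfsg.Agent.LsF.dBoolEq_eq, Cfsg.Agent.LsF.dBAll_eq, Cfsg.Agent.LsF.decide_eq])); decide +kernel)
private noncomputable def _root_.Cfsg.Agent.LsF.ffb6bc4_30 : {f // @Cfsg.Agent.H874.SNX.L3 = f} := ⟨_, by first | (delta Cfsg.Agent.H874.SNX.L3; rewrite [Cfsg.Agent.LsF.ffb6bc4_29.2, Cfsg.Agent.LsF.ffb6bc4_27.2]; exact rfl) | exact rfl⟩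
theorem okL3 : ∀ y ∈ L3, ok L3 (sr 2) y = true := by (refine of_decide_eq_true ?_; (try (delta Cfsg.Agent.Tits.Roots.sr Function.update Pi.single; rewrite [Cfsg.Agent.LsF.ffb6bc4_30.2, Cfsg.Agent.LsF.ffb6bc4_11.2, Cfsg.Agent.LsF.dFinEq_eq, Cfsg.Agent.LsF.dBoolEq_eq, Cfsg.Agent.LsF.dBAll_eq, Cfsg.Agent.LsF.dite_eq, Cfsg.Agent.LsF.decide_eq])); decide +kernel)

variable {W Y : Type*} [Group W] [Group Y] {cs : CoxeterSystem CoxeterMatrix.F₄ W}
  {h : IsCartan CoxeterMatrix.F₄ A4} {T : Subgroup Y} {n : Fin 4 → Y} {X : (Fin 4 → ℤ) → Subgroup Y}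

section

variable (R : RGD cs h 3 T n X) (hst : Strict cs h X)

include R hst

theorem split_SL {L : List (Fin 4 → ℤ)} {x : Fin 4 → ℤ} (hx : x ∈ LF) (hL : ∀ y ∈ L, y ∈ LF)
    (hok : ∀ y ∈ L, ok L x y = true) {v : Y} (hv : v ∈ SL X (x :: L)) : ∃ s ∈ SL X L, ∃ y ∈ X x, v = s * y := by
  have h1 : X x ≤ Subgroup.normalizer (SL X L : Set Y) :=
    le_normalizer_SL R hst (root_LF hx) (fun y hy => root_LF (hL y hy)) hok
  have h2 : SL X (x :: L) ≤ SL X L ⊔ X x := SL_le fun y hy => by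
    rcases List.mem_cons.1 hy with rfl | hy
    · exact le_sup_right
    · exact (X_le_SL hy).trans le_sup_left
  have h3 : v ∈ ((SL X L ⊔ X x : Subgroup Y) : Set Y) := h2 hv
  rw [Subgroup.coe_mul_of_right_le_normalizer_left _ _ h1] at h3
  obtain ⟨s, hs, y, hy, rfl⟩ := h3
  exact ⟨s, hs, y, hy, rfl⟩

/-- **the standard form** -/
theorem exists_std [Finite Y] (hc : ∀ i, Nat.card (X (sr i)) = 3) :
    ∃ (ρ : ↥(Nn X) →* M4ˣ) (g : Fin 4 → ↥(Nn X)) (m : Fin 2 → ↥(Nn X)),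
      (∀ k, ((ρ (g k) : M4ˣ) : M4) = gen k) ∧ (g 0 : Y) ∈ X (sr 1) ∧ (g 2 : Y) ∈ X (sr 2) ∧
      ((ρ (m 0) : M4ˣ) : M4) = A1 * B1 * A1 ∧ ((ρ (m 1) : M4ˣ) : M4) = A2 * B2 * A2 ∧
      Rp cs R.nsys (cs.simple 1) (m 0 : Y) ∧ Rp cs R.nsys (cs.simple 2) (m 1 : Y) ∧
      ∀ x ∈ SV, ∀ (u : Y) (_ : u ∈ X x) (hN : u ∈ Nn X), ρ ⟨u, hN⟩ = 1 := by
  obtain ⟨ρ, h1, h1', h2, h2', h0, hm⟩ := exists_mat R hst hc
  have e1 : (sr 1 : Fin 4 → ℤ) ∈ LF ++ J4 := j4_mem 0
  have e2 : (sr 2 : Fin 4 → ℤ) ∈ LF ++ J4 := j4_mem 1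
  have e3 : (-sr 1 : Fin 4 → ℤ) ∈ LF ++ J4 := j4_mem 2
  have e4 : (-sr 2 : Fin 4 → ℤ) ∈ LF ++ J4 := j4_mem 3
  have hN1 := X_le_Nn R hst e1
  have hN2 := X_le_Nn R hst e2
  have hN1' := X_le_Nn R hst e3
  have hN2' := X_le_Nn R hst e4
  have hex : ∀ x : Fin 4 → ℤ, IsRoot cs h x → ∃ u ∈ X x, u ≠ 1 := by
    intro x hx
    have h5 := card_X R hc hx
    by_contra hcon
    push Not at hcon
    rw [(Subgroup.eq_bot_iff_forall _).2 hcon, Subgroup.card_bot] at h5
    norm_num at h5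
  have hrp : ∀ (i : Fin 4) (t : Y), t ∈ T → Rp cs R.nsys (cs.simple i) (t * n i) := by
    intro i t ht
    have := (rp_of_mem (cs := cs) (hN := R.nsys) ht).mul (rp_simple cs R.nsys i)
    rwa [one_mul] at this
  have hmon : ∀ (i : Fin 4) (g : Y), Rp cs R.nsys (cs.simple i) g → ∀ j j' : Fin 4, refl A4 i (rr j) = rr j' →
      ∀ u ∈ X (rr j), g * u * g⁻¹ ∈ X (rr j') := by
    intro i g hg j j' hjj u hu
    have h5 := R.conj_mem hg (root_SV (rr_SV j)) hu
    rwa [rep_simple, hjj] at h5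
  -- node `1`
  obtain ⟨u1, hu1, hu11⟩ := hex (-sr 1) (isRoot_sr cs h 1).neg
  obtain ⟨a1, ha1, t1, ht1, b1, hb1, he1⟩ := R.rk1 1 u1 hu1 hu11
  have hm1 : t1 * n 1 = a1⁻¹ * u1 * b1⁻¹ := by rw [he1]; group
  have hm1N : a1⁻¹ * u1 * b1⁻¹ ∈ Nn X := mul_mem (mul_mem (inv_mem (hN1 ha1)) (hN1' hu1)) (inv_mem (hN1 hb1))
  have hR1 : Rp cs R.nsys (cs.simple 1) (a1⁻¹ * u1 * b1⁻¹) := hm1 ▸ hrp 1 t1 ht1
  obtain ⟨p, p', hp⟩ := h1 a1⁻¹ (inv_mem ha1) (hN1 (inv_mem ha1))
  obtain ⟨q, q', hq⟩ := h1' u1 hu1 (hN1' hu1)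
  obtain ⟨r, r', hr⟩ := h1 b1⁻¹ (inv_mem hb1) (hN1 (inv_mem hb1))
  have hρ1 : ((ρ ⟨a1⁻¹ * u1 * b1⁻¹, hm1N⟩ : M4ˣ) : M4) = Pm p p' * Qm q q' * Pm r r' := by
    have h5 : (⟨a1⁻¹ * u1 * b1⁻¹, hm1N⟩ : ↥(Nn X)) = ⟨a1⁻¹, hN1 (inv_mem ha1)⟩ * ⟨u1, hN1' hu1⟩ * ⟨b1⁻¹, hN1 (inv_mem hb1)⟩ := rfl
    rw [h5, map_mul, map_mul, Units.val_mul, Units.val_mul, hp, hq, hr]
    rfl
  obtain ⟨rfl, rfl, rfl, rfl, hp0, hp0'⟩ := solve1 p p' q q' r r'
    (by rw [← hρ1]; exact hm _ hm1N 1 0 (hmon 1 _ hR1 0 1 (by decide +kernel)) 0 (by decide))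
    (by rw [← hρ1]; exact hm _ hm1N 0 1 (hmon 1 _ hR1 1 0 (by decide +kernel)) 1 (by decide))
    (by rw [← hρ1]; exact hm _ hm1N 3 2 (hmon 1 _ hR1 2 3 (by decide +kernel)) 2 (by decide))
    (by rw [← hρ1]; exact hm _ hm1N 2 3 (hmon 1 _ hR1 3 2 (by decide +kernel)) 3 (by decide))
  -- node `2`
  obtain ⟨u2, hu2, hu21⟩ := hex (-sr 2) (isRoot_sr cs h 2).neg
  obtain ⟨a2, ha2, t2, ht2, b2, hb2, he2⟩ := R.rk1 2 u2 hu2 hu21
  have hm2 : t2 * n 2 = a2⁻¹ * u2 * b2⁻¹ := by rw [he2]; group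
  have hm2N : a2⁻¹ * u2 * b2⁻¹ ∈ Nn X := mul_mem (mul_mem (inv_mem (hN2 ha2)) (hN2' hu2)) (inv_mem (hN2 hb2))
  have hR2 : Rp cs R.nsys (cs.simple 2) (a2⁻¹ * u2 * b2⁻¹) := hm2 ▸ hrp 2 t2 ht2
  obtain ⟨s, hs⟩ := h2 a2⁻¹ (inv_mem ha2) (hN2 (inv_mem ha2))
  obtain ⟨s₁, hs₁⟩ := h2' u2 hu2 (hN2' hu2)
  obtain ⟨s₂, hs₂⟩ := h2 b2⁻¹ (inv_mem hb2) (hN2 (inv_mem hb2))
  have hρ2 : ((ρ ⟨a2⁻¹ * u2 * b2⁻¹, hm2N⟩ : M4ˣ) : M4) = P2 s * Q2 s₁ * P2 s₂ := by
    have h5 : (⟨a2⁻¹ * u2 * b2⁻¹, hm2N⟩ : ↥(Nn X)) = ⟨a2⁻¹, hN2 (inv_mem ha2)⟩ * ⟨u2, hN2' hu2⟩ * ⟨b2⁻¹, hN2 (inv_mem hb2)⟩ := rfl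
    rw [h5, map_mul, map_mul, Units.val_mul, Units.val_mul, hs, hs₁, hs₂]
    rfl
  obtain ⟨rfl, rfl, hs0⟩ := solve2 s s₁ s₂
    (by rw [← hρ2]; exact hm _ hm2N 2 1 (hmon 2 _ hR2 1 2 (by decide +kernel)) 1 (by decide))
    (by rw [← hρ2]; exact hm _ hm2N 1 2 (hmon 2 _ hR2 2 1 (by decide +kernel)) 2 (by decide))
  -- the change of basis
  have hD := Dm_sq r r' s₂ hp0 hp0' hs0
  obtain ⟨hd1, hd2, hd3, hd4⟩ := Dm_conj r r' s₂ hp0 hp0' hs0
  let D : M4ˣ := ⟨Dm r r' s₂, Dm r r' s₂, hD, hD⟩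
  have hDi : D⁻¹ = D := rfl
  have hval : ∀ M : M4ˣ, ((MulAut.conj D M : M4ˣ) : M4) = Dm r r' s₂ * (M : M4) * Dm r r' s₂ := fun M => rfl
  have hprod : ∀ A B C : M4, Dm r r' s₂ * (A * B * C) * Dm r r' s₂ =
      (Dm r r' s₂ * A * Dm r r' s₂) * (Dm r r' s₂ * B * Dm r r' s₂) * (Dm r r' s₂ * C * Dm r r' s₂) := by
    intro A B C
    calc Dm r r' s₂ * (A * B * C) * Dm r r' s₂
        = Dm r r' s₂ * A * 1 * B * 1 * C * Dm r r' s₂ := by simp only [mul_one, mul_assoc]
      _ = Dm r r' s₂ * A * (Dm r r' s₂ * Dm r r' s₂) * B * (Dm r r' s₂ * Dm r r' s₂) * C * Dm r r' s₂ := by rw [hD]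
      _ = _ := by simp only [mul_assoc]
  refine ⟨(MulAut.conj D).toMonoidHom.comp ρ, ![⟨a1⁻¹, hN1 (inv_mem ha1)⟩, ⟨u1, hN1' hu1⟩, ⟨a2⁻¹, hN2 (inv_mem ha2)⟩,
    ⟨u2, hN2' hu2⟩], ![⟨a1⁻¹ * u1 * b1⁻¹, hm1N⟩, ⟨a2⁻¹ * u2 * b2⁻¹, hm2N⟩], ?_, inv_mem ha1, inv_mem ha2, ?_, ?_, hR1, hR2, ?_⟩
  · intro k
    fin_cases k
    · change Dm r r' s₂ * ((ρ ⟨a1⁻¹, hN1 (inv_mem ha1)⟩ : M4ˣ) : M4) * Dm r r' s₂ = A1
      rw [hp]; exact hd1
    · change Dm r r' s₂ * ((ρ ⟨u1, hN1' hu1⟩ : M4ˣ) : M4) * Dm r r' s₂ = B1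
      rw [hq]; exact hd2
    · change Dm r r' s₂ * ((ρ ⟨a2⁻¹, hN2 (inv_mem ha2)⟩ : M4ˣ) : M4) * Dm r r' s₂ = A2
      rw [hs]; exact hd3
    · change Dm r r' s₂ * ((ρ ⟨u2, hN2' hu2⟩ : M4ˣ) : M4) * Dm r r' s₂ = B2
      rw [hs₁]; exact hd4
  · refine (hval _).trans ?_
    rw [show ((ρ (![⟨a1⁻¹ * u1 * b1⁻¹, hm1N⟩, ⟨a2⁻¹ * u2 * b2⁻¹, hm2N⟩] 0) : M4ˣ) : M4) = _ from hρ1, hprod, hd1, hd2]
  · refine (hval _).trans ?_
    rw [show ((ρ (![⟨a1⁻¹ * u1 * b1⁻¹, hm1N⟩, ⟨a2⁻¹ * u2 * b2⁻¹, hm2N⟩] 1) : M4ˣ) : M4) = _ from hρ2, hprod, hd3, hd4]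
  · intro x hx u hu hN
    change MulAut.conj D (ρ ⟨u, hN⟩) = 1
    rw [h0 x hx u hu hN, map_one]

end

end Cfsg.Agent.H874.SNX
end

-- part: H874/SNX/LevH
section
set_option autoImplicit false
set_option linter.unusedSectionVars false

namespace Cfsg.Agent.H874.SNX

open CoxeterSystem Cfsg.Agent.ChevalleyStructure.CoxeterGeom Cfsg.Agent.Tits.Roots Cfsg.Agent.Tits.Core
  Cfsg.Agent.Tits.Exchange Cfsg.Agent.Nodes.Reps Cfsg.Agent.Nodes.BNOf Cfsg.Agent.Nodes.StabComb
  Cfsg.Agent.Nodes.Bruhat Cfsg.Agent.Nodes.OppDec Cfsg.Agent.Nodes.Unique Cfsg.Agent.Nodes.CardSup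
  Cfsg.Agent.Nodes.LeviDec Cfsg.Agent.H880.Six
open Matrix
open scoped commutatorElement

variable {W Y : Type*} [Group W] [Group Y] {cs : CoxeterSystem CoxeterMatrix.F₄ W}
  {h : IsCartan CoxeterMatrix.F₄ A4} {T : Subgroup Y} {n : Fin 4 → Y} {X : (Fin 4 → ℤ) → Subgroup Y}

section

variable (R : RGD cs h 3 T n X) (hst : Strict cs h X)

include R hst

theorem mem_of_conj {i : Fin 4} {m : Y} (hm : Rp cs R.nsys (cs.simple i) m) {z : Fin 4 → ℤ} (hz : IsRoot cs h z)
    {u : Y} (hu : u ∈ X z) : ∃ x ∈ X (refl A4 i z), u = m * x * m⁻¹ := by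
  refine ⟨m⁻¹ * u * m, ?_, by group⟩
  have h1 := R.conj_mem' hm hz hu
  rwa [show (cs.simple i)⁻¹ = cs.simple i from cs.inv_simple i, rep_simple] at h1

/-- the values of `ρ` -/
theorem exists_val [Finite Y] (hc : ∀ i, Nat.card (X (sr i)) = 3) :
    ∃ (ρ : ↥(Nn X) →* M4ˣ) (g : Fin 4 → ↥(Nn X)), (∀ k, ((ρ (g k) : M4ˣ) : M4) = gen k) ∧ (g 0 : Y) ∈ X (sr 1) ∧
      (g 0 : Y) ≠ 1 ∧ (∀ z, (z = sr 2 ∨ z = r112) → ∀ u ∈ X z, ∀ hN : u ∈ Nn X, ρ ⟨u, hN⟩ = 1 → u = 1) ∧
      ∀ L : List (Fin 4 → ℤ), (∀ y ∈ L, y ∈ LF) → sr 1 ∉ L → ∀ u ∈ SL X L, ∃ (hN : u ∈ Nn X) (a b c : ZMod 3),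
        ((ρ ⟨u, hN⟩ : M4ˣ) : M4) = SB a b c ∧ (sr 2 ∉ L → a = 0) ∧ (r12 ∉ L → b = 0) ∧ (r112 ∉ L → c = 0) := by
  obtain ⟨ρ, g, m, hg, hg0, hg2, hm0, hm1, hR0, hR1, h0⟩ := exists_std R hst hc
  have hne : ∀ k, gen k ≠ 1 → (g k : Y) ≠ 1 := by
    intro k hk hcon
    apply hk
    rw [← hg k, show g k = 1 from Subtype.ext hcon, map_one, Units.val_one]
  have hroot : ∀ z ∈ LF, z ≠ sr 1 → ∀ u ∈ X z, ∃ (hN : u ∈ Nn X) (a b c : ZMod 3),
      ((ρ ⟨u, hN⟩ : M4ˣ) : M4) = SB a b c ∧ (z ≠ sr 2 → a = 0) ∧ (z ≠ r12 → b = 0) ∧ (z ≠ r112 → c = 0) := by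
    intro z hz hz1 u hu
    have hN : u ∈ Nn X := X_le_Nn R hst (List.mem_append_left _ hz) hu
    have hzr : IsRoot cs h z := root_LF hz
    refine ⟨hN, ?_⟩
    rcases LF_cases z hz with rfl | rfl | rfl | rfl | hz
    · exact absurd rfl hz1
    · obtain ⟨k, hk⟩ := mem_zpowers_of (card_X R hc hzr) hg2 (hne 2 (by decide +kernel)) hu
      refine ⟨(k : ℕ), 0, 0, ?_, fun h => absurd rfl h, fun _ => rfl, fun _ => rfl⟩
      have e : (⟨u, hN⟩ : ↥(Nn X)) = g 2 ^ (k : ℕ) := Subtype.ext hk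
      rw [e, map_pow, Units.val_pow_eq_pow_val, hg 2]
      exact A2_pow k
    · obtain ⟨x, hx, hxu⟩ := mem_of_conj R hst hR1 hzr hu
      rw [refl12] at hx
      obtain ⟨k, hk⟩ := mem_zpowers_of (card_X R hc (isRoot_sr cs h 1)) hg0 (hne 0 (by decide +kernel)) hx
      refine ⟨0, (k : ℕ), 0, ?_, fun _ => rfl, fun h => absurd rfl h, fun _ => rfl⟩
      have e : (⟨u, hN⟩ : ↥(Nn X)) = m 1 * g 0 ^ (k : ℕ) * (m 1)⁻¹ := Subtype.ext (hxu.trans (by rw [hk]; rfl))
      have e2 : (⟨u, hN⟩ : ↥(Nn X)) * m 1 = m 1 * g 0 ^ (k : ℕ) := by rw [e]; group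
      have e3 := congrArg (fun t => ((ρ t : M4ˣ) : M4)) e2
      simp only [map_mul, map_pow, Units.val_mul, Units.val_pow_eq_pow_val, hm1, hg 0] at e3
      have e4 : A2 * B2 * A2 * A1 ^ (k : ℕ) = SB 0 (k : ℕ) 0 * (A2 * B2 * A2) := conj12 k
      have e5 : ((ρ ⟨u, hN⟩ : M4ˣ) : M4) * (A2 * B2 * A2) = SB 0 (k : ℕ) 0 * (A2 * B2 * A2) := e3.trans e4
      have e6 : (A2 * B2 * A2) * ((ρ (m 1) : M4ˣ)⁻¹ : M4ˣ) = 1 := by rw [← hm1]; exact Units.mul_inv _
      calc ((ρ ⟨u, hN⟩ : M4ˣ) : M4) = ((ρ ⟨u, hN⟩ : M4ˣ) : M4) * ((A2 * B2 * A2) * ((ρ (m 1) : M4ˣ)⁻¹ : M4ˣ)) := by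
            rw [e6, mul_one]
        _ = (SB 0 (k : ℕ) 0 * (A2 * B2 * A2)) * ((ρ (m 1) : M4ˣ)⁻¹ : M4ˣ) := by rw [← mul_assoc, e5]
        _ = SB 0 (k : ℕ) 0 := by rw [mul_assoc, e6, mul_one]
    · obtain ⟨x, hx, hxu⟩ := mem_of_conj R hst hR0 hzr hu
      rw [refl112] at hx
      obtain ⟨k, hk⟩ := mem_zpowers_of (card_X R hc (isRoot_sr cs h 2)) hg2 (hne 2 (by decide +kernel)) hx
      refine ⟨0, 0, -(k : ℕ), ?_, fun _ => rfl, fun _ => rfl, fun h => absurd rfl h⟩
      have e : (⟨u, hN⟩ : ↥(Nn X)) = m 0 * g 2 ^ (k : ℕ) * (m 0)⁻¹ := Subtype.ext (hxu.trans (by rw [hk]; rfl))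
      have e2 : (⟨u, hN⟩ : ↥(Nn X)) * m 0 = m 0 * g 2 ^ (k : ℕ) := by rw [e]; group
      have e3 := congrArg (fun t => ((ρ t : M4ˣ) : M4)) e2
      simp only [map_mul, map_pow, Units.val_mul, Units.val_pow_eq_pow_val, hm0, hg 2] at e3
      have e4 : A1 * B1 * A1 * A2 ^ (k : ℕ) = SB 0 0 (-(k : ℕ)) * (A1 * B1 * A1) := conj112 k
      have e5 : ((ρ ⟨u, hN⟩ : M4ˣ) : M4) * (A1 * B1 * A1) = SB 0 0 (-(k : ℕ)) * (A1 * B1 * A1) := e3.trans e4
      have e6 : (A1 * B1 * A1) * ((ρ (m 0) : M4ˣ)⁻¹ : M4ˣ) = 1 := by rw [← hm0]; exact Units.mul_inv _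
      calc ((ρ ⟨u, hN⟩ : M4ˣ) : M4) = ((ρ ⟨u, hN⟩ : M4ˣ) : M4) * ((A1 * B1 * A1) * ((ρ (m 0) : M4ˣ)⁻¹ : M4ˣ)) := by
            rw [e6, mul_one]
        _ = (SB 0 0 (-(k : ℕ)) * (A1 * B1 * A1)) * ((ρ (m 0) : M4ˣ)⁻¹ : M4ˣ) := by rw [← mul_assoc, e5]
        _ = SB 0 0 (-(k : ℕ)) := by rw [mul_assoc, e6, mul_one]
    · refine ⟨0, 0, 0, ?_, fun _ => rfl, fun _ => rfl, fun _ => rfl⟩
      rw [h0 z hz u hu hN, SB_zero, Units.val_one]
  have hinj : ∀ u ∈ X (sr 2), ∀ hN : u ∈ Nn X, ρ ⟨u, hN⟩ = 1 → u = 1 := by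
    intro u hu hN h1
    obtain ⟨k, hk⟩ := mem_zpowers_of (card_X R hc (isRoot_sr cs h 2)) hg2 (hne 2 (by decide +kernel)) hu
    have e : (⟨u, hN⟩ : ↥(Nn X)) = g 2 ^ (k : ℕ) := Subtype.ext hk
    rw [e, map_pow] at h1
    have h2 := congrArg Units.val h1
    rw [Units.val_pow_eq_pow_val, hg 2, Units.val_one, ← SB_zero] at h2
    have h3 := (SB_inj _ _ _ _ _ _ ((A2_pow k).symm.trans h2)).1
    rw [hk, k_zero k h3]
    simp
  refine ⟨ρ, g, hg, hg0, hne 0 (by decide +kernel), ?_, fun L hL hL1 u hu => ?_⟩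
  · rintro z (rfl | rfl) u hu hN h1
    · exact hinj u hu hN h1
    · obtain ⟨x, hx, hxu⟩ := mem_of_conj R hst hR0 (root_LF (by decide +kernel)) hu
      rw [refl112] at hx
      have hxN : x ∈ Nn X := X_le_Nn R hst (List.mem_append_left _ (by decide +kernel)) hx
      have e : (⟨u, hN⟩ : ↥(Nn X)) = m 0 * ⟨x, hxN⟩ * (m 0)⁻¹ := Subtype.ext hxu
      have h2 : ρ ⟨x, hxN⟩ = 1 := by
        rw [e, map_mul, map_mul, map_inv] at h1
        have h3 := congrArg (fun t => (ρ (m 0))⁻¹ * t * ρ (m 0)) h1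
        simpa [mul_assoc] using h3
      rw [hxu, hinj x hx hxN h2]
      group
  let H : Subgroup Y :=
    { carrier := {u | ∃ (hN : u ∈ Nn X) (a b c : ZMod 3),
        ((ρ ⟨u, hN⟩ : M4ˣ) : M4) = SB a b c ∧ (sr 2 ∉ L → a = 0) ∧ (r12 ∉ L → b = 0) ∧ (r112 ∉ L → c = 0)}
      one_mem' := ⟨one_mem _, 0, 0, 0, by
        rw [show (⟨1, one_mem _⟩ : ↥(Nn X)) = 1 from rfl, map_one, Units.val_one, SB_zero], fun _ => rfl, fun _ => rfl,
        fun _ => rfl⟩
      mul_mem' := by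
        rintro u u' ⟨hN, a, b, c, hu, ha, hb, hc⟩ ⟨hN', a', b', c', hu', ha', hb', hc'⟩
        refine ⟨mul_mem hN hN', a + a', b + b', c + c', ?_, fun h => by rw [ha h, ha' h, add_zero],
          fun h => by rw [hb h, hb' h, add_zero], fun h => by rw [hc h, hc' h, add_zero]⟩
        rw [show (⟨u * u', mul_mem hN hN'⟩ : ↥(Nn X)) = ⟨u, hN⟩ * ⟨u', hN'⟩ from rfl, map_mul, Units.val_mul, hu, hu',
          SB_mul]
      inv_mem' := by
        rintro u ⟨hN, a, b, c, hu, ha, hb, hc⟩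
        refine ⟨inv_mem hN, -a, -b, -c, ?_, fun h => by rw [ha h, neg_zero],
          fun h => by rw [hb h, neg_zero], fun h => by rw [hc h, neg_zero]⟩
        rw [show (⟨u⁻¹, inv_mem hN⟩ : ↥(Nn X)) = ⟨u, hN⟩⁻¹ from rfl, map_inv]
        have e : SB (-a) (-b) (-c) * SB a b c = 1 := by
          rw [SB_mul, neg_add_cancel, neg_add_cancel, neg_add_cancel, SB_zero]
        rw [← hu] at e
        calc (((ρ ⟨u, hN⟩)⁻¹ : M4ˣ) : M4) = 1 * (((ρ ⟨u, hN⟩)⁻¹ : M4ˣ) : M4) := (one_mul _).symm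
          _ = SB (-a) (-b) (-c) := by rw [← e, mul_assoc, Units.mul_inv, mul_one] }
  have hle : SL X L ≤ H := SL_le fun z hz u hu => by
    have hz1 : z ≠ sr 1 := fun h => hL1 (h ▸ hz)
    obtain ⟨hN, a, b, c, h1, h2, h3, h4⟩ := hroot z (hL z hz) hz1 u hu
    exact ⟨hN, a, b, c, h1, fun h => h2 fun h' => h (h' ▸ hz), fun h => h3 fun h' => h (h' ▸ hz),
      fun h => h4 fun h' => h (h' ▸ hz)⟩
  exact hle hu

end

/-- `PS2` for subgroups -/
theorem ps2_sub {N : Subgroup Y} {v : Y} (hP : PS2 v) (hv : v ∈ N) (t : ↥N) :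
    Group.IsSolvable ↥(Subgroup.closure ({⟨v, hv⟩, t * ⟨v, hv⟩ * t⁻¹} : Set ↥N)) := by
  have h1 := hP (t : Y)
  have e : (Subgroup.closure ({⟨v, hv⟩, t * ⟨v, hv⟩ * t⁻¹} : Set ↥N)).map N.subtype =
      Subgroup.closure ({v, (t : Y) * v * (t : Y)⁻¹} : Set Y) := by
    rw [MonoidHom.map_closure, Set.image_pair]
    rfl
  rw [← e] at h1
  exact Group.isSolvable_of_surjective
    (f := ((Subgroup.closure ({⟨v, hv⟩, t * ⟨v, hv⟩ * t⁻¹} : Set ↥N)).equivMapOfInjective N.subtype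
      N.subtype_injective).symm.toMonoidHom) (MulEquiv.surjective _)

section

variable (R : RGD cs h 3 T n X) (hst : Strict cs h X)

include R hst

/-- **the test** -/
theorem test [Finite Y] (hc : ∀ i, Nat.card (X (sr i)) = 3) {v : Y} (hv : v ∈ SL X (sr 1 :: L1)) (h3 : v ^ 3 = 1)
    (hP : PS2 v) : v ∈ SL X L1 := by
  obtain ⟨ρ, g, hg, hg0, hg1, -, hval⟩ := exists_val R hst hc
  have hL1 : ∀ y ∈ L1, y ∈ LF := fun y hy => (List.mem_filter.1 hy).1
  obtain ⟨s, hs, y, hy, rfl⟩ := split_SL R hst (x := sr 1) (by decide +kernel) hL1 okL1 hv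
  obtain ⟨k, rfl⟩ := mem_zpowers_of (card_X R hc (isRoot_sr cs h 1)) hg0 hg1 hy
  obtain ⟨hN, a, b, c, h1, -, -, -⟩ := hval L1 hL1 (by decide +kernel) s hs
  have hvN : s * (g 0 : Y) ^ (k : ℕ) ∈ Nn X := mul_mem hN (pow_mem (g 0).2 _)
  have h2 : ((ρ ⟨s * (g 0 : Y) ^ (k : ℕ), hvN⟩ : M4ˣ) : M4) = SB a b c * A1 ^ (k : ℕ) := by
    rw [show (⟨s * (g 0 : Y) ^ (k : ℕ), hvN⟩ : ↥(Nn X)) = ⟨s, hN⟩ * g 0 ^ (k : ℕ) from rfl, map_mul, map_pow,
      Units.val_mul, Units.val_pow_eq_pow_val, h1, hg 0]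
    rfl
  obtain ⟨hk, -⟩ := key ρ g hg (v := ⟨s * (g 0 : Y) ^ (k : ℕ), hvN⟩) (fun t => ps2_sub hP hvN t) k a b c h2
    (Subtype.ext h3)
  rw [hk]
  simpa using hs

theorem test' [Finite Y] (hc : ∀ i, Nat.card (X (sr i)) = 3) {v : Y} (hv : v ∈ SL X (sr 2 :: L3)) (h3 : v ^ 3 = 1)
    (hP : PS2 v) : v ∈ SL X L3 ∨ v ∈ SL X L2 := by
  obtain ⟨ρ, g, hg, hg0, hg1, hinj, hval⟩ := exists_val R hst hc
  have hL3 : ∀ y ∈ L3, y ∈ LF := by decide +kernel
  have hL2 : ∀ y ∈ L2, y ∈ LF := by decide +kernel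
  have hS2 : ∀ y ∈ [(sr 2 : Fin 4 → ℤ)], y ∈ LF := by decide +kernel
  have hS3 : ∀ y ∈ [r112], y ∈ LF := by decide +kernel
  have hv' : v ∈ SL X (r112 :: L2) := by
    refine (show SL X (sr 2 :: L3) ≤ SL X (r112 :: L2) from SL_le fun x hx => X_le_SL ?_) hv
    simp only [L3, L2, List.mem_cons] at hx ⊢
    tauto
  obtain ⟨s, hs, y, hy, hvs⟩ := split_SL R hst (x := sr 2) (by decide +kernel) hL3 okL3 hv
  obtain ⟨s', hs', y', hy', hvs'⟩ := split_SL R hst (x := r112) (by decide +kernel) hL2 okL2 hv'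
  obtain ⟨hN, a, b, c, h1, h1a, h1b, -⟩ := hval L3 hL3 (by decide +kernel) s hs
  obtain ⟨hNy, a₁, b₁, c₁, h2, -, h2b, h2c⟩ := hval _ hS2 (by decide +kernel) y (X_le_SL (List.mem_singleton_self _) hy)
  obtain ⟨hN', a', b', c', h1', -, h1b', h1c'⟩ := hval L2 hL2 (by decide +kernel) s' hs'
  obtain ⟨hNy', a₁', b₁', c₁', h2', h2a', h2b', -⟩ :=
    hval _ hS3 (by decide +kernel) y' (X_le_SL (List.mem_singleton_self _) hy')
  obtain rfl := h1a (by decide +kernel)
  obtain rfl := h1b (by decide +kernel)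
  obtain rfl := h2b (by decide +kernel)
  obtain rfl := h2c (by decide +kernel)
  obtain rfl := h1b' (by decide +kernel)
  obtain rfl := h1c' (by decide +kernel)
  obtain rfl := h2a' (by decide +kernel)
  obtain rfl := h2b' (by decide +kernel)
  have hvN : v ∈ Nn X := hvs ▸ mul_mem hN hNy
  have e1 : ((ρ ⟨v, hvN⟩ : M4ˣ) : M4) = SB a₁ 0 c := by
    rw [show (⟨v, hvN⟩ : ↥(Nn X)) = ⟨s, hN⟩ * ⟨y, hNy⟩ from Subtype.ext hvs, map_mul, Units.val_mul, h1, h2, SB_mul]
    simp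
  have e2 : ((ρ ⟨v, hvN⟩ : M4ˣ) : M4) = SB a' 0 c₁' := by
    rw [show (⟨v, hvN⟩ : ↥(Nn X)) = ⟨s', hN'⟩ * ⟨y', hNy'⟩ from Subtype.ext hvs', map_mul, Units.val_mul, h1', h2', SB_mul]
    simp
  obtain ⟨-, hk⟩ := key ρ g hg (v := ⟨v, hvN⟩) (fun t => ps2_sub hP hvN t) 0 a₁ 0 c (by rw [e1]; simp)
    (Subtype.ext h3)
  rw [mul_zero, zero_add] at hk
  have : Fact (Nat.Prime 3) := ⟨Nat.prime_three⟩
  rcases mul_eq_zero.1 hk with h4 | h4
  · left
    have h5 : ρ ⟨y, hNy⟩ = 1 := Units.ext (by rw [h2, h4, SB_zero, Units.val_one])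
    rw [hvs, hinj _ (Or.inl rfl) y hy hNy h5, mul_one]
    exact hs
  · right
    have h6 := (SB_inj _ _ _ _ _ _ (e1.symm.trans e2)).2.2
    have h5 : ρ ⟨y', hNy'⟩ = 1 := Units.ext (by rw [h2', ← h6, h4, SB_zero, Units.val_one])
    rw [hvs', hinj _ (Or.inr rfl) y' hy' hNy' h5, mul_one]
    exact hs'

end

end Cfsg.Agent.H874.SNX
end

-- part: H874/SNX/B2F4
section
/-!
# The `B₂` test for `F₄(3)` (S3831, T4b; helper874)

`Strict cs h X` (extra hypothesis, needed: an abstract `RGD` of type `F₄` also has the dual labelling): root groups commute if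
the sum is not a root.

* **`tB2_F4`** : `v ∈ U`, `v ^ 3 = 1`, `PS2 v` : the simple coordinate at the short node `1` vanishes;
* **`tB2_F4'`** : if moreover the `{1, 2}`-part of `v` lies in `X (α₂) X (α₂ + 2 α₁)` then it lies in one of them.
-/

set_option autoImplicit false
set_option linter.unusedSectionVars false

namespace Cfsg.Agent.H874.SNX

open CoxeterSystem Cfsg.Agent.ChevalleyStructure.CoxeterGeom Cfsg.Agent.Tits.Roots Cfsg.Agent.Tits.Core
  Cfsg.Agent.Tits.Exchange Cfsg.Agent.Nodes.Reps Cfsg.Agent.Nodes.BNOf Cfsg.Agent.Nodes.StabComb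
  Cfsg.Agent.Nodes.Bruhat Cfsg.Agent.Nodes.OppDec Cfsg.Agent.Nodes.Unique Cfsg.Agent.Nodes.CardSup
  Cfsg.Agent.Nodes.LeviDec Cfsg.Agent.H880.Six
open Cfsg Cfsg.Lie Cfsg.Agent.ChevalleyStructure.CoxeterGeomTypes
open scoped commutatorElement

theorem L1_cases : ∀ x ∈ LF, x ∈ (sr 1 :: L1) := by decide +kernel
theorem L1_one : ∀ x ∈ L1, ∃ k, k ≠ 1 ∧ 0 < x k := by decide +kernel
theorem L1_LF : ∀ x ∈ L1, x ∈ LF := fun _ hx => (List.mem_filter.1 hx).1
theorem S_cases : ∀ x ∈ LF, (x 0 = 0 → x 3 = 0 → x = sr 2 ∨ x = sr 2 + 2 • sr 1) → x ∈ (sr 2 :: L3) := by decide +kernel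
theorem L3_two : ∀ x ∈ L3, ∃ k, k ≠ 2 ∧ 0 < x k := by decide +kernel
theorem L3_LF : ∀ x ∈ L3, x ∈ LF := by decide +kernel
theorem L2_LF : ∀ x ∈ L2, x ∈ LF := by decide +kernel
theorem L2_S : ∀ x ∈ L2, x 0 = 0 → x 3 = 0 → x = sr 2 := by decide +kernel
theorem LF_nn (x : Fin 4 → ℤ) (hx : x ∈ LF) : 0 ≤ x := posRoots.pos x (List.mem_toFinset.2 hx)

section

variable {W Y : Type*} [Group W] [Group Y] {cs : CoxeterSystem CoxeterMatrix.F₄ W}
  {A : Fin 4 → Fin 4 → ℤ} {h : IsCartan CoxeterMatrix.F₄ A} {T : Subgroup Y} {n : Fin 4 → Y}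
  {X : (Fin 4 → ℤ) → Subgroup Y}

theorem tA [Finite Y] (hA : A = A4) (R : RGD cs h 3 T n X) (hc : ∀ i, Nat.card (X (sr i)) = 3) (hst : Strict cs h X)
    {v : Y} (hv : v ∈ RGD.Sup X (RGD.Pos cs h)) (h3 : v ^ 3 = 1) (hP : PS2 v) : v ∈ VJ cs h X {1} := by
  subst hA
  have h1 : v ∈ SL X (sr 1 :: L1) :=
    (show RGD.Sup X (RGD.Pos cs h) ≤ SL X (sr 1 :: L1) from RGD.Sup_le fun x hx => X_le_SL (L1_cases x (mem_LF hx.1 hx.2))) hv
  refine (show SL X L1 ≤ VJ cs h X {1} from SL_le fun x hx => ?_) (test R hst hc h1 h3 hP)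
  obtain ⟨k, hk, hk'⟩ := L1_one x hx
  exact RGD.le_Sup (S := NotJ cs h {1}) ⟨root_LF (L1_LF x hx), LF_nn x (L1_LF x hx), k, hk, hk'⟩

theorem tA' [Finite Y] (hA : A = A4) (R : RGD cs h 3 T n X) (hc : ∀ i, Nat.card (X (sr i)) = 3) (hst : Strict cs h X)
    {v : Y} (hv : v ∈ RGD.Sup X {x | x ∈ RGD.Pos cs h ∧ (x 0 = 0 → x 3 = 0 → x = sr 2 ∨ x = sr 2 + 2 • sr 1)})
    (h3 : v ^ 3 = 1) (hP : PS2 v) :
    v ∈ VJ cs h X {2} ∨ v ∈ RGD.Sup X {x | x ∈ RGD.Pos cs h ∧ (x 0 = 0 → x 3 = 0 → x = sr 2)} := by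
  subst hA
  have h1 : v ∈ SL X (sr 2 :: L3) :=
    (show RGD.Sup X {x | x ∈ RGD.Pos cs h ∧ (x 0 = 0 → x 3 = 0 → x = sr 2 ∨ x = sr 2 + 2 • sr 1)} ≤ SL X (sr 2 :: L3) from
      RGD.Sup_le fun x hx => X_le_SL (S_cases x (mem_LF hx.1.1 hx.1.2) hx.2)) hv
  rcases test' R hst hc h1 h3 hP with h2 | h2
  · left
    refine (show SL X L3 ≤ VJ cs h X {2} from SL_le fun x hx => ?_) h2
    obtain ⟨k, hk, hk'⟩ := L3_two x hx
    exact RGD.le_Sup (S := NotJ cs h {2}) ⟨root_LF (L3_LF x hx), LF_nn x (L3_LF x hx), k, hk, hk'⟩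
  · right
    refine (show SL X L2 ≤ _ from SL_le fun x hx => ?_) h2
    exact RGD.le_Sup (S := {x | x ∈ RGD.Pos cs h ∧ (x 0 = 0 → x 3 = 0 → x = sr 2)})
      ⟨⟨root_LF (L2_LF x hx), LF_nn x (L2_LF x hx)⟩, L2_S x hx⟩

end

section

variable {Y : Type} [Group Y] {T : Subgroup Y}

/-- **T4b** the `B₂` test for `F₄(3)` -/
theorem tB2_F4 [Finite Y] {h : IsCartan CoxeterMatrix.F₄ (cartanOf chevF4 4)} {n : Fin 4 → Y}
    {X : (Fin 4 → ℤ) → Subgroup Y} (R : RGD CoxeterMatrix.F₄.toCoxeterSystem h 3 T n X)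
    (hc : ∀ i, Nat.card (X (sr i)) = 3)
    (hst : ∀ x y, IsRoot CoxeterMatrix.F₄.toCoxeterSystem h x → IsRoot CoxeterMatrix.F₄.toCoxeterSystem h y → x ≠ -y →
      ¬ IsRoot CoxeterMatrix.F₄.toCoxeterSystem h (x + y) → ∀ a ∈ X x, ∀ b ∈ X y, a * b = b * a)
    {v : Y} (hv : v ∈ RGD.Sup X (RGD.Pos CoxeterMatrix.F₄.toCoxeterSystem h)) (h3 : v ^ 3 = 1) (hP : PS2 v) :
    v ∈ VJ CoxeterMatrix.F₄.toCoxeterSystem h X {1} := tA Nodes.TyCox.eqF4 R hc hst hv h3 hP

/-- **T4b'** the second test -/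
theorem tB2_F4' [Finite Y] {h : IsCartan CoxeterMatrix.F₄ (cartanOf chevF4 4)} {n : Fin 4 → Y}
    {X : (Fin 4 → ℤ) → Subgroup Y} (R : RGD CoxeterMatrix.F₄.toCoxeterSystem h 3 T n X)
    (hc : ∀ i, Nat.card (X (sr i)) = 3)
    (hst : ∀ x y, IsRoot CoxeterMatrix.F₄.toCoxeterSystem h x → IsRoot CoxeterMatrix.F₄.toCoxeterSystem h y → x ≠ -y →
      ¬ IsRoot CoxeterMatrix.F₄.toCoxeterSystem h (x + y) → ∀ a ∈ X x, ∀ b ∈ X y, a * b = b * a)
    {v : Y} (hv : v ∈ RGD.Sup X {x | x ∈ RGD.Pos CoxeterMatrix.F₄.toCoxeterSystem h ∧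
      (x 0 = 0 → x 3 = 0 → x = sr 2 ∨ x = sr 2 + 2 • sr 1)}) (h3 : v ^ 3 = 1) (hP : PS2 v) :
    v ∈ VJ CoxeterMatrix.F₄.toCoxeterSystem h X {2} ∨
      v ∈ RGD.Sup X {x | x ∈ RGD.Pos CoxeterMatrix.F₄.toCoxeterSystem h ∧ (x 0 = 0 → x 3 = 0 → x = sr 2)} :=
  tA' Nodes.TyCox.eqF4 R hc hst hv h3 hP

end

end Cfsg.Agent.H874.SNX
end

-- part: H347/SNX/FFin
section
/-!
# S3831, task T4a: automorphisms of order three of `F₄(3)`, the tests inserted (helper347)
-/

set_option autoImplicit false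
set_option linter.unusedSectionVars false

namespace Cfsg.Agent.H347.SNX

open CoxeterSystem Cfsg.Agent.ChevalleyStructure.CoxeterGeom Cfsg.Agent.Tits.Roots Cfsg.Agent.Tits.Core
  Cfsg.Agent.Nodes.Reps Cfsg.Agent.Nodes.BNOf Cfsg.Agent.Nodes.StabComb Cfsg.Agent.Nodes.Bruhat
  Cfsg.Agent.Nodes.LeviDec
open Cfsg.Agent.H880.Six (PS2 Lr3)
open Cfsg.Lie Cfsg.Agent.ChevalleyStructure.CoxeterGeomTypes
open Cfsg.Agent.KFacts.RgdTI (LR)

variable {Y : Type} [Group Y] {T : Subgroup Y}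

/-- **T4a** `F₄(3)` -/
theorem lr3_F4_hst [Finite Y] [IsSimpleGroup Y] {h : IsCartan CoxeterMatrix.F₄ (cartanOf chevF4 4)} {n : Fin 4 → Y}
    {X : (Fin 4 → ℤ) → Subgroup Y} (R : RGD CoxeterMatrix.F₄.toCoxeterSystem h 3 T n X)
    (hG : GG CoxeterMatrix.F₄.toCoxeterSystem h T X = ⊤) (hc : ∀ i, Nat.card (X (sr i)) = 3) (hLR : LR R (sr 3))
    (hst : ∀ x y, IsRoot CoxeterMatrix.F₄.toCoxeterSystem h x → IsRoot CoxeterMatrix.F₄.toCoxeterSystem h y → x ≠ -y →
      ¬ IsRoot CoxeterMatrix.F₄.toCoxeterSystem h (x + y) → ∀ a ∈ X x, ∀ b ∈ X y, a * b = b * a) : Lr3 X 3 := by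
  have e : (2 : ℤ) • (sr 1 : Fin 4 → ℤ) = 2 • sr 1 := by
    rw [two_smul, two_smul]
  refine lr3_F4 R hG hc hLR (fun v hv h3 hP => Cfsg.Agent.H874.SNX.tB2_F4 R hc hst hv h3 hP) fun v hv h3 hP => ?_
  have h1 : v ∈ RGD.Sup X {x | x ∈ RGD.Pos CoxeterMatrix.F₄.toCoxeterSystem h ∧
      (x 0 = 0 → x 3 = 0 → x = sr 2 ∨ x = sr 2 + 2 • sr 1)} := by
    refine RGD.Sup_mono ?_ hv
    rintro x ⟨h1, h2⟩
    refine ⟨h1, fun h4 h5 => ?_⟩
    rw [← e]
    exact h2 ⟨h4, h5⟩
  rcases Cfsg.Agent.H874.SNX.tB2_F4' R hc hst h1 h3 hP with h2 | h2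
  · exact Or.inl h2
  · right
    refine RGD.Sup_mono ?_ h2
    rintro x ⟨h1, h2⟩
    refine ⟨⟨h1, fun h4 => Or.inl (h2 h4.1 h4.2)⟩, ?_⟩
    intro h4
    rw [Set.mem_singleton_iff] at h4
    have h5 : x 0 = 0 := by rw [h4]; rfl
    have h6 : x 3 = 0 := by rw [h4]; rfl
    have h7 := congrFun ((h2 h5 h6).symm.trans h4) 1
    rw [Pi.add_apply, Pi.smul_apply, sr_self, sr_ne (by decide)] at h7
    norm_num at h7

end Cfsg.Agent.H347.SNX
end

private theorem dce_43fe40766763 : _root_.True := by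
  try have : _root_.True := by simp only [_root_.Cfsg.Agent.H874.SNX.L2.eq_1]
  try have : _root_.True := by simp only [_root_.Cfsg.Agent.H874.SNX.Pm.eq_1]
  try have : _root_.True := by simp only [_root_.Cfsg.Agent.H874.SNX.Qm.eq_1]
  try have : _root_.True := by simp only [_root_.Cfsg.Agent.H874.SNX.J4.eq_1]
  try have : _root_.True := by simp only [_root_.Cfsg.Agent.H874.SNX.ok.eq_1]
  try have : _root_.True := by simp only [_root_.Cfsg.Agent.H874.SNX.L3.eq_1]
  exact _root_.True.intro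
end

section
prune_inst 0x7ffca8f8abb8addeffff7e77a6d8cdfc39911fffa4dff9433fe021ef0bdf030009c5a3ad09e002fe0ec2421410a87803f97eeabfe26bd87ffffd1ff41ffbee0fa5e7b508119488340f340ff683f0778a7f3fffffffffffffffffffffffffffbeffbdffffffff

-- part: H117/SN/PslTwo
section
set_option linter.all false
open scoped Cfsg.Agent.FastGrp

/-!
# S3831, row C1b: `PSL_n(2)`, `n ≥ 3`, elements of order three (helper117)

`g ∈ GL_n(2)` of order three has an invariant subspace `U` of dimension `3` or `4` with an invariant complement `W` and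
`g|U ≠ 1`; `M = GL(U) × 1` is simple of order `168` or `20160`, so `g` centralises `M` by `RN`, a contradiction.
-/

set_option autoImplicit false
set_option linter.unusedSectionVars false

open scoped Matrix MatrixGroups commutatorElement

namespace Cfsg.Agent.H117.SN

open Subgroup Cfsg Matrix Cfsg.Agent.H459.Rad Cfsg.Agent.H21.SN
open Cfsg.Agent.ClassicalGeometry.AutPSL.Root Cfsg.Agent.ClassicalGeometry.AutPSL.Auto
  Cfsg.Agent.ClassicalGeometry.AutPSL.Main

section Emb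

variable {F : Type*} [Field F] {V : Type*} [AddCommGroup V] [Module F V]

/-- `GL(U) × 1` -/
noncomputable def emb {U W : Submodule F V} (h : IsCompl U W) : (U ≃ₗ[F] U) →* (V ≃ₗ[F] V) where
  toFun u := ((Submodule.prodEquivOfIsCompl U W h).symm.trans (LinearEquiv.prodCongr u (LinearEquiv.refl F W))).trans
    (Submodule.prodEquivOfIsCompl U W h)
  map_one' := by
    ext x
    simp only [LinearEquiv.trans_apply, LinearEquiv.prodCongr_apply, LinearEquiv.coe_one, id_eq,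
      LinearEquiv.refl_apply, Prod.mk.eta, LinearEquiv.apply_symm_apply]
  map_mul' u v := by
    ext x
    simp only [LinearEquiv.trans_apply, LinearEquiv.prodCongr_apply, LinearEquiv.mul_apply,
      LinearEquiv.refl_apply, LinearEquiv.symm_apply_apply]

theorem emb_add {U W : Submodule F V} (h : IsCompl U W) (u : U ≃ₗ[F] U) (p : U) (w : W) :
    emb h u ((p : V) + w) = (u p : V) + w := by
  have h1 : (Submodule.prodEquivOfIsCompl U W h).symm ((p : V) + w) = (p, w) := by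
    rw [LinearEquiv.symm_apply_eq]
    rfl
  change (Submodule.prodEquivOfIsCompl U W h) ((LinearEquiv.prodCongr u (LinearEquiv.refl F W))
    ((Submodule.prodEquivOfIsCompl U W h).symm ((p : V) + w))) = _
  rw [h1]
  rfl

theorem exists_dec {U W : Submodule F V} (h : IsCompl U W) (x : V) : ∃ (p : U) (w : W), x = (p : V) + w := by
  refine ⟨((Submodule.prodEquivOfIsCompl U W h).symm x).1, ((Submodule.prodEquivOfIsCompl U W h).symm x).2, ?_⟩
  exact ((Submodule.prodEquivOfIsCompl U W h).apply_symm_apply x).symm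

theorem emb_injective {U W : Submodule F V} (h : IsCompl U W) : Function.Injective (emb h) := by
  intro u v huv
  ext p
  have h1 := congrArg (fun z : V ≃ₗ[F] V => z ((p : V) + ((0 : W) : V))) huv
  simp only [emb_add] at h1
  exact add_right_cancel h1

/-- the restriction of a map of order three -/
def res {a : V ≃ₗ[F] V} (h3 : ∀ v, a (a (a v)) = v) {U : Submodule F V} (hU : ∀ u ∈ U, a u ∈ U) : U ≃ₗ[F] U :=
  LinearEquiv.ofLinearMap ((a : V →ₗ[F] V).restrict hU)
    (((a : V →ₗ[F] V).comp (a : V →ₗ[F] V)).restrict fun u hu => hU _ (hU u hu))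
    (by ext u; exact h3 u) (by ext u; exact h3 u)

theorem res_apply {a : V ≃ₗ[F] V} (h3 : ∀ v, a (a (a v)) = v) {U : Submodule F V} (hU : ∀ u ∈ U, a u ∈ U) (u : U) :
    ((res h3 hU u : U) : V) = a u := rfl

theorem emb_conj {a : V ≃ₗ[F] V} (h3 : ∀ v, a (a (a v)) = v) {U W : Submodule F V} (hU : ∀ u ∈ U, a u ∈ U)
    (hW : ∀ w ∈ W, a w ∈ W) (h : IsCompl U W) (u : U ≃ₗ[F] U) :
    a * emb h u * a⁻¹ = emb h (res h3 hU * u * (res h3 hU)⁻¹) := by
  rw [mul_inv_eq_iff_eq_mul]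
  ext x
  obtain ⟨p, w, rfl⟩ := exists_dec h x
  rw [LinearEquiv.mul_apply, LinearEquiv.mul_apply, emb_add, map_add, map_add]
  have h1 := emb_add h (res h3 hU * u * (res h3 hU)⁻¹) (res h3 hU p) (res h3 hW w)
  rw [res_apply, res_apply] at h1
  rw [h1]
  have h2 : (res h3 hU * u * (res h3 hU)⁻¹) (res h3 hU p) = res h3 hU (u p) := by
    rw [LinearEquiv.mul_apply, LinearEquiv.mul_apply]
    congr 2
    exact (res h3 hU).symm_apply_apply p
  rw [h2]
  rfl

/-- linear automorphisms as matrices -/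
noncomputable def toGL {d : ℕ} (b : Module.Basis (Fin d) F V) : (V ≃ₗ[F] V) ≃* GL (Fin d) F :=
  (LinearMap.GeneralLinearGroup.generalLinearEquiv F V).symm.trans (Matrix.GeneralLinearGroup.toLin' b).symm

end Emb

section Two

variable {F : Type*} [Field F] [Fintype F] {n : ℕ}

theorem det_eq (hF : Fintype.card F = 2) (A : GL (Fin n) F) : (A : Matrix (Fin n) (Fin n) F).det = 1 := by
  rcases eq_zero_or_one hF (A : Matrix (Fin n) (Fin n) F).det with h | h
  · exfalso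
    have h1 : (A : Matrix (Fin n) (Fin n) F).det * ((A⁻¹ : GL (Fin n) F) : Matrix (Fin n) (Fin n) F).det = 1 := by
      rw [← det_mul, ← Units.val_mul, mul_inv_cancel, Units.val_one, det_one]
    rw [h, zero_mul] at h1
    exact zero_ne_one h1
  · exact h

/-- `GL_n(2) = SL_n(2)` -/
def toSL (hF : Fintype.card F = 2) : GL (Fin n) F ≃* Matrix.SpecialLinearGroup (Fin n) F where
  toFun A := ⟨A, det_eq hF A⟩
  invFun s := s
  left_inv A := by apply Units.ext; rfl
  right_inv s := by apply Subtype.ext; rfl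
  map_mul' A B := rfl

theorem pr_toSL_injective (hF : Fintype.card F = 2) :
    Function.Injective fun A : GL (Fin n) F => pr (toSL hF A) := by
  intro A B h
  obtain ⟨c, hc⟩ := exists_smul_of_pr_eq h
  apply Units.ext
  rcases eq_zero_or_one hF c with rfl | rfl
  · rw [zero_smul] at hc
    have h1 := (toSL hF B).2
    rcases Nat.eq_zero_or_pos n with rfl | hn
    · exact Subsingleton.elim _ _
    · have : Nonempty (Fin n) := ⟨⟨0, hn⟩⟩
      exfalso
      change ((toSL hF B : Matrix.SpecialLinearGroup (Fin n) F) : Matrix (Fin n) (Fin n) F).det = 1 at h1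
      rw [hc, det_zero] at h1
      exact zero_ne_one h1
  · rw [one_smul] at hc
    exact hc.symm

/-- `GL_n(2) = PSL_n(2)` -/
noncomputable def toPSL (hF : Fintype.card F = 2) : GL (Fin n) F ≃* Matrix.ProjectiveSpecialLinearGroup (Fin n) F :=
  MulEquiv.ofBijective ((pr : Matrix.SpecialLinearGroup (Fin n) F →* _).comp (toSL hF).toMonoidHom)
    ⟨pr_toSL_injective hF, pr_surjective.comp (toSL hF).surjective⟩

theorem lift_toPSL (hF : Fintype.card F = 2) (A B : GL (Fin n) F) :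
    Cfsg.Agent.ClassicalGeometry.AutPSL.Auto.lift (cj A) (toPSL hF B) = toPSL hF (A * B * A⁻¹) := by
  change Cfsg.Agent.ClassicalGeometry.AutPSL.Auto.lift (cj A) (pr (toSL hF B)) = pr (toSL hF (A * B * A⁻¹))
  rw [lift_pr]
  congr 1

theorem sigma_eq_one (hF : Fintype.card F = 2) (σ : F ≃+* F) : σ = 1 := by
  ext c
  rcases eq_zero_or_one hF c with rfl | rfl
  · rw [map_zero, map_zero]
  · rw [map_one, map_one]

theorem card_gl_three (hF : Fintype.card F = 2) : Nat.card (GL (Fin 3) F) = 168 := by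
  rw [Matrix.card_GL_field, Fin.prod_univ_three, hF]
  norm_num

theorem card_gl_four (hF : Fintype.card F = 2) : Nat.card (GL (Fin 4) F) = 20160 := by
  rw [Matrix.card_GL_field, Fin.prod_univ_four, hF]
  norm_num

theorem simple_gl (hF : Fintype.card F = 2) (hn : 3 ≤ n) : IsSimpleGroup (GL (Fin n) F) := by
  have := Cfsg.Agent.S0249.result (F := F) n hn
  exact (toPSL hF).isSimpleGroup

end Two

section Simple

variable {G : Type*} [Group G] [Finite G] [IsSimpleGroup G]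

theorem not_comm_of_card (h : ¬ (Nat.card G).Prime) : ¬ IsMulCommutative G := by
  intro hc
  let _ : CommGroup G := { (inferInstance : Group G) with mul_comm := hc.is_comm.comm }
  exact h IsSimpleGroup.prime_card

theorem not_solvable_of_card (h : ¬ (Nat.card G).Prime) : ¬ Group.IsSolvable G := by
  intro hs
  apply not_comm_of_card h
  have hc : commutator G = ⊥ := by
    rcases (inferInstance : (commutator G).Normal).eq_bot_or_eq_top with h3 | h3
    · exact h3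
    · exfalso
      have : Group.IsPerfect G := ⟨h3⟩
      exact Group.IsPerfect.not_isSolvable _ hs
  refine ⟨⟨fun a b => ?_⟩⟩
  have h4 : ⁅a, b⁆ ∈ commutator G := Subgroup.commutator_mem_commutator (mem_top _) (mem_top _)
  rw [hc, mem_bot, commutatorElement_def] at h4
  calc a * b = (a * b * a⁻¹ * b⁻¹) * (b * a) := by group
    _ = b * a := by rw [h4, one_mul]

theorem eq_one_of_central (h : ¬ (Nat.card G).Prime) {z : G} (hz : ∀ g : G, z * g * z⁻¹ = g) : z = 1 := by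
  have h1 : z ∈ center G := by
    rw [mem_center_iff]
    intro g
    exact (mul_inv_eq_iff_eq_mul.1 (hz g)).symm
  rcases (inferInstance : (center G).Normal).eq_bot_or_eq_top with h3 | h3
  · rwa [h3, mem_bot] at h1
  · exfalso
    apply not_comm_of_card h
    refine ⟨⟨fun a b => ?_⟩⟩
    have h4 : b ∈ center G := by rw [h3]; exact mem_top b
    exact mem_center_iff.1 h4 a

end Simple

/-- the main step -/
theorem main {F : Type} [Field F] [Fintype F] {n : ℕ} (hF : Fintype.card F = 2) (hn : 3 ≤ n) :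
    G3 (Matrix.ProjectiveSpecialLinearGroup (Fin n) F) := by
  intro x hx _ hR
  have hxp : x ^ 3 = 1 := by rw [← hx]; exact pow_orderOf_eq_one x
  obtain ⟨A, σ, rfl⟩ := Cfsg.Agent.BpLin.exists_type (n := n) (F := F) (by omega) (by decide) hxp
  obtain rfl := sigma_eq_one hF σ
  rw [map_one fld, mul_one] at hx hR hxp
  have hnt : Nontrivial (Fin n) := Fin.nontrivial_iff_two_le.2 (by omega)
  -- `A ^ 3 = 1`, `A ≠ 1`
  have hA1 : A ≠ 1 := by
    rintro rfl
    rw [map_one, map_one, orderOf_one] at hx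
    omega
  have hA3 : A ^ 3 = 1 := by
    have h1 : Cfsg.Agent.ClassicalGeometry.AutPSL.Auto.lift (cj (A ^ 3) * fld (1 : F ≃+* F)) =
        Cfsg.Agent.ClassicalGeometry.AutPSL.Auto.lift (fld (ι := Fin n) (1 : F ≃+* F)) := by
      rw [map_one fld, mul_one, map_one, map_pow, map_pow, hxp]
    obtain ⟨⟨r, hr⟩, -⟩ := injective_aux h1
    apply Units.ext
    rw [← hr]
    rcases eq_zero_or_one hF r with rfl | rfl
    · exfalso
      have h2 := det_eq hF (A ^ 3)
      rw [← hr, map_zero, det_zero] at h2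
      exact zero_ne_one h2
    · rw [map_one, Units.val_one]
  -- the linear map
  set b : Module.Basis (Fin n) F (Fin n → F) := Pi.basisFun F (Fin n) with hb
  set a : (Fin n → F) ≃ₗ[F] (Fin n → F) := (toGL b).symm A with ha
  have ha3 : a * a * a = 1 := by
    rw [ha, ← map_mul, ← map_mul, ← pow_two, ← pow_succ, hA3, map_one]
  have h3 : ∀ v, a (a (a v)) = v := fun v => congrArg (fun z : (Fin n → F) ≃ₗ[F] (Fin n → F) => z v) ha3
  obtain ⟨v, hv⟩ : ∃ v, a v ≠ v := by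
    by_contra h
    push Not at h
    apply hA1
    have h1 : a = 1 := LinearEquiv.ext h
    rw [ha, map_eq_one_iff _ (toGL b).symm.injective] at h1
    exact h1
  obtain ⟨U, hU, hd, u₀, hu₀, hu₀'⟩ := exists_inv hF (a := (a : (Fin n → F) →ₗ[F] (Fin n → F)))
    (by rw [Module.finrank_fintype_fun_eq_card, Fintype.card_fin]; exact hn) h3 hv
  obtain ⟨W, hW, hc⟩ := exists_compl hF (a := (a : (Fin n → F) →ₗ[F] (Fin n → F))) h3 hU
  -- the subgroup
  let Φ : (U ≃ₗ[F] U) →* Matrix.ProjectiveSpecialLinearGroup (Fin n) F :=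
    ((toPSL hF).toMonoidHom.comp (toGL b).toMonoidHom).comp (emb hc)
  have hΦi : Function.Injective Φ :=
    ((toPSL hF).injective.comp (toGL b).injective).comp (emb_injective hc)
  have hΦ : ∀ u, Cfsg.Agent.ClassicalGeometry.AutPSL.Auto.lift (cj A) (Φ u) =
      Φ (res h3 hU * u * (res h3 hU)⁻¹) := by
    intro u
    change Cfsg.Agent.ClassicalGeometry.AutPSL.Auto.lift (cj A) (toPSL hF (toGL b (emb hc u))) =
      toPSL hF (toGL b (emb hc (res h3 hU * u * (res h3 hU)⁻¹)))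
    rw [lift_toPSL, ← emb_conj h3 hU hW hc, map_mul (toGL b), map_mul (toGL b), map_inv (toGL b), ha,
      MulEquiv.apply_symm_apply]
  let eM : (U ≃ₗ[F] U) ≃* Φ.range := MonoidHom.ofInjective hΦi
  -- order and simplicity
  obtain ⟨hsU, hcU⟩ : IsSimpleGroup (U ≃ₗ[F] U) ∧ (Nat.card (U ≃ₗ[F] U) = 168 ∨ Nat.card (U ≃ₗ[F] U) = 20160) := by
    rcases hd with hd | hd
    · have e := toGL (Module.finBasisOfFinrankEq F U hd)
      have := simple_gl (n := 3) hF le_rfl
      exact ⟨e.isSimpleGroup, Or.inl (by rw [Nat.card_congr e.toEquiv, card_gl_three hF])⟩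
    · have e := toGL (Module.finBasisOfFinrankEq F U hd)
      have := simple_gl (n := 4) hF (by norm_num)
      exact ⟨e.isSimpleGroup, Or.inr (by rw [Nat.card_congr e.toEquiv, card_gl_four hF])⟩
  have hfU : Finite (U ≃ₗ[F] U) := Nat.finite_of_card_ne_zero (by rcases hcU with h | h <;> rw [h] <;> norm_num)
  have hnp : ¬ (Nat.card (U ≃ₗ[F] U)).Prime := by
    rcases hcU with h | h <;> rw [h] <;> norm_num
  have hsM : IsSimpleGroup Φ.range := eM.symm.isSimpleGroup
  have hcM : Nat.card Φ.range = Nat.card (U ≃ₗ[F] U) := (Nat.card_congr eM.toEquiv).symm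
  have hN : NoS3 Φ.range := by
    refine Cfsg.Agent.H473.SN.noS3_card ?_ ?_ ?_ <;> rw [hcM] <;> rcases hcU with h | h <;> rw [h] <;> norm_num
  have hinv : ∀ m ∈ Φ.range, Cfsg.Agent.ClassicalGeometry.AutPSL.Auto.lift (cj A) m ∈ Φ.range := by
    rintro _ ⟨u, rfl⟩
    rw [hΦ]
    exact ⟨_, rfl⟩
  have hrad : solvableRadical Φ.range = ⊥ :=
    rad_eq_bot_of_simple (not_solvable_of_card (by rwa [hcM]))
  have hcen : res h3 hU = 1 := by
    refine eq_one_of_central hnp fun u => ?_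
    apply hΦi
    rw [← hΦ]
    exact hR.eq_of_rad_eq_bot hN hinv hrad ⟨u, rfl⟩
  apply hu₀'
  have h1 := res_apply h3 hU ⟨u₀, hu₀⟩
  rw [hcen] at h1
  exact h1.symm

/-- **row C1b**: `PSL_n(2)`, `n ≥ 3` -/
theorem c1b {K : Type} [Group K] [Finite K] [IsSimpleGroup K] {F : Type} [Field F] [Fintype F]
    (hF : Fintype.card F = 2) {n : ℕ} (hn : 3 ≤ n)
    (e : Nonempty (K ≃* Matrix.ProjectiveSpecialLinearGroup (Fin n) F)) : G3 K := by
  obtain ⟨e⟩ := e
  exact (main hF hn).congr e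

end Cfsg.Agent.H117.SN

private theorem dce_b2f8da4f69d4 : _root_.True := by
  try have : _root_.True := by simp only [_root_.Cfsg.Agent.H117.SN.emb.congr_simp]
  exact _root_.True.intro
end

-- part: H161/SN/RankOne
section
set_option linter.all false
open scoped Cfsg.Agent.FastGrp

/-!
# S3831, rank one: `PSL₂(q)`, `Sz(q)`, `²G₂(q)` (helper161)

* `sylow3_comm` : the Sylow `3`-subgroups of `PSL₂(F)` are abelian;
* `noS3_psl2`, `noS3_sl2` : `PSL₂(F)`, `SL₂(F)` have no sections `L₃(3)`, `U₃(3)`, `PSp₄(3)`;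
* `g3_psl2`, `g3_suz`, `g3_ree` (`Cfsg.IsSuzuki`, `Cfsg.IsRee` : orders), `g3_isoSuzuki`, `g3_isoRee`.
-/

set_option autoImplicit false

namespace Cfsg.Agent.H161.SN

open Cfsg Subgroup Matrix Cfsg.Agent.H21.SN

section Psl

variable {F : Type*} [Field F] [Fintype F]

instance instFinitePsl : Finite (ProjectiveSpecialLinearGroup (Fin 2) F) := Quotient.finite _

/-- an abelian Sylow `3`-subgroup of `PSL₂(F)` -/
theorem exists_sylow3 : ∃ P : Sylow 3 (ProjectiveSpecialLinearGroup (Fin 2) F),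
    IsMulCommutative (P : Subgroup (ProjectiveSpecialLinearGroup (Fin 2) F)) := by
  obtain ⟨p, hchar⟩ := CharP.exists F
  have hp : Fact p.Prime := ⟨CharP.char_is_prime F p⟩
  by_cases h3 : p = 3
  · subst h3
    obtain ⟨T, hT⟩ := Cfsg.Agent.ClassicalGeometry.AutPSL.SylowU.exists_sylow (F := F) 2 3
    have hu : ∀ a ∈ Cfsg.Agent.ClassicalGeometry.AutPSL.SylowU.upper 2 F, ∀ b ∈
        Cfsg.Agent.ClassicalGeometry.AutPSL.SylowU.upper 2 F, a * b = b * a := by
      intro a ha b hb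
      have ha00 : (a : Matrix (Fin 2) (Fin 2) F) 0 0 = 1 := ha 0 0 le_rfl
      have ha11 : (a : Matrix (Fin 2) (Fin 2) F) 1 1 = 1 := ha 1 1 le_rfl
      have ha10 : (a : Matrix (Fin 2) (Fin 2) F) 1 0 = 0 := ha 1 0 (by decide)
      have hb00 : (b : Matrix (Fin 2) (Fin 2) F) 0 0 = 1 := hb 0 0 le_rfl
      have hb11 : (b : Matrix (Fin 2) (Fin 2) F) 1 1 = 1 := hb 1 1 le_rfl
      have hb10 : (b : Matrix (Fin 2) (Fin 2) F) 1 0 = 0 := hb 1 0 (by decide)
      have key : (a : Matrix (Fin 2) (Fin 2) F) * (b : Matrix (Fin 2) (Fin 2) F) =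
          (b : Matrix (Fin 2) (Fin 2) F) * (a : Matrix (Fin 2) (Fin 2) F) := by
        ext i j
        fin_cases i <;> fin_cases j <;>
          simp [Matrix.mul_apply, Fin.sum_univ_two, ha00, ha11, ha10, hb00, hb11, hb10, add_comm]
      exact Subtype.ext key
    have hmem : ∀ z ∈ (T : Subgroup (ProjectiveSpecialLinearGroup (Fin 2) F)),
        ∃ a ∈ Cfsg.Agent.ClassicalGeometry.AutPSL.SylowU.upper 2 F,
          Cfsg.Agent.ClassicalGeometry.AutPSL.Root.pr a = z := by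
      intro z hz
      rw [hT] at hz
      exact hz
    refine ⟨T, ⟨⟨fun x y => Subtype.ext ?_⟩⟩⟩
    obtain ⟨a, ha, hax⟩ := hmem x x.2
    obtain ⟨b, hb, hby⟩ := hmem y y.2
    change (x : ProjectiveSpecialLinearGroup (Fin 2) F) * y = y * x
    rw [← hax, ← hby, ← map_mul, ← map_mul, hu a ha b hb]
  · obtain ⟨Q⟩ : Nonempty (Sylow 3 (SpecialLinearGroup (Fin 2) F)) := inferInstance
    have hQ : IsCyclic (Q : Subgroup (SpecialLinearGroup (Fin 2) F)) :=
      Cfsg.Agent.S0262.result p 3 (by norm_num) (fun h => h3 h.symm) Q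
    have hf : Function.Surjective (QuotientGroup.mk' (center (SpecialLinearGroup (Fin 2) F))) :=
      QuotientGroup.mk'_surjective _
    refine ⟨Q.mapSurjective hf, ?_⟩
    have h7 : ((Q.mapSurjective hf : Sylow 3 _) : Subgroup (ProjectiveSpecialLinearGroup (Fin 2) F)) =
        (Q : Subgroup (SpecialLinearGroup (Fin 2) F)).map (QuotientGroup.mk' (center (SpecialLinearGroup (Fin 2) F))) :=
      Sylow.coe_mapSurjective _ _
    rw [h7]
    have h8 : IsCyclic ↥((Q : Subgroup (SpecialLinearGroup (Fin 2) F)).map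
        (QuotientGroup.mk' (center (SpecialLinearGroup (Fin 2) F)))) :=
      isCyclic_of_surjective ((QuotientGroup.mk' (center (SpecialLinearGroup (Fin 2) F))).subgroupMap
        (Q : Subgroup (SpecialLinearGroup (Fin 2) F)))
        ((QuotientGroup.mk' (center (SpecialLinearGroup (Fin 2) F))).subgroupMap_surjective _)
    exact IsCyclic.isMulCommutative

/-- `PSL₂(F)` has no sections `L₃(3)`, `U₃(3)`, `PSp₄(3)` -/
theorem noS3_psl2 : NoS3 (ProjectiveSpecialLinearGroup (Fin 2) F) := Cfsg.Agent.H95.SN.noS3_of_sylow3 exists_sylow3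

/-- `SL₂(F)` has no sections `L₃(3)`, `U₃(3)`, `PSp₄(3)` -/
theorem noS3_sl2 : NoS3 (SpecialLinearGroup (Fin 2) F) := by
  refine NoS3.of_ker (QuotientGroup.mk' (center (SpecialLinearGroup (Fin 2) F))) ?_
    (noS3_psl2 (F := F))
  rw [QuotientGroup.ker_mk']
  exact Group.isSolvable_of_comm fun a b => Subtype.ext (mem_center_iff.1 b.2 a)

end Psl

section NotComm

/-- `PSL₂(F)` is not commutative -/
theorem psl2_not_comm {F : Type*} [Field F] (h : IsMulCommutative (ProjectiveSpecialLinearGroup (Fin 2) F)) :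
    False := by
  let A : SpecialLinearGroup (Fin 2) F := ⟨!![1, 1; 0, 1], by simp⟩
  let B : SpecialLinearGroup (Fin 2) F := ⟨!![1, 0; 1, 1], by simp⟩
  have h1 : (QuotientGroup.mk (A * B) : ProjectiveSpecialLinearGroup (Fin 2) F) = QuotientGroup.mk (B * A) := by
    rw [QuotientGroup.mk_mul, QuotientGroup.mk_mul]
    exact h.is_comm.comm _ _
  rw [QuotientGroup.eq] at h1
  obtain ⟨r, hr, hr'⟩ := (Matrix.SpecialLinearGroup.mem_center_iff).1 h1
  have h2 : B * A = A * B * ((A * B)⁻¹ * (B * A)) := by group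
  have h3 : ((B * A : SpecialLinearGroup (Fin 2) F) : Matrix (Fin 2) (Fin 2) F) =
      ((A * B : SpecialLinearGroup (Fin 2) F) : Matrix (Fin 2) (Fin 2) F) * scalar (Fin 2) r := by
    rw [hr']
    rw [← Matrix.SpecialLinearGroup.coe_mul, ← h2]
  have hA : (A : Matrix (Fin 2) (Fin 2) F) = !![1, 1; 0, 1] := rfl
  have hB : (B : Matrix (Fin 2) (Fin 2) F) = !![1, 0; 1, 1] := rfl
  rw [Matrix.SpecialLinearGroup.coe_mul, Matrix.SpecialLinearGroup.coe_mul, hA, hB] at h3
  have h01 := congrFun (congrFun h3 0) 1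
  have h00 := congrFun (congrFun h3 0) 0
  simp [Matrix.mul_apply, Fin.sum_univ_two] at h01 h00
  rw [← h01] at h00
  norm_num at h00
  exact one_ne_zero (α := F) (by linear_combination (-1) * h00)

/-- a simple group of composite order is not commutative -/
theorem not_comm_of_not_prime {K : Type*} [Group K] [Finite K] [IsSimpleGroup K] (h : ¬ (Nat.card K).Prime) :
    ¬ IsMulCommutative K := by
  intro hc
  apply h
  let _ : CommGroup K := { (inferInstance : Group K) with mul_comm := hc.is_comm.comm }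
  exact IsSimpleGroup.prime_card

end NotComm

section Rows

variable {K : Type*} [Group K] [Finite K] [IsSimpleGroup K]

/-- **`PSL₂(q)`** -/
theorem g3_psl2 {F : Type*} [Field F] [Fintype F]
    (e : Nonempty (K ≃* Matrix.ProjectiveSpecialLinearGroup (Fin 2) F)) : G3 K := by
  obtain ⟨e⟩ := e
  refine g3_of_noS3 (fun hK => ?_) ((noS3_psl2 (F := F)).congr e.symm)
  refine psl2_not_comm (F := F) ⟨⟨fun a b => e.symm.injective ?_⟩⟩
  rw [map_mul, map_mul]
  exact hK.is_comm.comm _ _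

theorem sz_arith (m : ℕ) (hm : 1 ≤ m) {n : ℕ}
    (hn : n = (2 ^ (2 * m + 1)) ^ 2 * ((2 ^ (2 * m + 1)) ^ 2 + 1) * (2 ^ (2 * m + 1) - 1)) :
    ¬ 3 ∣ n ∧ ¬ n.Prime := by
  have h1 : 2 ^ (2 * m + 1) % 3 = 2 := by
    rw [pow_succ, pow_mul, Nat.mul_mod, Nat.pow_mod]
    norm_num
  have h8 : 8 ≤ 2 ^ (2 * m + 1) := by
    have : 2 ^ 3 ≤ 2 ^ (2 * m + 1) := Nat.pow_le_pow_right (by norm_num) (by omega)
    omega
  generalize 2 ^ (2 * m + 1) = q at h1 h8 hn
  constructor
  · intro h3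
    rw [hn] at h3
    have hp : Nat.Prime 3 := Nat.prime_three
    rcases (Nat.Prime.dvd_mul hp).mp h3 with h4 | h4
    · rcases (Nat.Prime.dvd_mul hp).mp h4 with h5 | h5
      · have := hp.dvd_of_dvd_pow h5
        omega
      · have h6 : (q ^ 2 + 1) % 3 = 2 := by
          rw [Nat.add_mod, Nat.pow_mod, h1]
        omega
    · omega
  · rw [hn]
    refine Nat.not_prime_mul ?_ (by omega)
    have : 0 < q ^ 2 * (q ^ 2 + 1) := by positivity
    nlinarith

theorem ree_arith (m : ℕ) (hm : 1 ≤ m) {n : ℕ}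
    (hn : n = (3 ^ (2 * m + 1)) ^ 3 * ((3 ^ (2 * m + 1)) ^ 3 + 1) * (3 ^ (2 * m + 1) - 1)) :
    ¬ 16 ∣ n ∧ ¬ n.Prime := by
  have h1 : 3 ^ (2 * m + 1) % 8 = 3 := by
    rw [pow_succ, pow_mul, Nat.mul_mod, Nat.pow_mod]
    norm_num
  have h8 : 27 ≤ 3 ^ (2 * m + 1) := by
    have : 3 ^ 3 ≤ 3 ^ (2 * m + 1) := Nat.pow_le_pow_right (by norm_num) (by omega)
    omega
  generalize 3 ^ (2 * m + 1) = q at h1 h8 hn
  constructor
  · intro h3
    rw [hn] at h3
    obtain ⟨k, rfl⟩ : ∃ k, q = 8 * k + 3 := ⟨q / 8, by omega⟩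
    have e1 : (8 * k + 3) ^ 3 * ((8 * k + 3) ^ 3 + 1) * (8 * k + 3 - 1) =
        8 * ((8 * k + 3) ^ 3 * (2 * (64 * k ^ 3 + 72 * k ^ 2 + 27 * k + 3) + 1) * (4 * k + 1)) := by
      have : 8 * k + 3 - 1 = 2 * (4 * k + 1) := by omega
      rw [this]
      ring
    rw [e1, show (16 : ℕ) = 8 * 2 by norm_num, Nat.mul_dvd_mul_iff_left (by norm_num)] at h3
    have hp : Nat.Prime 2 := Nat.prime_two
    rcases (Nat.Prime.dvd_mul hp).mp h3 with h4 | h4
    · rcases (Nat.Prime.dvd_mul hp).mp h4 with h5 | h5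
      · have := hp.dvd_of_dvd_pow h5
        omega
      · omega
    · omega
  · rw [hn]
    refine Nat.not_prime_mul ?_ (by omega)
    have : 27 ≤ q ^ 3 := le_trans h8 (Nat.le_self_pow (by norm_num) q)
    nlinarith

/-- no `3`-elements -/
theorem noS3_of_not_three {H : Type*} [Group H] [Finite H] (h : ¬ 3 ∣ Nat.card H) : NoS3 H :=
  Cfsg.Agent.H95.SN.noS3_of_card (fun h1 => h (dvd_trans (by norm_num) h1)) (fun h1 => h (dvd_trans (by norm_num) h1))
    (fun h1 => h (dvd_trans (by norm_num) h1))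

/-- the order is not divisible by `16` -/
theorem noS3_of_not_sixteen {H : Type*} [Group H] [Finite H] (h : ¬ 16 ∣ Nat.card H) : NoS3 H :=
  Cfsg.Agent.H95.SN.noS3_of_card (fun h1 => h (dvd_trans (by norm_num) h1)) (fun h1 => h (dvd_trans (by norm_num) h1))
    (fun h1 => h (dvd_trans (by norm_num) h1))

/-- **`Sz(q)`** (order) -/
theorem g3_suz (h : Cfsg.IsSuzuki K) : G3 K := by
  obtain ⟨-, m, hm, hc⟩ := h
  obtain ⟨h1, h2⟩ := sz_arith m hm hc
  exact g3_of_noS3 (not_comm_of_not_prime h2) (noS3_of_not_three h1)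

/-- **`²G₂(q)`** (order) -/
theorem g3_ree (h : Cfsg.IsRee K) : G3 K := by
  obtain ⟨-, m, hm, hc⟩ := h
  obtain ⟨h1, h2⟩ := ree_arith m hm hc
  exact g3_of_noS3 (not_comm_of_not_prime h2) (noS3_of_not_sixteen h1)

/-- **`Sz(q)`** -/
theorem g3_isoSuzuki (h : Cfsg.Lie.IsoSuzuki K) : G3 K := by
  obtain ⟨F, _, _, m, hm, hF, ⟨e⟩⟩ := h
  refine g3_suz ⟨inferInstance, m, hm, ?_⟩
  rw [Nat.card_congr e.toEquiv, (Cfsg.Agent.S1163.result hm hF).1]
  ring

/-- **`²G₂(q)`** -/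
theorem g3_isoRee (h : Cfsg.Lie.IsoRee K) : G3 K := by
  obtain ⟨F, _, _, m, hm, hF, ⟨e⟩⟩ := h
  refine g3_ree ⟨inferInstance, m, hm, ?_⟩
  rw [Nat.card_congr e.toEquiv, Cfsg.Agent.LieRecognition.ReeFinal.card hF]
  ring

end Rows

end Cfsg.Agent.H161.SN
end

-- part: H29/SN/PslMain
section
prune_inst 0x30103504340010000000000060201c6286000020000884008401004004814c000080082083000103400000050030006811440080424000000e000000011c04810000040000000008820010000000400000000000000000000000000000000000200000000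
set_option linter.all false
open scoped Cfsg.Agent.FastGrp

-- part: H626/SN/LThree
section
/-!
# `PSL₃(F)`, characteristic three: two conjugates of elements of order `3` and `6` (helper626, S3831, task E1a)

* `not_ps_reg`: a regular unipotent element does not have `PS 2` (any field of characteristic three);
* `not_ps_six`: an element conjugate to `diag(1, - J₂)` does not have `PS 2` (any field of characteristic three).
-/

set_option autoImplicit false
set_option linter.unusedSectionVars false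

namespace Cfsg.Agent.H626.SN.LThree

open Cfsg Subgroup Matrix Cfsg.Agent.H459.Rad Cfsg.Agent.H21.SN
open Cfsg.Agent.ClassicalGeometry.AutPSL.Root Cfsg.Agent.ClassicalGeometry.AutPSL.Auto

universe u

/-! ### A criterion for non-solvability -/

/-- A subgroup generated by a set all of whose elements die in all abelian quotients is not solvable. -/
theorem not_solvable {G : Type u} [Group G] {X : Set G} (h1 : ∃ x ∈ X, x ≠ 1)
    (h : ∀ (Q : Type u) [CommGroup Q] (f : ↥(closure X) →* Q), ∀ x (hx : x ∈ X), f ⟨x, _root_.Subgroup.subset_closure hx⟩ = 1) :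
    ¬ Group.IsSolvable ↥(closure X) := by
  intro hs
  obtain ⟨x, hx, hx1⟩ := h1
  have hn : Nontrivial ↥(closure X) := ⟨⟨x, _root_.Subgroup.subset_closure hx⟩, 1, fun e => hx1 (congrArg Subtype.val e)⟩
  have h2 := Group.IsSolvable.commutator_lt_top_of_nontrivial ↥(closure X)
  apply h2.ne
  rw [eq_top_iff, ← Subgroup.closure_closure_coe_preimage, closure_le]
  intro y hy
  have h3 := h (Abelianization ↥(closure X)) Abelianization.of y.1 hy
  exact (QuotientGroup.eq_one_iff _).1 h3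

theorem crit3 {G : Type u} [Group G] {a b : G} (ha : a ^ 3 = 1) (hb : b ^ 3 = 1) (h1 : (a * b) ^ 8 = 1)
    (h2 : (a * b⁻¹) ^ 4 = 1) (hne : a ≠ 1) : ¬ Group.IsSolvable ↥(_root_.Subgroup.closure {a, b}) := by
  refine not_solvable ⟨a, Set.mem_insert _ _, hne⟩ fun Q _ f => ?_
  have haX : a ∈ ({a, b} : Set G) := Set.mem_insert _ _
  have hbX : b ∈ ({a, b} : Set G) := Set.mem_insert_of_mem _ rfl
  set α := f ⟨a, _root_.Subgroup.subset_closure haX⟩ with hα
  set β := f ⟨b, _root_.Subgroup.subset_closure hbX⟩ with hβ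
  have e1 : α ^ 3 = 1 := by rw [hα, ← map_pow]; convert map_one f; exact Subtype.ext ha
  have e2 : β ^ 3 = 1 := by rw [hβ, ← map_pow]; convert map_one f; exact Subtype.ext hb
  have e3 : (α * β) ^ 8 = 1 := by
    rw [hα, hβ, ← map_mul, ← map_pow]; convert map_one f; exact Subtype.ext h1
  have e4 : (α * β⁻¹) ^ 4 = 1 := by
    rw [hα, hβ, ← map_inv, ← map_mul, ← map_pow]; convert map_one f; exact Subtype.ext h2
  have e5 : (α * β) ^ 3 = 1 := by rw [mul_pow, e1, e2, one_mul]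
  have e6 : (α * β⁻¹) ^ 3 = 1 := by rw [mul_pow, inv_pow, e1, e2, inv_one, one_mul]
  have e7 : α * β = 1 := by
    have : α * β = ((α * β) ^ 3) ^ 3 * ((α * β) ^ 8)⁻¹ := by group
    rw [this, e5, e3, one_pow, inv_one, one_mul]
  have e8 : α * β⁻¹ = 1 := by
    have : α * β⁻¹ = (α * β⁻¹) ^ 4 * ((α * β⁻¹) ^ 3)⁻¹ := by group
    rw [this, e6, e4, inv_one, one_mul]
  have e9 : α = β := mul_inv_eq_one.1 e8
  have e10 : α = 1 := by
    rw [← e9] at e7
    have : α = α ^ 3 * (α * α)⁻¹ := by group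
    rw [this, e1, e7, inv_one, one_mul]
  rintro x hx
  rcases hx with rfl | rfl
  · exact e10
  · exact e9.symm.trans e10

theorem crit6 {G : Type u} [Group G] {a b : G} (ha : a ^ 6 = 1) (hb : b ^ 6 = 1) (h1 : (a * b) ^ 13 = 1)
    (h2 : (a ^ 2 * b) ^ 13 = 1) (hne : a ≠ 1) : ¬ Group.IsSolvable ↥(_root_.Subgroup.closure {a, b}) := by
  refine not_solvable ⟨a, Set.mem_insert _ _, hne⟩ fun Q _ f => ?_
  have haX : a ∈ ({a, b} : Set G) := Set.mem_insert _ _
  have hbX : b ∈ ({a, b} : Set G) := Set.mem_insert_of_mem _ rfl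
  set α := f ⟨a, _root_.Subgroup.subset_closure haX⟩ with hα
  set β := f ⟨b, _root_.Subgroup.subset_closure hbX⟩ with hβ
  have e1 : α ^ 6 = 1 := by rw [hα, ← map_pow]; convert map_one f; exact Subtype.ext ha
  have e2 : β ^ 6 = 1 := by rw [hβ, ← map_pow]; convert map_one f; exact Subtype.ext hb
  have e3 : (α * β) ^ 13 = 1 := by
    rw [hα, hβ, ← map_mul, ← map_pow]; convert map_one f; exact Subtype.ext h1
  have e4 : (α ^ 2 * β) ^ 13 = 1 := by
    rw [hα, hβ, ← map_pow, ← map_mul, ← map_pow]; convert map_one f; exact Subtype.ext h2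
  have e5 : (α * β) ^ 6 = 1 := by rw [mul_pow, e1, e2, one_mul]
  have e6 : (α ^ 2 * β) ^ 6 = 1 := by rw [mul_pow, ← pow_mul, mul_comm 2 6, pow_mul, e1, e2, one_pow, one_mul]
  have e7 : α * β = 1 := by
    have : α * β = (α * β) ^ 13 * (((α * β) ^ 6) ^ 2)⁻¹ := by group
    rw [this, e5, e3, one_pow, inv_one, one_mul]
  have e8 : α ^ 2 * β = 1 := by
    have : α ^ 2 * β = (α ^ 2 * β) ^ 13 * (((α ^ 2 * β) ^ 6) ^ 2)⁻¹ := by group
    rw [this, e6, e4, one_pow, inv_one, one_mul]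
  have e10 : α = 1 := by
    have : α = α ^ 2 * β * (α * β)⁻¹ := by group
    rw [this, e8, e7, inv_one, one_mul]
  rintro x hx
  rcases hx with rfl | rfl
  · exact e10
  · rwa [e10, one_mul] at e7

variable {F : Type*} [Field F]

theorem conj_pr {n : ℕ} (g : _root_.Matrix.SpecialLinearGroup (Fin n) F) :
    MulAut.conj (pr g) = lift (cj (g : GL (Fin n) F)) := by
  apply MulEquiv.ext
  intro x
  obtain ⟨x, rfl⟩ := pr_surjective x
  rw [MulAut.conj_apply, lift_pr, ← map_inv, ← map_mul, ← map_mul]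
  congr 1

/-- two conjugates of `lift (cj A)` generate a solvable group -/
theorem ps_conj {n : ℕ} {A : GL (Fin n) F} (h : PS 2 (lift (cj A))) (g : _root_.Matrix.SpecialLinearGroup (Fin n) F) (P : GL (Fin n) F)
    (B : GL (Fin n) F) (hA : A = P * B * P⁻¹) :
    Group.IsSolvable ↥(_root_.Subgroup.closure ({lift (cj (P * B * P⁻¹)),
      lift (cj (P * ((g : GL (Fin n) F) * B * (g : GL (Fin n) F)⁻¹) * P⁻¹))} :
        Set (MulAut (ProjectiveSpecialLinearGroup (Fin n) F)))) := by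
  obtain ⟨g', hg'⟩ : ∃ g' : _root_.Matrix.SpecialLinearGroup (Fin n) F, (g' : GL (Fin n) F) = P * (g : GL (Fin n) F) * P⁻¹ := by
    refine ⟨cj P g, ?_⟩
    apply Units.ext
    rw [Units.val_mul, Units.val_mul]
    rfl
  have h1 := h ![1, pr g']
  have h2 : (Set.range fun i : Fin 2 => MulAut.conj ((![1, pr g'] : Fin 2 → _) i) * lift (cj A) *
      (MulAut.conj ((![1, pr g'] : Fin 2 → _) i))⁻¹) = {lift (cj (P * B * P⁻¹)),
      lift (cj (P * ((g : GL (Fin n) F) * B * (g : GL (Fin n) F)⁻¹) * P⁻¹))} := by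
    ext y
    simp only [Set.mem_range, Set.mem_insert_iff, Set.mem_singleton_iff, Fin.exists_fin_two]
    have e0 : MulAut.conj ((![1, pr g'] : Fin 2 → ProjectiveSpecialLinearGroup (Fin n) F) 0) * lift (cj A) *
        (MulAut.conj ((![1, pr g'] : Fin 2 → ProjectiveSpecialLinearGroup (Fin n) F) 0))⁻¹ =
          lift (cj (P * B * P⁻¹)) := by
      rw [cons_val_zero, map_one, one_mul, inv_one, mul_one, hA]
    have e1 : MulAut.conj ((![1, pr g'] : Fin 2 → ProjectiveSpecialLinearGroup (Fin n) F) 1) * lift (cj A) *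
        (MulAut.conj ((![1, pr g'] : Fin 2 → ProjectiveSpecialLinearGroup (Fin n) F) 1))⁻¹ =
          lift (cj (P * ((g : GL (Fin n) F) * B * (g : GL (Fin n) F)⁻¹) * P⁻¹)) := by
      rw [cons_val_one, cons_val_zero, conj_pr, ← map_inv, ← map_inv, ← map_mul, ← map_mul, ← map_mul, ← map_mul, hg', hA]
      congr 2
      group
    rw [e0, e1]
    constructor
    · rintro (h | h)
      · exact Or.inl h.symm
      · exact Or.inr h.symm
    · rintro (h | h)
      · exact Or.inl h.symm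
      · exact Or.inr h.symm
  rw [h2] at h1
  exact h1

/-! ### The explicit matrices -/

def J : _root_.Matrix.SpecialLinearGroup (Fin 3) (ZMod 3) := ⟨!![1, 1, 0; 0, 1, 1; 0, 0, 1], by decide +kernel⟩
def gJ : _root_.Matrix.SpecialLinearGroup (Fin 3) (ZMod 3) := ⟨!![0, 0, 1; 1, 0, 0; 0, 1, 0], by decide +kernel⟩
def S : _root_.Matrix.SpecialLinearGroup (Fin 3) (ZMod 3) := ⟨!![1, 0, 0; 0, 2, 2; 0, 0, 2], by decide +kernel⟩
def gS : _root_.Matrix.SpecialLinearGroup (Fin 3) (ZMod 3) := ⟨!![0, 1, 0; 0, 0, 1; 1, 1, 1], by decide +kernel⟩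

theorem J3 : J ^ 3 = 1 := by decide +kernel
theorem J8 : (J * (gJ * J * gJ⁻¹)) ^ 8 = 1 := by decide +kernel
theorem J4 : (J * (gJ * J * gJ⁻¹)⁻¹) ^ 4 = 1 := by decide +kernel
theorem S6 : S ^ 6 = 1 := by decide +kernel
theorem S13 : (S * (gS * S * gS⁻¹)) ^ 13 = 1 := by decide +kernel
theorem S13' : (S ^ 2 * (gS * S * gS⁻¹)) ^ 13 = 1 := by decide +kernel

variable [CharP F 3]

/-- `s ↦ lift (cj (P s P⁻¹))` -/
noncomputable def Th (P : GL (Fin 3) F) :
    _root_.Matrix.SpecialLinearGroup (Fin 3) (ZMod 3) →* MulAut (ProjectiveSpecialLinearGroup (Fin 3) F) :=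
  (lift.comp cj).comp ((MulAut.conj P).toMonoidHom.comp (Matrix.SpecialLinearGroup.toGL.comp
    (SpecialLinearGroup.map (ZMod.castHom (dvd_refl 3) F))))

/-- the matrix over `F` -/
noncomputable def im (s : _root_.Matrix.SpecialLinearGroup (Fin 3) (ZMod 3)) : GL (Fin 3) F :=
  ((SpecialLinearGroup.map (ZMod.castHom (dvd_refl 3) F) s : _root_.Matrix.SpecialLinearGroup (Fin 3) F) : GL (Fin 3) F)

theorem Th_apply (P : GL (Fin 3) F) (s : _root_.Matrix.SpecialLinearGroup (Fin 3) (ZMod 3)) :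
    Th P s = lift (cj (P * im s * P⁻¹)) := rfl

theorem im_mul (s t : _root_.Matrix.SpecialLinearGroup (Fin 3) (ZMod 3)) : (im (s * t) : GL (Fin 3) F) = im s * im t := by
  unfold im
  rw [map_mul, map_mul]

theorem im_inv (s : _root_.Matrix.SpecialLinearGroup (Fin 3) (ZMod 3)) : (im s⁻¹ : GL (Fin 3) F) = (im s)⁻¹ := by
  unfold im
  rw [map_inv, map_inv]

theorem im_apply (s : _root_.Matrix.SpecialLinearGroup (Fin 3) (ZMod 3)) (i j : Fin 3) :
    ((im s : GL (Fin 3) F) : Matrix (Fin 3) (Fin 3) F) i j = ZMod.castHom (dvd_refl 3) F (s.1 i j) := rfl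

theorem Th_ne_one (P : GL (Fin 3) F) {s : _root_.Matrix.SpecialLinearGroup (Fin 3) (ZMod 3)} {i j : Fin 3} (hij : i ≠ j)
    (h : s.1 i j ≠ 0) : Th P s ≠ 1 := by
  intro h1
  have h2 : lift (cj (im s : GL (Fin 3) F)) = 1 := by
    have h3 : lift (cj (im s : GL (Fin 3) F)) = (lift (cj P))⁻¹ * Th P s * lift (cj P) := by
      rw [Th_apply]
      simp only [map_mul, map_inv]
      group
    rw [h3, h1]
    group
  obtain ⟨⟨r, hr⟩, -⟩ := Cfsg.Agent.ClassicalGeometry.AutPSL.Main.injective_aux (C := (im s : GL (Fin 3) F)) (σ := 1)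
    (τ := 1) (by rw [map_one, mul_one, h2, map_one])
  have h3 := congrFun (congrFun hr i) j
  rw [im_apply, scalar_apply, diagonal_apply_ne _ hij] at h3
  exact h ((map_eq_zero_iff _ (ZMod.castHom (dvd_refl 3) F).injective).1 h3.symm)

theorem not_ps_aux {s g : _root_.Matrix.SpecialLinearGroup (Fin 3) (ZMod 3)} (P : GL (Fin 3) F)
    (h : ¬ Group.IsSolvable ↥(_root_.Subgroup.closure {Th P s, Th P (g * s * g⁻¹)})) : ¬ PS 2 (lift (cj (P * im s * P⁻¹))) := by
  intro hP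
  apply h
  have h1 := ps_conj hP (SpecialLinearGroup.map (ZMod.castHom (dvd_refl 3) F) g) P (im s) rfl
  have h2 : P * (((SpecialLinearGroup.map (ZMod.castHom (dvd_refl 3) F) g : _root_.Matrix.SpecialLinearGroup (Fin 3) F) :
      GL (Fin 3) F) * im s * (((SpecialLinearGroup.map (ZMod.castHom (dvd_refl 3) F) g :
        _root_.Matrix.SpecialLinearGroup (Fin 3) F) : GL (Fin 3) F))⁻¹) * P⁻¹ = P * im (g * s * g⁻¹) * P⁻¹ := by
    rw [im_mul, im_mul, im_inv]
    rfl
  rw [h2] at h1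
  exact h1

theorem not_ps_J (P : GL (Fin 3) F) : ¬ PS 2 (lift (cj (P * im J * P⁻¹))) := by
  apply not_ps_aux (g := gJ)
  apply crit3
  · rw [← map_pow, J3, map_one]
  · rw [← map_pow, conj_pow, J3, mul_one, mul_inv_cancel, map_one]
  · rw [← map_mul, ← map_pow, J8, map_one]
  · rw [← map_inv, ← map_mul, ← map_pow, J4, map_one]
  · exact Th_ne_one P (i := 0) (j := 1) (by decide) (by decide)

theorem not_ps_S (P : GL (Fin 3) F) : ¬ PS 2 (lift (cj (P * im S * P⁻¹))) := by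
  apply not_ps_aux (g := gS)
  apply crit6
  · rw [← map_pow, S6, map_one]
  · rw [← map_pow, conj_pow, S6, mul_one, mul_inv_cancel, map_one]
  · rw [← map_mul, ← map_pow, S13, map_one]
  · rw [← map_pow, ← map_mul, ← map_pow, S13', map_one]
  · exact Th_ne_one P (i := 1) (j := 2) (by decide) (by decide)

end Cfsg.Agent.H626.SN.LThree
end

-- part: H626/SN/LThreeLin
section
/-!
# Linear algebra for `PSL₃(F)`, characteristic three (helper626, S3831, task E1a)

* `reg`: `(A - 1)³ = 0`, `(A - 1)² ≠ 0`: `A` is conjugate to `J`;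
* `six`: `(A² - 1)² = 0`, `A² ≠ 1`, `A³ ≠ ± 1`: `A` or `- A` is conjugate to `S`;
* `skew`: `B = C C⁻ᵀ`, `(B - 1)² = 0` implies `B = 1`.
-/

set_option autoImplicit false
set_option linter.unusedSectionVars false

namespace Cfsg.Agent.H626.SN.LThree

open Cfsg Subgroup Matrix Cfsg.Agent.H459.Rad Cfsg.Agent.H21.SN
open Cfsg.Agent.ClassicalGeometry.AutPSL.Root Cfsg.Agent.ClassicalGeometry.AutPSL.Auto

variable {F : Type*} [Field F]

/-- the matrix with given columns -/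
def cols (a b c : Fin 3 → F) : Matrix (Fin 3) (Fin 3) F := Matrix.of fun i j => ![a i, b i, c i] j

theorem cols_mulVec (a b c w : Fin 3 → F) : cols a b c *ᵥ w = w 0 • a + w 1 • b + w 2 • c := by
  funext i
  rw [mulVec, dotProduct, Fin.sum_univ_three]
  simp only [cols, of_apply, cons_val_zero, cons_val_one, Pi.add_apply, Pi.smul_apply, smul_eq_mul]
  have : (![a i, b i, c i] : Fin 3 → F) 2 = c i := rfl
  rw [this]
  ring

theorem cols_eq (A T : Matrix (Fin 3) (Fin 3) F) (a b c : Fin 3 → F)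
    (h0 : A *ᵥ a = T 0 0 • a + T 1 0 • b + T 2 0 • c) (h1 : A *ᵥ b = T 0 1 • a + T 1 1 • b + T 2 1 • c)
    (h2 : A *ᵥ c = T 0 2 • a + T 1 2 • b + T 2 2 • c) : A * cols a b c = cols a b c * T := by
  have e : ∀ (i j : Fin 3), (cols a b c * T) i j = T 0 j * a i + T 1 j * b i + T 2 j * c i := by
    intro i j
    rw [Matrix.mul_apply, Fin.sum_univ_three]
    show a i * T 0 j + b i * T 1 j + c i * T 2 j = _
    ring
  ext i j
  rw [e]
  fin_cases j
  · exact congrFun h0 i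
  · exact congrFun h1 i
  · exact congrFun h2 i

/-- a matrix is determined by the images of three vectors -/
theorem exists_conj {A : GL (Fin 3) F} (T : GL (Fin 3) F) (a b c : Fin 3 → F)
    (hind : ∀ w : Fin 3 → F, w 0 • a + w 1 • b + w 2 • c = 0 → w = 0)
    (h0 : (A : Matrix (Fin 3) (Fin 3) F) *ᵥ a = (T : Matrix (Fin 3) (Fin 3) F) 0 0 • a +
      (T : Matrix (Fin 3) (Fin 3) F) 1 0 • b + (T : Matrix (Fin 3) (Fin 3) F) 2 0 • c)
    (h1 : (A : Matrix (Fin 3) (Fin 3) F) *ᵥ b = (T : Matrix (Fin 3) (Fin 3) F) 0 1 • a +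
      (T : Matrix (Fin 3) (Fin 3) F) 1 1 • b + (T : Matrix (Fin 3) (Fin 3) F) 2 1 • c)
    (h2 : (A : Matrix (Fin 3) (Fin 3) F) *ᵥ c = (T : Matrix (Fin 3) (Fin 3) F) 0 2 • a +
      (T : Matrix (Fin 3) (Fin 3) F) 1 2 • b + (T : Matrix (Fin 3) (Fin 3) F) 2 2 • c) :
    ∃ P : GL (Fin 3) F, A = P * T * P⁻¹ := by
  have h := cols_eq _ _ a b c h0 h1 h2
  have hdet : (cols a b c).det ≠ 0 := by
    intro h0
    obtain ⟨w, hw, hw'⟩ := Matrix.exists_mulVec_eq_zero_iff.2 h0
    rw [cols_mulVec] at hw'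
    exact hw (hind w hw')
  refine ⟨Matrix.GeneralLinearGroup.mkOfDetNeZero _ hdet, ?_⟩
  rw [eq_mul_inv_iff_mul_eq]
  apply Units.ext
  exact h

theorem coe_imJ [CharP F 3] : ((im J : GL (Fin 3) F) : Matrix (Fin 3) (Fin 3) F) = !![1, 1, 0; 0, 1, 1; 0, 0, 1] := by
  have h0 : ZMod.castHom (dvd_refl 3) F 0 = 0 := map_zero _
  have h1 : ZMod.castHom (dvd_refl 3) F 1 = 1 := map_one _
  ext i j
  rw [im_apply]
  fin_cases i <;> fin_cases j
  all_goals first | exact h0 | exact h1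

theorem coe_imS [CharP F 3] : ((im S : GL (Fin 3) F) : Matrix (Fin 3) (Fin 3) F) = !![1, 0, 0; 0, -1, -1; 0, 0, -1] := by
  have h0 : ZMod.castHom (dvd_refl 3) F 0 = 0 := map_zero _
  have h1 : ZMod.castHom (dvd_refl 3) F 1 = 1 := map_one _
  have h2 : ZMod.castHom (dvd_refl 3) F 2 = -1 := by
    have : (2 : ZMod 3) = -1 := by decide
    rw [this, map_neg, map_one]
  ext i j
  rw [im_apply]
  fin_cases i <;> fin_cases j
  all_goals first | exact h0 | exact h1 | exact h2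

theorem reg [CharP F 3] {A : GL (Fin 3) F} (h3 : ((A : Matrix (Fin 3) (Fin 3) F) - 1) ^ 3 = 0)
    (h2 : ((A : Matrix (Fin 3) (Fin 3) F) - 1) ^ 2 ≠ 0) : ∃ P : GL (Fin 3) F, A = P * im J * P⁻¹ := by
  set N : Matrix (Fin 3) (Fin 3) F := (A : Matrix (Fin 3) (Fin 3) F) - 1 with hN
  obtain ⟨v, hv⟩ : ∃ v, (N ^ 2) *ᵥ v ≠ 0 := by
    by_contra hc
    push Not at hc
    apply h2
    apply Matrix.ext_of_mulVec_single
    intro i
    rw [hc, zero_mulVec]
  have hA : ∀ u, (A : Matrix (Fin 3) (Fin 3) F) *ᵥ u = u + N *ᵥ u := by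
    intro u
    rw [hN, sub_mulVec, one_mulVec]
    abel
  have hN3 : N *ᵥ ((N ^ 2) *ᵥ v) = 0 := by
    rw [mulVec_mulVec, ← pow_succ', h3, zero_mulVec]
  have hN2 : N *ᵥ (N *ᵥ v) = (N ^ 2) *ᵥ v := by rw [mulVec_mulVec, ← pow_two]
  refine exists_conj (im J) ((N ^ 2) *ᵥ v) (N *ᵥ v) v ?_ ?_ ?_ ?_
  · intro w hw
    have e1 := congrArg (fun u => (N ^ 2) *ᵥ u) hw
    simp only [mulVec_add, mulVec_smul, mulVec_zero] at e1
    have e2 : (N ^ 2) *ᵥ ((N ^ 2) *ᵥ v) = 0 := by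
      rw [pow_two, ← mulVec_mulVec, ← pow_two, hN3, mulVec_zero]
    have e3 : (N ^ 2) *ᵥ (N *ᵥ v) = 0 := by
      rw [mulVec_mulVec, ← pow_succ, h3, zero_mulVec]
    rw [e2, e3, smul_zero, smul_zero, zero_add, zero_add] at e1
    have w2 : w 2 = 0 := (smul_eq_zero.1 e1).resolve_right hv
    rw [w2, zero_smul, add_zero] at hw
    have e4 := congrArg (fun u => N *ᵥ u) hw
    simp only [mulVec_add, mulVec_smul, mulVec_zero] at e4
    rw [hN3, smul_zero, zero_add, hN2] at e4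
    have w1 : w 1 = 0 := (smul_eq_zero.1 e4).resolve_right hv
    rw [w1, zero_smul, add_zero] at hw
    have w0 : w 0 = 0 := (smul_eq_zero.1 hw).resolve_right hv
    funext i
    fin_cases i
    · exact w0
    · exact w1
    · exact w2
  · rw [hA, hN3, coe_imJ]
    simp
  · rw [hA, hN2, coe_imJ]
    simp [add_comm]
  · rw [hA, coe_imJ]
    simp [add_comm]

/-- a square-zero matrix of size three has rank at most one -/
theorem exists_range {M : Matrix (Fin 3) (Fin 3) F} (h : M * M = 0) : ∃ z, ∀ x, ∃ c : F, M *ᵥ x = c • z := by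
  set f := Matrix.mulVecLin M with hf
  have h1 := LinearMap.finrank_range_add_finrank_ker f
  have h2 : LinearMap.range f ≤ LinearMap.ker f := by
    rintro _ ⟨x, rfl⟩
    rw [LinearMap.mem_ker, hf, mulVecLin_apply, mulVecLin_apply, mulVec_mulVec, h, zero_mulVec]
  have h3 := Submodule.finrank_mono h2
  have h4 : Module.finrank F (Fin 3 → F) = 3 := by simp
  have h5 : Module.finrank F (LinearMap.range f) ≤ 1 := by omega
  obtain ⟨z, hz⟩ := finrank_le_one_iff.1 h5
  refine ⟨z, fun x => ?_⟩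
  obtain ⟨c, hc⟩ := hz ⟨f x, x, rfl⟩
  refine ⟨c, ?_⟩
  have h6 := congrArg Subtype.val hc
  exact h6.symm

/-- `B = C C⁻ᵀ`, `(B - 1)² = 0` implies `C = Cᵀ` -/
theorem skew {C N : Matrix (Fin 3) (Fin 3) F} (hN : N * N = 0) (h : C - Cᵀ = N * Cᵀ) : C = Cᵀ := by
  obtain ⟨z, hz⟩ := exists_range hN
  have hcol : ∀ j, ∃ y : F, ∀ i, (N * Cᵀ) i j = y * z i := by
    intro j
    obtain ⟨y, hy⟩ := hz (fun k => Cᵀ k j)
    refine ⟨y, fun i => ?_⟩
    have := congrFun hy i
    rw [Pi.smul_apply, smul_eq_mul] at this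
    rw [← this, Matrix.mul_apply]
    rfl
  choose y hy using hcol
  have hK : ∀ i j, C i j - C j i = y j * z i := by
    intro i j
    rw [← hy, ← h, Matrix.sub_apply, transpose_apply]
  have hd : ∀ i, y i * z i = 0 := fun i => by rw [← hK, sub_self]
  ext i j
  rw [transpose_apply, ← sub_eq_zero]
  have h1 : (C i j - C j i) * (C i j - C j i) = 0 := by
    have h2 : C i j - C j i = - (y i * z j) := by rw [← hK]; ring
    calc (C i j - C j i) * (C i j - C j i) = (y j * z i) * (-(y i * z j)) := by rw [← hK, ← h2]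
      _ = -((y i * z i) * (y j * z j)) := by ring
      _ = 0 := by rw [hd, zero_mul, neg_zero]
  exact mul_self_eq_zero.1 h1

/-- conjugate to `S`, with a normalization of the sign -/
theorem six_aux [CharP F 3] {A : GL (Fin 3) F} {z w₀ : Fin 3 → F}
    (h1 : ((A : Matrix (Fin 3) (Fin 3) F) ^ 2 - 1) * ((A : Matrix (Fin 3) (Fin 3) F) ^ 2 - 1) = 0)
    (hz : ((A : Matrix (Fin 3) (Fin 3) F) ^ 2 - 1) *ᵥ w₀ = z) (hz0 : z ≠ 0)
    (hr : ∀ x, ∃ c : F, ((A : Matrix (Fin 3) (Fin 3) F) ^ 2 - 1) *ᵥ x = c • z)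
    (hAz : (A : Matrix (Fin 3) (Fin 3) F) *ᵥ z = -z) (h3 : (A : Matrix (Fin 3) (Fin 3) F) ^ 3 ≠ -1) :
    ∃ P : GL (Fin 3) F, A = P * im S * P⁻¹ := by
  have h30 : (3 : F) = 0 := by exact_mod_cast CharP.cast_eq_zero F 3
  have h2n : (2 : F) = -1 := by linear_combination h30
  set a : Matrix (Fin 3) (Fin 3) F := (A : Matrix (Fin 3) (Fin 3) F) with ha
  obtain ⟨v, hv⟩ : ∃ v, (a ^ 3 + 1) *ᵥ v ≠ 0 := by
    by_contra hc
    push Not at hc
    apply h3
    rw [eq_neg_iff_add_eq_zero]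
    apply Matrix.ext_of_mulVec_single
    intro i
    rw [hc, zero_mulVec]
  have hcube : a ^ 3 + 1 = (a + 1) ^ 3 := by
    have : (3 : Matrix (Fin 3) (Fin 3) F) = 0 := by
      have h := CharP.cast_eq_zero (Matrix (Fin 3) (Fin 3) F) 3
      exact_mod_cast h
    have e : (a + 1) ^ 3 = a ^ 3 + 1 + 3 * (a ^ 2 + a) := by noncomm_ring
    rw [e, this, zero_mul, add_zero]
  set e₁ := (a ^ 3 + 1) *ᵥ v with he₁
  -- `A e₁ = e₁`
  have hy : (a - 1) *ᵥ e₁ = 0 := by
    obtain ⟨c, hc⟩ := hr ((a + 1) ^ 2 *ᵥ v)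
    have e2 : (a - 1) *ᵥ e₁ = c • z := by
      rw [he₁, hcube, ← hc, mulVec_mulVec, mulVec_mulVec]
      congr 1
      noncomm_ring
    have e3 : (a - 1) *ᵥ (c • z) = 0 := by
      rw [← e2, he₁, hcube, mulVec_mulVec, mulVec_mulVec]
      have : (a - 1) * (a - 1) * (a + 1) ^ 3 = (a ^ 2 - 1) * (a ^ 2 - 1) * (a + 1) := by noncomm_ring
      rw [this, h1, zero_mul, zero_mulVec]
    rw [sub_mulVec, one_mulVec, mulVec_smul, hAz, smul_neg] at e3
    have e4 : (-2 : F) • (c • z) = 0 := by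
      rw [← e3, neg_smul, two_smul]
      abel
    rw [e2]
    refine (smul_eq_zero.1 e4).resolve_left ?_
    rw [h2n, neg_neg]
    exact one_ne_zero
  have hAe₁ : a *ᵥ e₁ = e₁ := by
    rw [sub_mulVec, one_mulVec, sub_eq_zero] at hy
    exact hy
  set e₃ := -((a - 1) *ᵥ w₀) with he₃
  have hAe₃ : a *ᵥ e₃ = - e₃ - z := by
    have e5 : (a + 1) *ᵥ e₃ = -z := by
      rw [he₃, mulVec_neg, mulVec_mulVec, ← hz]
      congr 2
      noncomm_ring
    rw [add_mulVec, one_mulVec] at e5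
    rw [sub_eq_add_neg, ← e5]
    abel
  refine exists_conj (im S) e₁ z e₃ ?_ ?_ ?_ ?_
  · intro w hw
    have e6 := congrArg (fun u => a *ᵥ u) hw
    simp only [mulVec_add, mulVec_smul, mulVec_zero] at e6
    rw [hAe₁, hAz, hAe₃] at e6
    have e7 := congrArg (fun u => a *ᵥ u) e6
    simp only [mulVec_add, mulVec_smul, mulVec_zero, mulVec_neg, mulVec_sub] at e7
    rw [hAe₁, hAz, hAe₃] at e7
    -- `w + A w = 2 w₀ e₁ - w₂ z`, twice
    have e8 : (4 * w 0) • e₁ = 0 := by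
      have : (4 * w 0) • e₁ = (w 0 • e₁ + w 1 • - -z + w 2 • (-(-e₃ - z) - -z)) +
          (2 : F) • (w 0 • e₁ + w 1 • -z + w 2 • (-e₃ - z)) + (w 0 • e₁ + w 1 • z + w 2 • e₃) := by
        module
      rw [this, e7, e6, hw, smul_zero, add_zero, add_zero]
    have w0 : w 0 = 0 := by
      have h4 : (4 * w 0) = 0 := (smul_eq_zero.1 e8).resolve_right hv
      have h5 : (4 : F) = 1 := by linear_combination h30
      rwa [h5, one_mul] at h4
    rw [w0, zero_smul, zero_add] at hw e6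
    have w2 : w 2 = 0 := by
      have : (w 2) • z = -((w 1 • -z + w 2 • (-e₃ - z)) + (w 1 • z + w 2 • e₃)) := by module
      rw [hw, e6, add_zero, neg_zero] at this
      exact (smul_eq_zero.1 this).resolve_right hz0
    rw [w2, zero_smul, add_zero] at hw
    have w1 : w 1 = 0 := (smul_eq_zero.1 hw).resolve_right hz0
    funext i
    fin_cases i
    · exact w0
    · exact w1
    · exact w2
  · rw [← ha, hAe₁, coe_imS]
    simp
  · rw [← ha, hAz, coe_imS]
    simp
  · rw [← ha, hAe₃, coe_imS]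
    simp only [_root_.Fin.isValue, _root_.Matrix.of_apply, _root_.Matrix.cons_val', _root_.Matrix.cons_val, _root_.Matrix.cons_val_fin_one, _root_.Matrix.cons_val_zero, _root_.zero_smul, _root_.Matrix.cons_val_one, _root_.neg_smul, _root_.one_smul, _root_.zero_add]
    abel

end Cfsg.Agent.H626.SN.LThree
end

-- part: H626/SN/LThreeMain
section
/-!
# `PSL₃(3)`: two conjugates of automorphisms of order `3`, `6`, `9` (helper626, S3831, task E1a)

* `order_three`: an automorphism of order three with `PS 2` is the conjugation by a transvection;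
* `r69`: `R69 (PSL₃(3))`.
-/

set_option autoImplicit false
set_option linter.unusedSectionVars false

namespace Cfsg.Agent.H626.SN.LThree

open Cfsg Subgroup Matrix Cfsg.Agent.H459.Rad Cfsg.Agent.H21.SN
open Cfsg.Agent.ClassicalGeometry.AutPSL.Root Cfsg.Agent.ClassicalGeometry.AutPSL.Auto

section six

variable {F : Type*} [Field F] [CharP F 3]

theorem six {A : GL (Fin 3) F}
    (h1 : ((A : Matrix (Fin 3) (Fin 3) F) ^ 2 - 1) * ((A : Matrix (Fin 3) (Fin 3) F) ^ 2 - 1) = 0)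
    (h2 : (A : Matrix (Fin 3) (Fin 3) F) ^ 2 ≠ 1) (h3 : (A : Matrix (Fin 3) (Fin 3) F) ^ 3 ≠ 1)
    (h4 : (A : Matrix (Fin 3) (Fin 3) F) ^ 3 ≠ -1) :
    ∃ P : GL (Fin 3) F, A = P * im S * P⁻¹ ∨ A = -(P * im S * P⁻¹) := by
  set a : Matrix (Fin 3) (Fin 3) F := (A : Matrix (Fin 3) (Fin 3) F) with ha
  obtain ⟨w₀, hw⟩ : ∃ w, (a ^ 2 - 1) *ᵥ w ≠ 0 := by
    by_contra hc
    push Not at hc
    apply h2
    rw [← sub_eq_zero]
    apply Matrix.ext_of_mulVec_single
    intro i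
    rw [hc, zero_mulVec]
  obtain ⟨z₀, hz₀⟩ := exists_range h1
  set z := (a ^ 2 - 1) *ᵥ w₀ with hz
  obtain ⟨c₀, hc₀⟩ := hz₀ w₀
  have hc0 : c₀ ≠ 0 := by
    rintro rfl
    rw [zero_smul] at hc₀
    exact hw hc₀
  have hr : ∀ x, ∃ c : F, (a ^ 2 - 1) *ᵥ x = c • z := by
    intro x
    obtain ⟨c, hc⟩ := hz₀ x
    refine ⟨c * c₀⁻¹, ?_⟩
    rw [hc, hz, hc₀, smul_smul, mul_assoc, inv_mul_cancel₀ hc0, mul_one]
  -- `A z = l z`
  obtain ⟨l, hl⟩ := hr (a *ᵥ w₀)
  have hAz : a *ᵥ z = l • z := by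
    rw [← hl, hz, mulVec_mulVec, mulVec_mulVec]
    congr 1
    noncomm_ring
  have hMz : (a ^ 2 - 1) *ᵥ z = 0 := by rw [hz, mulVec_mulVec, h1, zero_mulVec]
  have hl2 : l * l = 1 := by
    rw [sub_mulVec, one_mulVec, pow_two, ← mulVec_mulVec, hAz, mulVec_smul, hAz, smul_smul] at hMz
    have h5 : (l * l - 1) • z = 0 := by rw [sub_smul, one_smul]; exact hMz
    exact sub_eq_zero.1 ((smul_eq_zero.1 h5).resolve_right hw)
  rcases mul_self_eq_one_iff.1 hl2 with rfl | rfl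
  · -- replace `A` by `- A`
    have hn2 : ((-A : GL (Fin 3) F) : Matrix (Fin 3) (Fin 3) F) ^ 2 = a ^ 2 := by
      rw [Units.val_neg, neg_sq]
    obtain ⟨P, hP⟩ := six_aux (A := -A) (z := z) (w₀ := w₀) (by rw [hn2]; exact h1) (by rw [hn2]) hw
      (by rw [hn2]; exact hr) (by rw [Units.val_neg, neg_mulVec, ← ha, hAz, one_smul]) (by
        rw [Units.val_neg, Odd.neg_pow (by decide), ← ha]
        intro h
        exact h3 (neg_injective h))
    exact ⟨P, Or.inr (by rw [← hP, neg_neg])⟩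
  · obtain ⟨P, hP⟩ := six_aux (A := A) (z := z) (w₀ := w₀) h1 rfl hw hr (by rw [← ha, hAz, neg_smul, one_smul]) h4
    exact ⟨P, Or.inl hP⟩

theorem pow_three_eq_zero {M : Matrix (Fin 3) (Fin 3) F} (h : IsNilpotent M) : M ^ 3 = 0 := by
  have h1 := Matrix.isNilpotent_charpoly_sub_pow_of_isNilpotent h
  have h2 : M.charpoly = Polynomial.X ^ 3 := by
    rw [← sub_eq_zero]
    have := h1.eq_zero
    rwa [Fintype.card_fin] at this
  have h3 := Matrix.aeval_self_charpoly M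
  rw [h2, map_pow, Polynomial.aeval_X] at h3
  exact h3

theorem cj_neg (A : GL (Fin 3) F) : cj (-A) = cj A := by
  have h : cj (-1 : GL (Fin 3) F) = 1 := by
    apply Cfsg.Agent.ClassicalGeometry.AutPSL.Main.cj_eq_one_of_scalar (r := -1)
    ext i j
    by_cases hij : i = j
    · subst hij; simp only [_root_.Matrix.scalar_apply, _root_.Matrix.diagonal_apply_eq, _root_.Units.val_neg, _root_.Units.val_one, _root_.Matrix.neg_apply, _root_.Matrix.one_apply_eq]
    · simp only [hij, _root_.Matrix.scalar_apply, _root_.ne_eq, _root_.not_false_eq_true, _root_.Matrix.diagonal_apply_ne, _root_.Units.val_neg, _root_.Units.val_one, _root_.Matrix.neg_apply, _root_.Matrix.one_apply_ne, _root_.neg_zero]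
  rw [← neg_one_mul, map_mul, h, one_mul]

theorem not_ps_six {A : GL (Fin 3) F}
    (h1 : ((A : Matrix (Fin 3) (Fin 3) F) ^ 2 - 1) * ((A : Matrix (Fin 3) (Fin 3) F) ^ 2 - 1) = 0)
    (h2 : (A : Matrix (Fin 3) (Fin 3) F) ^ 2 ≠ 1) (h3 : (A : Matrix (Fin 3) (Fin 3) F) ^ 3 ≠ 1)
    (h4 : (A : Matrix (Fin 3) (Fin 3) F) ^ 3 ≠ -1) : ¬ PS 2 (lift (cj A)) := by
  obtain ⟨P, rfl | rfl⟩ := six h1 h2 h3 h4
  · exact not_ps_S P
  · rw [cj_neg]
    exact not_ps_S P

/-- **Regular unipotent elements do not have `PS 2`.** -/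
theorem not_ps_reg {A : GL (Fin 3) F} (h3 : ((A : Matrix (Fin 3) (Fin 3) F) - 1) ^ 3 = 0)
    (h2 : ((A : Matrix (Fin 3) (Fin 3) F) - 1) ^ 2 ≠ 0) : ¬ PS 2 (lift (cj A)) := by
  obtain ⟨P, rfl⟩ := reg h3 h2
  exact not_ps_J P

theorem lift_cj_eq_one {A : GL (Fin 3) F} (h : lift (cj A) = 1) :
    ∃ r : F, scalar (Fin 3) r = (A : Matrix (Fin 3) (Fin 3) F) := by
  obtain ⟨h1, -⟩ := Cfsg.Agent.ClassicalGeometry.AutPSL.Main.injective_aux (C := A) (σ := 1)
    (τ := 1) (by rw [map_one, mul_one, h, map_one])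
  exact h1

end six

section graph

variable {F : Type*} [Field F]

/-- inverse transpose on `GL` -/
def itG (A : GL (Fin 3) F) : GL (Fin 3) F :=
  ⟨((A⁻¹ : GL (Fin 3) F) : Matrix (Fin 3) (Fin 3) F)ᵀ, (A : Matrix (Fin 3) (Fin 3) F)ᵀ, by
    rw [← transpose_mul, ← Units.val_mul, mul_inv_cancel, Units.val_one, transpose_one], by
    rw [← transpose_mul, ← Units.val_mul, inv_mul_cancel, Units.val_one, transpose_one]⟩

theorem itr_mul_cj (A : GL (Fin 3) F) : (itr : MulAut (_root_.Matrix.SpecialLinearGroup (Fin 3) F)) * cj A = cj (itG A) * itr := by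
  apply MulEquiv.ext
  intro g
  apply Subtype.ext
  rw [MulAut.mul_apply, MulAut.mul_apply, coe_cj, coe_itr, coe_itr, ← map_inv, coe_cj, transpose_mul, transpose_mul,
    mul_assoc]
  rfl

theorem sq_graph (A : GL (Fin 3) F) :
    (cj A * (itr : MulAut (_root_.Matrix.SpecialLinearGroup (Fin 3) F))) ^ 2 = cj (A * itG A) := by
  rw [pow_two]
  calc cj A * itr * (cj A * itr) = cj A * (itr * cj A) * itr := by group
    _ = cj A * cj (itG A) * (itr * itr) := by rw [itr_mul_cj]; group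
    _ = cj (A * itG A) := by rw [itr_mul_itr, mul_one, map_mul]

theorem graph_ne_one {A : GL (Fin 3) F} : lift (cj A * (itr : MulAut (_root_.Matrix.SpecialLinearGroup (Fin 3) F))) ≠ 1 := by
  intro h
  exact Cfsg.Agent.ClassicalGeometry.AutPSL.Main.not_graph (by simp) (C := A) (σ := 1) (τ := 1)
    (by rw [map_one, mul_one, h, map_one])

theorem odd_graph (A : GL (Fin 3) F) (k : ℕ) : (lift (cj A * (itr : MulAut (_root_.Matrix.SpecialLinearGroup (Fin 3) F)))) ^ (2 * k + 1) ≠ 1 := by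
  intro h
  rw [← map_pow, pow_succ, pow_mul, sq_graph, ← map_pow, ← mul_assoc, ← map_mul] at h
  exact graph_ne_one h

end graph

section three

variable {F : Type} [Field F] [Fintype F]

theorem sq_eq_one (hF : Fintype.card F = 3) {r : F} (hr : r ≠ 0) : r * r = 1 := by
  have h := FiniteField.pow_card_sub_one_eq_one r hr
  rw [hF] at h
  rw [← pow_two]
  exact h

theorem eq_one_or (hF : Fintype.card F = 3) {r : F} (hr : r ≠ 0) : r = 1 ∨ r = -1 :=
  mul_self_eq_one_iff.1 (sq_eq_one hF hr)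

theorem ringEquiv_eq (hF : Fintype.card F = 3) (σ : F ≃+* F) : σ = 1 := by
  apply RingEquiv.ext
  intro r
  rcases eq_or_ne r 0 with rfl | hr
  · exact map_zero σ
  · rcases eq_one_or hF hr with rfl | rfl
    · exact map_one σ
    · show σ (-1) = -1
      rw [map_neg, map_one]

theorem charP_three (hF : Fintype.card F = 3) : CharP F 3 := charP_of_card_eq_prime hF

variable (hF : Fintype.card F = 3)

include hF in
theorem cases_aut (x : MulAut (ProjectiveSpecialLinearGroup (Fin 3) F)) :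
    (∃ A : GL (Fin 3) F, x = lift (cj A)) ∨ ∃ A : GL (Fin 3) F, x = lift (cj A * itr) := by
  have := charP_three hF
  have h3 : Fact (Nat.Prime 3) := ⟨Nat.prime_three⟩
  rcases Cfsg.Agent.ClassicalGeometry.AutPSL.Main.surj_three 3 le_rfl x with ⟨A, σ, h⟩ | ⟨A, σ, h⟩
  · left
    refine ⟨A, ?_⟩
    rw [h, ringEquiv_eq hF σ, map_one, mul_one]
  · right
    refine ⟨A, ?_⟩
    rw [h, ringEquiv_eq hF σ, map_one, mul_one]

include hF in
/-- the scalar is `± 1` -/
theorem pow_eq {A : GL (Fin 3) F} {n : ℕ} (h : (lift (cj A)) ^ n = 1) : A ^ n = 1 ∨ A ^ n = -1 := by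
  have := charP_three hF
  rw [← map_pow, ← map_pow] at h
  obtain ⟨r, hr⟩ := lift_cj_eq_one h
  have hr0 : r ≠ 0 := by
    rintro rfl
    have h1 : ((A ^ n : GL (Fin 3) F) : Matrix (Fin 3) (Fin 3) F).det = 0 := by
      rw [← hr, map_zero, det_zero]
    exact (Matrix.isUnit_iff_isUnit_det _).1 (A ^ n).isUnit |>.ne_zero h1
  rcases eq_one_or hF hr0 with rfl | rfl
  · left
    apply Units.ext
    rw [← hr, map_one]
    rfl
  · right
    apply Units.ext
    rw [← hr, map_neg, map_one]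
    rfl

include hF in
/-- odd powers: normalize the sign -/
theorem exists_pow_eq {A : GL (Fin 3) F} {n : ℕ} (hn : Odd n) (h : (lift (cj A)) ^ n = 1) :
    ∃ B : GL (Fin 3) F, lift (cj B) = lift (cj A) ∧ B ^ n = 1 := by
  rcases pow_eq hF h with h1 | h1
  · exact ⟨A, rfl, h1⟩
  · have := charP_three hF
    exact ⟨-A, by rw [cj_neg], by rw [hn.neg_pow, h1, neg_neg]⟩

include hF in
theorem cube_sub {A : Matrix (Fin 3) (Fin 3) F} : (A - 1) ^ 3 = A ^ 3 - 1 := by
  have := charP_three hF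
  have h3 : Fact (Nat.Prime 3) := ⟨Nat.prime_three⟩
  have := sub_pow_char_of_commute (p := 3) (Commute.one_right A)
  rw [this, one_pow]

include hF in
/-- **the row `R69 (PSL₃(3))`** -/
theorem r69 : R69 (ProjectiveSpecialLinearGroup (Fin 3) F) := by
  have := charP_three hF
  rintro x hx hP - -
  rcases hx with hx | hx
  · -- order six
    have hx6 : x ^ 6 = 1 := by rw [← hx, pow_orderOf_eq_one]
    have hx2 : x ^ 2 ≠ 1 := fun h => by
      have := orderOf_dvd_of_pow_eq_one h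
      rw [hx] at this
      exact absurd this (by decide)
    have hx3 : x ^ 3 ≠ 1 := fun h => by
      have := orderOf_dvd_of_pow_eq_one h
      rw [hx] at this
      exact absurd this (by decide)
    rcases cases_aut hF x with ⟨A, rfl⟩ | ⟨C, rfl⟩
    · have hA6 : A ^ 6 = 1 := by
        rcases pow_eq hF hx6 with h | h
        · exact h
        · exfalso
          have h1 : ((A ^ 6 : GL (Fin 3) F) : Matrix (Fin 3) (Fin 3) F).det = -1 := by
            rw [h, Units.val_neg, Units.val_one, det_neg, det_one, Fintype.card_fin]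
            ring
          rw [Units.val_pow_eq_pow_val, det_pow] at h1
          have h2 : (A : Matrix (Fin 3) (Fin 3) F).det ≠ 0 := by
            exact (Matrix.isUnit_iff_isUnit_det _).1 A.isUnit |>.ne_zero
          have h3 := sq_eq_one hF h2
          rw [← pow_two] at h3
          have h4 : (A : Matrix (Fin 3) (Fin 3) F).det ^ 6 = ((A : Matrix (Fin 3) (Fin 3) F).det ^ 2) ^ 3 := by ring
          rw [h4, h3, one_pow] at h1
          have h30 : (3 : F) = 0 := by exact_mod_cast CharP.cast_eq_zero F 3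
          have h5 : (1 : F) = 0 := by linear_combination h30 - h1
          exact one_ne_zero h5
      set a : Matrix (Fin 3) (Fin 3) F := (A : Matrix (Fin 3) (Fin 3) F) with ha
      have ha6 : a ^ 6 = 1 := by rw [ha, ← Units.val_pow_eq_pow_val, hA6, Units.val_one]
      -- `(A ^ 4 - 1) ^ 2 = 0`
      have h4 : (a ^ 4 - 1) ^ 2 = 0 := by
        by_contra h2
        have h5 := PS.pow hP 4
        rw [← map_pow, ← map_pow] at h5
        refine not_ps_reg (A := A ^ 4) ?_ (by rwa [Units.val_pow_eq_pow_val]) h5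
        rw [Units.val_pow_eq_pow_val, cube_sub hF, ← pow_mul]
        have : a ^ (4 * 3) = (a ^ 6) ^ 2 := by rw [← pow_mul]
        rw [this, ha6, one_pow, sub_self]
      refine not_ps_six (A := A) ?_ ?_ ?_ ?_ hP
      · have h5 : a ^ 2 - 1 = -(a ^ 2 * (a ^ 4 - 1)) := by
          rw [mul_sub, ← pow_add, ha6, mul_one]
          abel
        rw [← ha, h5, neg_mul_neg]
        have h6 : a ^ 2 * (a ^ 4 - 1) * (a ^ 2 * (a ^ 4 - 1)) = a ^ 4 * (a ^ 4 - 1) ^ 2 := by noncomm_ring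
        rw [h6, h4, mul_zero]
      · intro h
        apply hx2
        rw [← map_pow, ← map_pow]
        have : A ^ 2 = 1 := Units.ext (by rw [Units.val_pow_eq_pow_val]; exact h)
        rw [this, map_one, map_one]
      · intro h
        apply hx3
        rw [← map_pow, ← map_pow]
        have : A ^ 3 = 1 := Units.ext (by rw [Units.val_pow_eq_pow_val]; exact h)
        rw [this, map_one, map_one]
      · intro h
        apply hx3
        rw [← map_pow, ← map_pow]
        have : A ^ 3 = -1 := Units.ext (by rw [Units.val_pow_eq_pow_val]; exact h)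
        rw [this, cj_neg, map_one, map_one]
    · -- graph automorphisms
      have hsq : (lift (cj C * (itr : MulAut (_root_.Matrix.SpecialLinearGroup (Fin 3) F)))) ^ 2 = lift (cj (C * itG C)) := by
        rw [← map_pow, sq_graph]
      have h1 : orderOf (lift (cj (C * itG C))) = 3 := by
        rw [← hsq, orderOf_pow_of_dvd (by norm_num) (by rw [hx]; norm_num), hx]
      have h2 := PS.pow hP 2
      rw [hsq] at h2
      have h3 : (lift (cj (C * itG C))) ^ 3 = 1 := orderOf_dvd_iff_pow_eq_one.1 (by rw [h1])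
      set B : GL (Fin 3) F := C * itG C with hB
      have hdet : (B : Matrix (Fin 3) (Fin 3) F).det = 1 := by
        rw [hB, Units.val_mul, det_mul]
        show (C : Matrix (Fin 3) (Fin 3) F).det * (((C⁻¹ : GL (Fin 3) F) : Matrix (Fin 3) (Fin 3) F)ᵀ).det = 1
        rw [det_transpose, ← det_mul, ← Units.val_mul, mul_inv_cancel, Units.val_one, det_one]
      have hB3 : B ^ 3 = 1 := by
        rcases pow_eq hF h3 with h | h
        · exact h
        · exfalso
          have h4 : ((B ^ 3 : GL (Fin 3) F) : Matrix (Fin 3) (Fin 3) F).det = -1 := by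
            rw [h, Units.val_neg, Units.val_one, det_neg, det_one, Fintype.card_fin]
            ring
          rw [Units.val_pow_eq_pow_val, det_pow, hdet, one_pow] at h4
          have h30 : (3 : F) = 0 := by exact_mod_cast CharP.cast_eq_zero F 3
          have h5 : (1 : F) = 0 := by linear_combination h30 - h4
          exact one_ne_zero h5
      have hN : ((B : Matrix (Fin 3) (Fin 3) F) - 1) ^ 2 = 0 := by
        by_contra h4
        refine not_ps_reg ?_ h4 h2
        rw [cube_sub hF, ← Units.val_pow_eq_pow_val, hB3, Units.val_one, sub_self]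
      have hC : (C : Matrix (Fin 3) (Fin 3) F) = (C : Matrix (Fin 3) (Fin 3) F)ᵀ := by
        refine skew (N := (B : Matrix (Fin 3) (Fin 3) F) - 1) (by rw [← pow_two]; exact hN) ?_
        rw [sub_mul, one_mul, hB, Units.val_mul, mul_assoc]
        have h5 : (itG C : Matrix (Fin 3) (Fin 3) F) * (C : Matrix (Fin 3) (Fin 3) F)ᵀ = 1 := (itG C).mul_inv
        rw [h5, mul_one]
      have hB1 : B = 1 := by
        rw [hB]
        apply Units.ext
        rw [Units.val_mul]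
        have h5 : (C : Matrix (Fin 3) (Fin 3) F)ᵀ * (itG C : Matrix (Fin 3) (Fin 3) F) = 1 := (itG C).inv_mul
        rw [← hC] at h5
        exact h5
      rw [hB1, map_one, map_one, orderOf_one] at h1
      omega
  · -- order nine
    have hx9 : x ^ 9 = 1 := by rw [← hx, pow_orderOf_eq_one]
    have hx3 : x ^ 3 ≠ 1 := fun h => by
      have := orderOf_dvd_of_pow_eq_one h
      rw [hx] at this
      exact absurd this (by decide)
    rcases cases_aut hF x with ⟨A, rfl⟩ | ⟨C, rfl⟩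
    · obtain ⟨B, hB, hB9⟩ := exists_pow_eq hF (by decide) hx9
      apply hx3
      rw [← hB, ← map_pow, ← map_pow]
      suffices B ^ 3 = 1 by rw [this, map_one, map_one]
      set b : Matrix (Fin 3) (Fin 3) F := (B : Matrix (Fin 3) (Fin 3) F) with hb
      have h1 : (b - 1) ^ 9 = 0 := by
        have : (b - 1) ^ 9 = ((b - 1) ^ 3) ^ 3 := by rw [← pow_mul]
        rw [this, cube_sub hF, cube_sub hF, ← pow_mul]
        have h2 : b ^ (3 * 3) = 1 := by rw [hb, ← Units.val_pow_eq_pow_val, hB9, Units.val_one]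
        rw [h2, sub_self]
      have h2 : (b - 1) ^ 3 = 0 := by
        exact pow_three_eq_zero ⟨9, h1⟩
      rw [cube_sub hF, sub_eq_zero] at h2
      exact Units.ext (by rw [Units.val_pow_eq_pow_val, Units.val_one]; exact h2)
    · exact absurd hx9 (odd_graph C 4)

end three

end Cfsg.Agent.H626.SN.LThree
end

-- part: H196/SN/Gl
section
/-!
# Automorphisms of `PSL_n(3)` and pairs of conjugates (helper196, S3831)

* `ad A` : conjugation by `A ∈ GL_n(F)` on `PSL_n(F)`; `gr A` : `ad A` times the inverse transpose; `two_forms`;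
* `ad_eq_one_iff`, `ad_eq_ad_iff`, `gr_ne_ad`, `ad_mul_gr`, `gr_mul_ad`, `gr_mul_gr`;
* `ps_false` : the certificate (three pairwise coprime orders) against `PS 2 x`; `ps_ad`, `ps_gr` : conjugation by `GL`;
* `lrL_of_zmod`, `r69_of_zmod` : from `ZMod 3` to all fields with three elements.
-/

set_option autoImplicit false
set_option linter.unusedSectionVars false

namespace Cfsg.Agent.H196.SN

open Cfsg Matrix Subgroup Cfsg.Agent.H459.Rad Cfsg.Agent.H21.SN
open Cfsg.Agent.ClassicalGeometry.AutPSL.Root (pr pr_surjective pr_eq_of_smul exists_smul_of_pr_eq)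
open Cfsg.Agent.ClassicalGeometry.AutPSL.Auto (cj fld itr lift coe_cj coe_itr itr_mul_itr lift_pr)
open Cfsg.Agent.ClassicalGeometry.AutPSL.Main (injective_aux not_graph cj_eq_one_of_scalar surj_three)

section gen

variable {n : ℕ} {F : Type*} [Field F]

/-- conjugation by `A ∈ GL_n(F)` on `PSL_n(F)` -/
def ad : GL (Fin n) F →* MulAut (ProjectiveSpecialLinearGroup (Fin n) F) :=
  (lift (ι := Fin n) (F := F)).comp (cj (ι := Fin n) (F := F))

theorem ad_def (A : GL (Fin n) F) : ad A = lift (cj A) := rfl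

theorem ad_pr (A : GL (Fin n) F) (g : _root_.Matrix.SpecialLinearGroup (Fin n) F) : ad A (pr g) = pr (cj A g) := rfl

theorem gl_inv (A : GL (Fin n) F) : (A⁻¹ : GL (Fin n) F).1 * A.1 = 1 := by
  rw [← Units.val_mul, inv_mul_cancel, Units.val_one]

theorem gl_inv' (A : GL (Fin n) F) : A.1 * (A⁻¹ : GL (Fin n) F).1 = 1 := by
  rw [← Units.val_mul, mul_inv_cancel, Units.val_one]

/-- `A⁻ᵀ` -/
def ct (A : GL (Fin n) F) : GL (Fin n) F where
  val := (A⁻¹ : GL (Fin n) F).1ᵀ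
  inv := A.1ᵀ
  val_inv := by rw [← transpose_mul, gl_inv', transpose_one]
  inv_val := by rw [← transpose_mul, gl_inv, transpose_one]

theorem ct_val (A : GL (Fin n) F) : (ct A).1 = (A⁻¹ : GL (Fin n) F).1ᵀ := rfl

theorem ct_inv_val (A : GL (Fin n) F) : ((ct A)⁻¹ : GL (Fin n) F).1 = A.1ᵀ := rfl

theorem ct_inv (A : GL (Fin n) F) : ct A⁻¹ = (ct A)⁻¹ := by
  apply Units.ext
  rw [ct_inv_val, ct_val, inv_inv]

theorem itr_cj (A : GL (Fin n) F) : (itr * cj A : MulAut (_root_.Matrix.SpecialLinearGroup (Fin n) F)) = cj (ct A) * itr := by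
  apply MulEquiv.ext
  intro g
  apply Subtype.ext
  show ((cj A g)⁻¹ : _root_.Matrix.SpecialLinearGroup (Fin n) F).1ᵀ = (A⁻¹ : GL (Fin n) F).1ᵀ *
    ((g⁻¹ : _root_.Matrix.SpecialLinearGroup (Fin n) F).1ᵀ) * A.1ᵀ
  rw [← map_inv, coe_cj, transpose_mul, transpose_mul, mul_assoc]

/-- the graph automorphisms -/
def gr (A : GL (Fin n) F) : MulAut (ProjectiveSpecialLinearGroup (Fin n) F) := lift (cj A * itr)

theorem ad_mul_gr (A B : GL (Fin n) F) : ad A * gr B = gr (A * B) := by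
  rw [gr, gr, ad_def, ← map_mul, map_mul cj, mul_assoc]

theorem gr_mul_ad (A B : GL (Fin n) F) : gr A * ad B = gr (A * ct B) := by
  rw [gr, gr, ad_def, ← map_mul, map_mul cj, mul_assoc, itr_cj, mul_assoc]

theorem gr_mul_gr (A B : GL (Fin n) F) : gr A * gr B = ad (A * ct B) := by
  rw [gr, gr, ad_def, ← map_mul]
  congr 1
  calc cj A * itr * (cj B * itr) = cj A * (itr * cj B) * itr := by simp only [mul_assoc]
    _ = cj A * cj (ct B) * (itr * itr) := by rw [itr_cj]; simp only [mul_assoc]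
    _ = cj (A * ct B) := by rw [itr_mul_itr, mul_one, map_mul]

theorem ad_eq_one_iff [Nontrivial (Fin n)] {C : GL (Fin n) F} : ad C = 1 ↔ ∃ r : F, C.1 = r • 1 := by
  constructor
  · intro h
    have h1 : lift (cj C * fld (1 : F ≃+* F)) = lift (fld (ι := Fin n) (1 : F ≃+* F)) := by
      rw [map_one fld, mul_one, map_one]
      exact h
    obtain ⟨⟨r, hr⟩, -⟩ := injective_aux h1
    exact ⟨r, by rw [← hr, scalar_apply, ← smul_one_eq_diagonal]⟩
  · rintro ⟨r, hr⟩
    rw [ad_def, cj_eq_one_of_scalar (r := r) (by rw [hr, scalar_apply, ← smul_one_eq_diagonal]), map_one]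

theorem ad_eq_ad_iff [Nontrivial (Fin n)] {A B : GL (Fin n) F} : ad A = ad B ↔ ∃ r : F, A.1 = r • B.1 := by
  have h1 : ad A = ad B ↔ ad (A * B⁻¹) = 1 := by
    rw [map_mul, map_inv, mul_inv_eq_one]
  rw [h1, ad_eq_one_iff]
  constructor
  · rintro ⟨r, hr⟩
    refine ⟨r, ?_⟩
    have h2 : A.1 = (A * B⁻¹).1 * B.1 := by rw [← Units.val_mul, inv_mul_cancel_right]
    rw [h2, hr, Matrix.smul_mul, one_mul]
  · rintro ⟨r, hr⟩
    refine ⟨r, ?_⟩
    rw [Units.val_mul, hr, Matrix.smul_mul, gl_inv']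

theorem gr_eq_gr_iff [Nontrivial (Fin n)] {A B : GL (Fin n) F} : gr A = gr B ↔ ∃ r : F, A.1 = r • B.1 := by
  rw [← ad_eq_ad_iff]
  have h : ∀ A : GL (Fin n) F, gr A = ad A * lift itr := fun A => by rw [gr, ad_def, ← map_mul]
  rw [h, h, mul_left_inj]

theorem gr_ne_ad (hn : 3 ≤ n) (A B : GL (Fin n) F) : gr A ≠ ad B := by
  intro h
  have : Nontrivial (Fin n) := Fin.nontrivial_iff_two_le.2 (by omega)
  refine not_graph (ι := Fin n) (C := B⁻¹ * A) (σ := 1) (τ := 1) (by rw [Fintype.card_fin]; exact hn) ?_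
  rw [map_one fld, mul_one, map_one lift, map_mul cj, map_inv, mul_assoc, map_mul lift, map_inv]
  show (ad B)⁻¹ * gr A = 1
  rw [h, inv_mul_cancel]

theorem cj_coe (g : _root_.Matrix.SpecialLinearGroup (Fin n) F) : cj (g : GL (Fin n) F) = MulAut.conj g := by
  apply MulEquiv.ext
  intro h
  apply Subtype.ext
  show (g : GL (Fin n) F).1 * h.1 * ((g : GL (Fin n) F)⁻¹).1 = g.1 * h.1 * (g⁻¹).1
  congr 1

theorem conj_pr (g : _root_.Matrix.SpecialLinearGroup (Fin n) F) : MulAut.conj (pr g) = ad (g : GL (Fin n) F) := by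
  apply MulEquiv.ext
  intro h
  obtain ⟨h, rfl⟩ := pr_surjective h
  rw [ad_pr, cj_coe, MulAut.conj_apply, MulAut.conj_apply, map_mul, map_mul, map_inv]

/-- elements of `GL` with an explicit inverse -/
def mkU (M N : Matrix (Fin n) (Fin n) F) (h1 : M * N = 1) (h2 : N * M = 1) : GL (Fin n) F := ⟨M, N, h1, h2⟩

/-- `GL` element with given nonzero determinant -/
theorem exists_gl (P : Matrix (Fin n) (Fin n) F) (h : P.det ≠ 0) : ∃ A : GL (Fin n) F, A.1 = P :=
  ⟨Matrix.GeneralLinearGroup.mkOfDetNeZero P h, rfl⟩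

end gen

section ps

variable {K : Type*} [Group K]

/-- **the certificate against `PS 2 x`** -/
theorem ps_false {x : MulAut K} (h : PS 2 x) (g : K) {y : MulAut K} (hy : MulAut.conj g * x * (MulAut.conj g)⁻¹ = y)
    {c d : MulAut K} (hc : ∀ S : Subgroup (MulAut K), x ∈ S → y ∈ S → c ∈ S)
    (hd : ∀ S : Subgroup (MulAut K), x ∈ S → y ∈ S → d ∈ S) {p q r : ℕ} (h1 : c ^ p = 1) (h2 : d ^ q = 1)
    (h3 : (c * d) ^ r = 1) (hpq : p.Coprime q) (hpr : p.Coprime r) (hqr : q.Coprime r) (hne : d ≠ 1) : False := by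
  have h4 := h ![1, g]
  have hx : x ∈ _root_.Subgroup.closure (Set.range fun i => MulAut.conj ((![1, g] : Fin 2 → K) i) * x *
      (MulAut.conj ((![1, g] : Fin 2 → K) i))⁻¹) := subset_closure ⟨0, by simp⟩
  have hy' : y ∈ _root_.Subgroup.closure (Set.range fun i => MulAut.conj ((![1, g] : Fin 2 → K) i) * x *
      (MulAut.conj ((![1, g] : Fin 2 → K) i))⁻¹) := subset_closure ⟨1, by simpa only [_root_.Fin.isValue, _root_.Matrix.cons_val_one, _root_.Matrix.cons_val_fin_one] using hy⟩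
  exact not_solvable_of_coprime (hc _ hx hy') (hd _ hx hy') h1 h2 h3 hpq hpr hqr hne h4

/-- conjugate automorphisms -/
theorem ps_cj {n : ℕ} {x : MulAut K} (h : PS n x) (a : MulAut K) : PS n (a * x * a⁻¹) := by
  have h1 := PS.tr (a : K ≃* K) h
  have h2 : H459.Rad.tr (a : K ≃* K) x = a * x * a⁻¹ := by
    ext l
    rfl
  rwa [h2] at h1

end ps

section three

variable {n : ℕ}

theorem fld_one (σ : ZMod 3 ≃+* ZMod 3) : σ = 1 := Subsingleton.elim _ _

theorem two_forms (hn : 3 ≤ n) (α : MulAut (ProjectiveSpecialLinearGroup (Fin n) (ZMod 3))) :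
    (∃ A : GL (Fin n) (ZMod 3), α = ad A) ∨ (∃ A : GL (Fin n) (ZMod 3), α = gr A) := by
  rcases surj_three 3 hn α with ⟨A, σ, h⟩ | ⟨A, σ, h⟩
  · left
    refine ⟨A, ?_⟩
    rw [h, fld_one σ, map_one, mul_one, ad_def]
  · right
    refine ⟨A, ?_⟩
    rw [h, fld_one σ, map_one, mul_one, gr]

/-- automorphisms of odd order come from `GL_n(3)` -/
theorem exists_ad (hn : 3 ≤ n) {α : MulAut (ProjectiveSpecialLinearGroup (Fin n) (ZMod 3))} {m : ℕ} (hm : Odd m)
    (h : α ^ m = 1) : ∃ A : GL (Fin n) (ZMod 3), α = ad A := by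
  rcases two_forms hn α with h1 | ⟨A, rfl⟩
  · exact h1
  · exfalso
    obtain ⟨k, rfl⟩ := hm
    have h2 : gr A ^ (2 * k) = ad ((A * ct A) ^ k) := by
      rw [pow_mul, pow_two, gr_mul_gr, map_pow]
    rw [pow_succ, h2] at h
    refine gr_ne_ad hn A ((A * ct A) ^ k)⁻¹ ?_
    rw [map_inv]
    exact eq_inv_of_mul_eq_one_right h

theorem sc3 : ∀ r : ZMod 3, r ^ 3 = r := by decide

theorem unit3 : ∀ r : ZMod 3, r ≠ 0 → r = 1 ∨ r = -1 := by decide

/-- scaling: `A ^ m` scalar, `m` odd -/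
theorem exists_pow_eq_one {A : GL (Fin n) (ZMod 3)} {m : ℕ} (hn : 0 < n) (hm : Odd m) {r : ZMod 3}
    (h : A.1 ^ m = r • 1) : ∃ B : GL (Fin n) (ZMod 3), ad A = ad B ∧ B.1 ^ m = 1 := by
  have : Nonempty (Fin n) := ⟨⟨0, hn⟩⟩
  have hr : r ≠ 0 := by
    rintro rfl
    rw [zero_smul] at h
    have h1 : IsUnit (A.1 ^ m) := A.isUnit.pow m
    rw [h] at h1
    exact not_isUnit_zero h1
  rcases unit3 r hr with rfl | rfl
  · exact ⟨A, rfl, by rw [h, one_smul]⟩
  · refine ⟨-A, ?_, ?_⟩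
    · have h1 : (-A : GL (Fin n) (ZMod 3)) = A * -1 := by rw [mul_neg, mul_one]
      have h2 : ad (-1 : GL (Fin n) (ZMod 3)) = 1 := by
        rw [ad_def, cj_eq_one_of_scalar (r := -1) (by
          rw [scalar_apply, ← smul_one_eq_diagonal, neg_smul, one_smul]; rfl), map_one]
      rw [h1, map_mul, h2, mul_one]
    · rw [Units.val_neg, hm.neg_pow, h, neg_smul, one_smul, neg_neg]

end three

section transfer

/-- `PSL_n(3)`: it suffices to consider `ZMod 3` -/
theorem lrL_of_zmod {n : ℕ}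
    (h : ∀ x : MulAut (ProjectiveSpecialLinearGroup (Fin n) (ZMod 3)), orderOf x = 3 → PS 2 x → RN x →
      ∃ (A : _root_.Matrix.SpecialLinearGroup (Fin n) (ZMod 3)) (v w : Fin n → ZMod 3),
        (A : Matrix (Fin n) (Fin n) (ZMod 3)) = 1 + vecMulVec v w ∧ x = MulAut.conj (QuotientGroup.mk A)) :
    LrL n := by
  intro F _ _ hF x hx hP hR
  let σ : ZMod 3 ≃+* F := FiniteField.ringEquivOfCardEq (by rw [hF, ZMod.card])
  let e : ProjectiveSpecialLinearGroup (Fin n) F ≃* ProjectiveSpecialLinearGroup (Fin n) (ZMod 3) :=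
    (H363.PslCard.pslEquiv (n := Fin n) σ).symm
  obtain ⟨A, v, w, hA, h1⟩ := h (H459.Rad.tr e x) (by rw [orderOf_tr, hx]) (hP.tr e) (hR.tr e)
  refine ⟨H363.PslCard.slEquiv σ A, σ ∘ v, σ ∘ w, ?_, ?_⟩
  · ext i j
    have h2 : ((H363.PslCard.slEquiv σ A : _root_.Matrix.SpecialLinearGroup (Fin n) F) : Matrix (Fin n) (Fin n) F) i j =
        σ (A.1 i j) := rfl
    rw [h2, hA]
    simp only [Matrix.add_apply, vecMulVec_apply, map_add, map_mul, Function.comp_apply, Matrix.one_apply]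
    split_ifs <;> simp
  · have h3 : x = H459.Rad.tr e.symm (H459.Rad.tr e x) := by
      ext l
      simp [H459.Rad.tr_apply]
    rw [h3, h1]
    ext l
    rw [H459.Rad.tr_apply, MulAut.conj_apply, MulAut.conj_apply, map_mul, map_mul, map_inv, MulEquiv.symm_symm,
      MulEquiv.apply_symm_apply]
    rfl

theorem r69_of_zmod {n : ℕ} (h : R69 (ProjectiveSpecialLinearGroup (Fin n) (ZMod 3))) {K : Type*} [Group K] [Finite K]
    {F : Type} [Field F] [Fintype F] (hF : Fintype.card F = 3)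
    (e : Nonempty (K ≃* ProjectiveSpecialLinearGroup (Fin n) F)) : R69 K := by
  obtain ⟨e⟩ := e
  obtain ⟨f⟩ := H363.PslCard.psl_of_card (n := Fin n) (F := F) (F' := ZMod 3) (by rw [hF, ZMod.card])
  exact R69.congr (e.trans f) h

end transfer

end Cfsg.Agent.H196.SN
end

-- part: H196/SN/L4Cert
section
/-!
# `PSL_4(3)`: explicit pairs of conjugates generating non-solvable groups (helper196, S3831, E1b)

`J31`, `J22`, `J4` : unipotent matrices of type `(3,1)`, `(2,2)`, `(4)`; `Xp`, `Xm` : `J_2 + (-1) + (1)`, `J_2 + (-1) + (-1)`;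
`G` : a polarity times a transvection.
-/

set_option autoImplicit false

namespace Cfsg.Agent.H196.SN

open Cfsg Matrix Subgroup Cfsg.Agent.H459.Rad Cfsg.Agent.H21.SN
open Cfsg.Agent.ClassicalGeometry.AutPSL.Root (pr)

/-- certificates of linear type -/
theorem lin_cert {n : ℕ} {F : Type*} [Field F] [Nontrivial (Fin n)] {X Y C D : GL (Fin n) F}
    {g : _root_.Matrix.SpecialLinearGroup (Fin n) F} (hg : g.1 * X.1 = Y.1 * g.1)
    (hC : ∀ S : Subgroup (GL (Fin n) F), X ∈ S → Y ∈ S → C ∈ S)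
    (hD : ∀ S : Subgroup (GL (Fin n) F), X ∈ S → Y ∈ S → D ∈ S) {p q r : ℕ} {s t u : F}
    (h1 : C.1 ^ p = s • 1) (h2 : D.1 ^ q = t • 1) (h3 : (C * D).1 ^ r = u • 1)
    (hpq : p.Coprime q) (hpr : p.Coprime r) (hqr : q.Coprime r) (hne : ∀ r : F, D.1 ≠ r • 1) : ¬ PS 2 (ad X) := by
  intro hP
  have hY : MulAut.conj (pr g) * ad X * (MulAut.conj (pr g))⁻¹ = ad Y := by
    rw [conj_pr, ← map_mul, ← map_inv, ← map_mul]
    congr 1
    rw [mul_inv_eq_iff_eq_mul]
    exact Units.ext hg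
  refine ps_false hP (pr g) hY (c := ad C) (d := ad D) (p := p) (q := q) (r := r) ?_ ?_ ?_ ?_ ?_ hpq hpr hqr ?_
  · intro S hx hy
    exact hC (S.comap ad) hx hy
  · intro S hx hy
    exact hD (S.comap ad) hx hy
  · rw [← map_pow, ad_eq_one_iff]
    exact ⟨s, h1⟩
  · rw [← map_pow, ad_eq_one_iff]
    exact ⟨t, h2⟩
  · rw [← map_mul, ← map_pow, ad_eq_one_iff]
    exact ⟨u, h3⟩
  · rw [Ne, ad_eq_one_iff]
    rintro ⟨r, hr⟩
    exact hne r hr

/-- certificates of graph type -/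
theorem gr_cert {n : ℕ} {F : Type*} [Field F] [Nontrivial (Fin n)] {X Y : GL (Fin n) F}
    {g : _root_.Matrix.SpecialLinearGroup (Fin n) F} (hg : g.1 * X.1 * g.1ᵀ = Y.1)
    {p q r : ℕ} {s t u : F} (h1 : (X * ct Y).1 ^ p = s • 1) (h2 : (Y * ct Y * (X * ct X)).1 ^ q = t • 1)
    (h3 : (X * ct Y * (Y * ct Y * (X * ct X))).1 ^ r = u • 1) (hpq : p.Coprime q) (hpr : p.Coprime r)
    (hqr : q.Coprime r) (hne : ∀ r : F, (Y * ct Y * (X * ct X)).1 ≠ r • 1) : ¬ PS 2 (gr X) := by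
  intro hP
  have hY : MulAut.conj (pr g) * gr X * (MulAut.conj (pr g))⁻¹ = gr Y := by
    rw [conj_pr, ad_mul_gr, ← map_inv, gr_mul_ad]
    congr 1
    apply Units.ext
    rw [← hg, ct_inv]
    rfl
  refine ps_false hP (pr g) hY (c := ad (X * ct Y)) (d := ad (Y * ct Y * (X * ct X))) (p := p) (q := q) (r := r)
    ?_ ?_ ?_ ?_ ?_ hpq hpr hqr ?_
  · intro S hx hy
    rw [← gr_mul_gr]
    exact S.mul_mem hx hy
  · intro S hx hy
    rw [map_mul, ← gr_mul_gr, ← gr_mul_gr]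
    exact S.mul_mem (S.mul_mem hy hy) (S.mul_mem hx hx)
  · rw [← map_pow, ad_eq_one_iff]
    exact ⟨s, h1⟩
  · rw [← map_pow, ad_eq_one_iff]
    exact ⟨t, h2⟩
  · rw [← map_mul, ← map_pow, ad_eq_one_iff]
    exact ⟨u, h3⟩
  · rw [Ne, ad_eq_one_iff]
    rintro ⟨r, hr⟩
    exact hne r hr

def J31x : GL (Fin 4) (ZMod 3) :=
  mkU !![1, 1, 0, 0; 0, 1, 1, 0; 0, 0, 1, 0; 0, 0, 0, 1] !![1, 2, 1, 0; 0, 1, 2, 0; 0, 0, 1, 0; 0, 0, 0, 1]
    (by decide +kernel) (by decide +kernel)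
def J31y : GL (Fin 4) (ZMod 3) :=
  mkU !![1, 2, 1, 1; 0, 1, 2, 1; 0, 1, 2, 0; 0, 0, 1, 0] !![1, 2, 2, 0; 0, 0, 1, 1; 0, 0, 0, 1; 0, 1, 2, 0]
    (by decide +kernel) (by decide +kernel)
def J31g : _root_.Matrix.SpecialLinearGroup (Fin 4) (ZMod 3) :=
  ⟨!![1, 2, 0, 1; 2, 0, 2, 0; 1, 1, 2, 0; 1, 0, 2, 0], by decide +kernel⟩

theorem J31_not : ¬ PS 2 (ad J31x) :=
  lin_cert (Y := J31y) (C := J31x) (D := J31x * J31y) (g := J31g)
    (p := 3) (q := 8) (r := 13) (s := 1) (t := 1) (u := 1) (by decide +kernel)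
    (fun S hx hy => hx) (fun S hx hy => (S.mul_mem hx hy))
    (by decide +kernel) (by decide +kernel) (by decide +kernel) (by norm_num) (by norm_num) (by norm_num) (by decide +kernel)

def J22x : GL (Fin 4) (ZMod 3) :=
  mkU !![1, 1, 0, 0; 0, 1, 0, 0; 0, 0, 1, 1; 0, 0, 0, 1] !![1, 2, 0, 0; 0, 1, 0, 0; 0, 0, 1, 2; 0, 0, 0, 1]
    (by decide +kernel) (by decide +kernel)
def J22y : GL (Fin 4) (ZMod 3) :=
  mkU !![0, 1, 1, 2; 2, 2, 1, 2; 1, 2, 2, 2; 1, 2, 1, 0] !![2, 2, 2, 1; 1, 0, 2, 1; 2, 1, 0, 1; 2, 1, 2, 2]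
    (by decide +kernel) (by decide +kernel)
def J22g : _root_.Matrix.SpecialLinearGroup (Fin 4) (ZMod 3) :=
  ⟨!![2, 2, 1, 1; 2, 1, 1, 1; 1, 1, 1, 2; 1, 1, 1, 1], by decide +kernel⟩

theorem J22_not : ¬ PS 2 (ad J22x) :=
  lin_cert (Y := J22y) (C := J22x) (D := J22x * J22y * J22x * J22y) (g := J22g)
    (p := 3) (q := 5) (r := 2) (s := 1) (t := 1) (u := 2) (by decide +kernel)
    (fun S hx hy => hx) (fun S hx hy => (S.mul_mem (S.mul_mem (S.mul_mem hx hy) hx) hy))
    (by decide +kernel) (by decide +kernel) (by decide +kernel) (by norm_num) (by norm_num) (by norm_num) (by decide +kernel)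

def J4x : GL (Fin 4) (ZMod 3) :=
  mkU !![1, 1, 0, 0; 0, 1, 1, 0; 0, 0, 1, 1; 0, 0, 0, 1] !![1, 2, 1, 2; 0, 1, 2, 1; 0, 0, 1, 2; 0, 0, 0, 1]
    (by decide +kernel) (by decide +kernel)
def J4y : GL (Fin 4) (ZMod 3) :=
  mkU !![2, 0, 0, 1; 2, 2, 1, 1; 2, 1, 0, 1; 1, 2, 0, 0] !![2, 0, 1, 1; 2, 0, 1, 0; 1, 1, 1, 0; 0, 0, 1, 1]
    (by decide +kernel) (by decide +kernel)
def J4g : _root_.Matrix.SpecialLinearGroup (Fin 4) (ZMod 3) :=
  ⟨!![2, 1, 1, 2; 1, 2, 0, 0; 0, 2, 0, 0; 1, 1, 0, 2], by decide +kernel⟩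

theorem J4_not : ¬ PS 2 (ad J4x) :=
  lin_cert (Y := J4y) (C := J4x) (D := J4x * J4y) (g := J4g)
    (p := 9) (q := 5) (r := 4) (s := 1) (t := 2) (u := 1) (by decide +kernel)
    (fun S hx hy => hx) (fun S hx hy => (S.mul_mem hx hy))
    (by decide +kernel) (by decide +kernel) (by decide +kernel) (by norm_num) (by norm_num) (by norm_num) (by decide +kernel)

def Xpx : GL (Fin 4) (ZMod 3) :=
  mkU !![1, 1, 0, 0; 0, 1, 0, 0; 0, 0, 2, 0; 0, 0, 0, 1] !![1, 2, 0, 0; 0, 1, 0, 0; 0, 0, 2, 0; 0, 0, 0, 1]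
    (by decide +kernel) (by decide +kernel)
def Xpy : GL (Fin 4) (ZMod 3) :=
  mkU !![0, 1, 0, 1; 1, 0, 0, 2; 2, 1, 0, 1; 2, 1, 1, 2] !![1, 0, 2, 0; 0, 1, 1, 0; 2, 1, 0, 1; 1, 2, 2, 0]
    (by decide +kernel) (by decide +kernel)
def Xpg : _root_.Matrix.SpecialLinearGroup (Fin 4) (ZMod 3) :=
  ⟨!![1, 1, 1, 2; 2, 2, 2, 0; 0, 1, 2, 0; 2, 0, 0, 2], by decide +kernel⟩

theorem Xp_not : ¬ PS 2 (ad Xpx) :=
  lin_cert (Y := Xpy) (C := Xpx * Xpx) (D := Xpx * Xpy) (g := Xpg)
    (p := 3) (q := 13) (r := 4) (s := 1) (t := 1) (u := 1) (by decide +kernel)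
    (fun S hx hy => (S.mul_mem hx hx)) (fun S hx hy => (S.mul_mem hx hy))
    (by decide +kernel) (by decide +kernel) (by decide +kernel) (by norm_num) (by norm_num) (by norm_num) (by decide +kernel)

def Xmx : GL (Fin 4) (ZMod 3) :=
  mkU !![1, 1, 0, 0; 0, 1, 0, 0; 0, 0, 2, 0; 0, 0, 0, 2] !![1, 2, 0, 0; 0, 1, 0, 0; 0, 0, 2, 0; 0, 0, 0, 2]
    (by decide +kernel) (by decide +kernel)
def Xmy : GL (Fin 4) (ZMod 3) :=
  mkU !![1, 0, 1, 1; 2, 2, 1, 1; 2, 0, 1, 1; 0, 0, 1, 2] !![2, 0, 1, 0; 0, 2, 1, 0; 1, 0, 1, 2; 1, 0, 1, 1]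
    (by decide +kernel) (by decide +kernel)
def Xmg : _root_.Matrix.SpecialLinearGroup (Fin 4) (ZMod 3) :=
  ⟨!![2, 2, 2, 0; 2, 2, 2, 2; 1, 2, 0, 0; 2, 0, 2, 0], by decide +kernel⟩

theorem Xm_not : ¬ PS 2 (ad Xmx) :=
  lin_cert (Y := Xmy) (C := Xmx) (D := Xmx * Xmy) (g := Xmg)
    (p := 6) (q := 5) (r := 13) (s := 1) (t := 1) (u := 2) (by decide +kernel)
    (fun S hx hy => hx) (fun S hx hy => (S.mul_mem hx hy))
    (by decide +kernel) (by decide +kernel) (by decide +kernel) (by norm_num) (by norm_num) (by norm_num) (by decide +kernel)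

/-- the standard alternating form -/
def Jx : GL (Fin 4) (ZMod 3) :=
  mkU !![0, 1, 0, 0; 2, 0, 0, 0; 0, 0, 0, 1; 0, 0, 2, 0] !![0, 2, 0, 0; 1, 0, 0, 0; 0, 0, 0, 2; 0, 0, 1, 0]
    (by decide +kernel) (by decide +kernel)
/-- the transvection -/
def Ux : GL (Fin 4) (ZMod 3) :=
  mkU !![1, 0, 0, 0; 1, 1, 0, 0; 0, 0, 1, 0; 0, 0, 0, 1] !![1, 0, 0, 0; 2, 1, 0, 0; 0, 0, 1, 0; 0, 0, 0, 1]
    (by decide +kernel) (by decide +kernel)
def Gx : GL (Fin 4) (ZMod 3) :=
  mkU !![0, 1, 0, 0; 2, 1, 0, 0; 0, 0, 0, 1; 0, 0, 2, 0] !![1, 2, 0, 0; 1, 0, 0, 0; 0, 0, 0, 2; 0, 0, 1, 0]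
    (by decide +kernel) (by decide +kernel)
def Gy : GL (Fin 4) (ZMod 3) :=
  mkU !![1, 2, 0, 0; 2, 1, 1, 0; 1, 1, 1, 1; 1, 2, 1, 1] !![1, 0, 2, 1; 0, 0, 2, 1; 1, 1, 0, 0; 1, 2, 0, 1]
    (by decide +kernel) (by decide +kernel)
def Gg : _root_.Matrix.SpecialLinearGroup (Fin 4) (ZMod 3) :=
  ⟨!![2, 2, 1, 1; 2, 1, 1, 0; 0, 1, 2, 1; 2, 1, 2, 2], by decide +kernel⟩

theorem Gx_eq : Gx = Jx * ct Ux := Units.ext (by decide +kernel)

theorem G_not : ¬ PS 2 (gr Gx) :=
  gr_cert (Y := Gy) (g := Gg) (p := 13) (q := 3) (r := 2) (s := 1) (t := 1) (u := 2) (by decide +kernel)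
    (by decide +kernel) (by decide +kernel) (by decide +kernel) (by norm_num) (by norm_num) (by norm_num) (by decide +kernel)

end Cfsg.Agent.H196.SN
end

-- part: H196/SN/L4Form
section
/-!
# `PSL_4(3)`: normal forms (helper196, S3831, E1b)

* `rank_one_of_ps` : `A ^ 3 = 1`, `PS 2 (ad A)`: `A = 1 + v wᵀ`;
* `pow_three_of_ps` : `A ^ 9 = 1`, `PS 2 (ad A)`: `A ^ 3 = 1`.
-/

set_option autoImplicit false

namespace Cfsg.Agent.H196.SN

open Cfsg Matrix Subgroup Cfsg.Agent.H459.Rad Cfsg.Agent.H21.SN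
open Cfsg.Agent.ClassicalGeometry.AutPSL.Root (pr)

section conj

variable {n : ℕ} {F : Type*} [Field F]

theorem ps_of_conj {A X : GL (Fin n) F} {P : Matrix (Fin n) (Fin n) F} (hP : P.det ≠ 0) (h : A.1 * P = P * X.1)
    (hA : PS 2 (ad A)) : PS 2 (ad X) := by
  obtain ⟨Q, rfl⟩ := exists_gl P hP
  have h1 := ps_cj hA (ad Q)⁻¹
  rw [← map_inv, ← map_mul, ← map_inv, ← map_mul, inv_inv] at h1
  have h2 : Q⁻¹ * A * Q = X := by
    rw [mul_assoc, inv_mul_eq_iff_eq_mul]
    exact Units.ext h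
  rwa [h2] at h1

theorem ps_of_congr {B X : GL (Fin n) F} {R : Matrix (Fin n) (Fin n) F} (hR : R.det ≠ 0) (h : R * B.1 * Rᵀ = X.1)
    (hA : PS 2 (gr B)) : PS 2 (gr X) := by
  obtain ⟨Q, rfl⟩ := exists_gl R hR
  have h1 := ps_cj hA (ad Q)
  rw [ad_mul_gr, ← map_inv, gr_mul_ad, ct_inv] at h1
  have h2 : Q * B * (ct Q)⁻¹ = X := Units.ext h
  rwa [h2] at h1

end conj

/-- the matrix with given columns -/
def cols4 (a b c d : Fin 4 → ZMod 3) : Matrix (Fin 4) (Fin 4) (ZMod 3) := (Matrix.of ![a, b, c, d])ᵀ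

theorem cols4_mulVec (a b c d u : Fin 4 → ZMod 3) :
    cols4 a b c d *ᵥ u = u 0 • a + u 1 • b + u 2 • c + u 3 • d := by
  funext i
  simp only [cols4, mulVec, dotProduct, Fin.sum_univ_four, Matrix.transpose_apply, Matrix.of_apply, Pi.add_apply,
    Pi.smul_apply, smul_eq_mul]
  simp only [_root_.Fin.isValue, _root_.Matrix.cons_val', _root_.Matrix.cons_val_fin_one, _root_.Matrix.cons_val_zero, _root_.Matrix.cons_val_one, _root_.Matrix.cons_val]
  ring

theorem cols4_det {a b c d : Fin 4 → ZMod 3}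
    (h : ∀ u0 u1 u2 u3 : ZMod 3, u0 • a + u1 • b + u2 • c + u3 • d = 0 → u0 = 0 ∧ u1 = 0 ∧ u2 = 0 ∧ u3 = 0) :
    (cols4 a b c d).det ≠ 0 := by
  intro h0
  obtain ⟨u, hu, hu0⟩ := (Matrix.exists_mulVec_eq_zero_iff).2 h0
  rw [cols4_mulVec] at hu0
  obtain ⟨h1, h2, h3, h4⟩ := h _ _ _ _ hu0
  apply hu
  funext i
  fin_cases i <;> assumption

/-- `A` in the basis `a`, `b`, `c`, `d` -/
theorem mul_cols4 {A X : Matrix (Fin 4) (Fin 4) (ZMod 3)} {a b c d : Fin 4 → ZMod 3}
    (ha : A *ᵥ a = X 0 0 • a + X 1 0 • b + X 2 0 • c + X 3 0 • d)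
    (hb : A *ᵥ b = X 0 1 • a + X 1 1 • b + X 2 1 • c + X 3 1 • d)
    (hc : A *ᵥ c = X 0 2 • a + X 1 2 • b + X 2 2 • c + X 3 2 • d)
    (hd : A *ᵥ d = X 0 3 • a + X 1 3 • b + X 2 3 • c + X 3 3 • d) :
    A * cols4 a b c d = cols4 a b c d * X := by
  apply Matrix.toLin'.injective
  apply LinearMap.ext
  intro u
  rw [toLin'_mul, toLin'_mul, LinearMap.comp_apply, LinearMap.comp_apply, toLin'_apply, toLin'_apply, toLin'_apply,
    toLin'_apply, cols4_mulVec, cols4_mulVec, mulVec_add, mulVec_add, mulVec_add, mulVec_smul, mulVec_smul,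
    mulVec_smul, mulVec_smul, ha, hb, hc, hd]
  simp only [mulVec, dotProduct, Fin.sum_univ_four]
  module

section uni

variable {N : Matrix (Fin 4) (Fin 4) (ZMod 3)}

/-- a vector of the kernel outside a line -/
theorem exists_ker (h3 : N ^ 3 = 0) (v0 : Fin 4 → ZMod 3) (hv0 : v0 ≠ 0) :
    ∃ e, N *ᵥ e = 0 ∧ e ∉ Submodule.span (ZMod 3) {v0} := by
  by_contra hcon
  push Not at hcon
  set f : (Fin 4 → ZMod 3) →ₗ[ZMod 3] (Fin 4 → ZMod 3) := toLin' N with hf
  have h1 : LinearMap.ker f ≤ Submodule.span (ZMod 3) {v0} := fun e he =>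
    hcon e (by rw [← toLin'_apply]; exact he)
  have h2 : Module.finrank (ZMod 3) (LinearMap.ker f) ≤ 1 := by
    have := Submodule.finrank_mono h1
    rwa [finrank_span_singleton hv0] at this
  have key : ∀ W : Submodule (ZMod 3) (Fin 4 → ZMod 3),
      Module.finrank (ZMod 3) W ≤ Module.finrank (ZMod 3) (W.map f) + 1 := by
    intro W
    have h4 := LinearMap.finrank_range_add_finrank_ker (f.domRestrict W)
    rw [LinearMap.range_domRestrict] at h4
    have h5 : Module.finrank (ZMod 3) (LinearMap.ker (f.domRestrict W)) ≤ Module.finrank (ZMod 3) (LinearMap.ker f) := by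
      rw [← Submodule.finrank_map_subtype_eq W (LinearMap.ker (f.domRestrict W))]
      apply Submodule.finrank_mono
      rintro _ ⟨w, hw, rfl⟩
      exact hw
    omega
  have h4 := key ⊤
  have h5 := key (Submodule.map f ⊤)
  have h6 := key (Submodule.map f (Submodule.map f ⊤))
  have h7 : Submodule.map f (Submodule.map f (Submodule.map f ⊤)) = ⊥ := by
    rw [eq_bot_iff]
    rintro _ ⟨_, ⟨_, ⟨u, -, rfl⟩, rfl⟩, rfl⟩
    rw [hf, toLin'_apply, toLin'_apply, toLin'_apply, mulVec_mulVec, mulVec_mulVec, ← pow_two, ← pow_succ, h3,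
      zero_mulVec]
    exact Submodule.zero_mem _
  rw [h7, finrank_bot] at h6
  rw [finrank_top, Module.finrank_fin_fun] at h4
  omega

end uni

variable {A : GL (Fin 4) (ZMod 3)}

/-- `(A - 1) ^ 2 = 0` -/
theorem sq_zero_of_ps (h3 : A.1 ^ 3 = 1) (hP : PS 2 (ad A)) (v : Fin 4 → ZMod 3) :
    (A.1 - 1) *ᵥ ((A.1 - 1) *ᵥ v) = 0 := by
  by_contra hv
  set N : Matrix (Fin 4) (Fin 4) (ZMod 3) := A.1 - 1 with hN
  have hN3 : N ^ 3 = 0 := by
    rw [hN, sub_pow_char_of_commute 3 (Commute.one_right A.1), one_pow, h3, sub_self]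
  have hAN : A.1 = 1 + N := by rw [hN]; abel
  have hN3v : N *ᵥ (N *ᵥ (N *ᵥ v)) = 0 := by
    rw [mulVec_mulVec, mulVec_mulVec, ← pow_two, ← pow_succ, hN3, zero_mulVec]
  obtain ⟨e, he, he'⟩ := exists_ker hN3 _ hv
  refine J31_not (ps_of_conj (P := cols4 (N *ᵥ (N *ᵥ v)) (N *ᵥ v) v e) ?_ ?_ hP)
  · apply cols4_det
    intro u0 u1 u2 u3 h0
    have e2 : u2 = 0 := by
      have h1 := congrArg (fun z => N *ᵥ (N *ᵥ z)) h0
      simp only [mulVec_add, mulVec_smul, hN3v, he, mulVec_zero, smul_zero, zero_add, add_zero] at h1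
      exact (smul_eq_zero.1 h1).resolve_right hv
    have e1 : u1 = 0 := by
      have h1 := congrArg (fun z => N *ᵥ z) h0
      simp only [mulVec_add, mulVec_smul, hN3v, he, mulVec_zero, smul_zero, zero_add, e2, zero_smul, add_zero] at h1
      exact (smul_eq_zero.1 h1).resolve_right hv
    rw [e1, e2, zero_smul, zero_smul, add_zero, add_zero] at h0
    have e3 : u3 = 0 := by
      by_contra h1
      apply he'
      rw [Submodule.mem_span_singleton]
      refine ⟨-(u3)⁻¹ * u0, ?_⟩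
      have h2 : u0 • (N *ᵥ (N *ᵥ v)) = - (u3 • e) := eq_neg_of_add_eq_zero_left h0
      rw [mul_smul, h2, smul_neg, neg_smul, neg_neg, smul_smul, inv_mul_cancel₀ h1, one_smul]
    rw [e3, zero_smul, add_zero] at h0
    exact ⟨(smul_eq_zero.1 h0).resolve_right hv, e1, e2, e3⟩
  · have hv0 : ∀ z, A.1 *ᵥ z = z + N *ᵥ z := fun z => by rw [hAN, add_mulVec, one_mulVec]
    apply mul_cols4
    · rw [hv0, hN3v]; simp [J31x, mkU]
    · rw [hv0]; simp [J31x, mkU, add_comm]
    · rw [hv0]; simp [J31x, mkU, add_comm]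
    · rw [hv0, he]; simp [J31x, mkU]

/-- `A - 1` has rank one -/
theorem rank_one_of_ps (h3 : A.1 ^ 3 = 1) (hP : PS 2 (ad A)) :
    ∃ v w : Fin 4 → ZMod 3, A.1 = 1 + vecMulVec v w ∧ w ⬝ᵥ v = 0 := by
  have hsq := sq_zero_of_ps h3 hP
  set N : Matrix (Fin 4) (Fin 4) (ZMod 3) := A.1 - 1 with hN
  have hAN : A.1 = 1 + N := by rw [hN]; abel
  have hv0 : ∀ z, A.1 *ᵥ z = z + N *ᵥ z := fun z => by rw [hAN, add_mulVec, one_mulVec]
  by_cases h0 : ∀ z, N *ᵥ z = 0
  · refine ⟨0, 0, ?_, by simp⟩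
    have h1 : N = 0 := by
      apply Matrix.toLin'.injective
      apply LinearMap.ext
      intro u
      rw [toLin'_apply, h0 u, map_zero, LinearMap.zero_apply]
    rw [hAN, h1]
    simp
  push Not at h0
  obtain ⟨a, ha⟩ := h0
  -- all images are multiples of `N a`
  have key : ∀ z, ∃ c : ZMod 3, N *ᵥ z = c • (N *ᵥ a) := by
    intro z
    by_contra hcon
    push Not at hcon
    refine J22_not (ps_of_conj (P := cols4 (N *ᵥ a) a (N *ᵥ z) z) ?_ ?_ hP)
    · apply cols4_det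
      intro u0 u1 u2 u3 h0
      have h1 := congrArg (fun z => N *ᵥ z) h0
      simp only [mulVec_add, mulVec_smul, hsq, smul_zero, zero_add, add_zero, mulVec_zero] at h1
      have e3 : u3 = 0 := by
        by_contra h2
        apply hcon (-(u3)⁻¹ * u1)
        have h4 : u1 • (N *ᵥ a) = - (u3 • (N *ᵥ z)) := eq_neg_of_add_eq_zero_left h1
        rw [mul_smul, h4, smul_neg, neg_smul, neg_neg, smul_smul, inv_mul_cancel₀ h2, one_smul]
      have e1 : u1 = 0 := by
        rw [e3, zero_smul, add_zero] at h1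
        exact (smul_eq_zero.1 h1).resolve_right ha
      rw [e1, e3, zero_smul, zero_smul, add_zero, add_zero] at h0
      have e2 : u2 = 0 := by
        by_contra h2
        apply hcon (-(u2)⁻¹ * u0)
        have h4 : u0 • (N *ᵥ a) = - (u2 • (N *ᵥ z)) := eq_neg_of_add_eq_zero_left h0
        rw [mul_smul, h4, smul_neg, neg_smul, neg_neg, smul_smul, inv_mul_cancel₀ h2, one_smul]
      rw [e2, zero_smul, add_zero] at h0
      exact ⟨(smul_eq_zero.1 h0).resolve_right ha, e1, e2, e3⟩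
    · apply mul_cols4
      · rw [hv0, hsq]; simp [J22x, mkU]
      · rw [hv0]; simp [J22x, mkU, add_comm]
      · rw [hv0, hsq]; simp [J22x, mkU]
      · rw [hv0]; simp [J22x, mkU, add_comm]
  choose c hc using key
  have hNe : N = vecMulVec (N *ᵥ a) (fun j => c (Pi.single j 1)) := by
    ext i j
    have h1 := congrFun (hc (Pi.single j 1)) i
    rw [mulVec_single_one] at h1
    rw [vecMulVec_apply]
    simp only [Matrix.col_apply, Pi.smul_apply, smul_eq_mul] at h1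
    rw [h1, mul_comm]
  refine ⟨N *ᵥ a, fun j => c (Pi.single j 1), ?_, ?_⟩
  · rw [← hNe, hAN]
  · have h1 : vecMulVec (N *ᵥ a) (fun j => c (Pi.single j 1)) *ᵥ (N *ᵥ a) = 0 := by
      rw [← hNe]
      exact hsq a
    rw [vecMulVec_mulVec, op_smul_eq_smul] at h1
    exact (smul_eq_zero.1 h1).resolve_right ha

/-- `A ^ 9 = 1` -/
theorem pow_three_of_ps (h9 : A.1 ^ 9 = 1) (hP : PS 2 (ad A)) : A.1 ^ 3 = 1 := by
  set N : Matrix (Fin 4) (Fin 4) (ZMod 3) := A.1 - 1 with hN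
  have hAN : A.1 = 1 + N := by rw [hN]; abel
  have hv0 : ∀ z, A.1 *ᵥ z = z + N *ᵥ z := fun z => by rw [hAN, add_mulVec, one_mulVec]
  have hN3 : N ^ 3 = A.1 ^ 3 - 1 := by
    rw [hN, sub_pow_char_of_commute 3 (Commute.one_right A.1), one_pow]
  have hnil : IsNilpotent N := by
    refine ⟨9, ?_⟩
    have h1 : N ^ 9 = (N ^ 3) ^ 3 := by rw [← pow_mul]
    rw [h1, hN3, sub_pow_char_of_commute 3 (Commute.one_right _), one_pow, ← pow_mul, h9, sub_self]
  have hN4 : N ^ 4 = 0 := by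
    have h1 := Matrix.isNilpotent_charpoly_sub_pow_of_isNilpotent hnil
    have h2 := isNilpotent_iff_eq_zero.1 h1
    have h3 := Matrix.aeval_self_charpoly N
    rw [sub_eq_zero.1 h2] at h3
    simpa only [_root_.Fintype.card_fin, _root_.map_pow, _root_.Polynomial.aeval_X] using h3
  by_contra hne
  have hN3' : N ^ 3 ≠ 0 := by
    rw [hN3]
    exact sub_ne_zero.2 hne
  obtain ⟨v, hv⟩ : ∃ v, N ^ 3 *ᵥ v ≠ 0 := by
    by_contra hcon
    push Not at hcon
    apply hN3'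
    apply Matrix.toLin'.injective
    apply LinearMap.ext
    intro u
    rw [toLin'_apply, hcon u, map_zero, LinearMap.zero_apply]
  have e4 : N *ᵥ (N *ᵥ (N *ᵥ (N *ᵥ v))) = 0 := by
    rw [mulVec_mulVec, mulVec_mulVec, mulVec_mulVec, ← pow_two, ← pow_succ, ← pow_succ, hN4, zero_mulVec]
  have e3 : N *ᵥ (N *ᵥ (N *ᵥ v)) ≠ 0 := by
    rw [mulVec_mulVec, mulVec_mulVec, ← pow_two, ← pow_succ]
    exact hv
  refine J4_not (ps_of_conj (P := cols4 (N *ᵥ (N *ᵥ (N *ᵥ v))) (N *ᵥ (N *ᵥ v)) (N *ᵥ v) v) ?_ ?_ hP)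
  · apply cols4_det
    intro u0 u1 u2 u3 h0
    have x3 : u3 = 0 := by
      have h1 := congrArg (fun z => N *ᵥ (N *ᵥ (N *ᵥ z))) h0
      simp only [mulVec_add, mulVec_smul, e4, mulVec_zero, smul_zero, zero_add] at h1
      exact (smul_eq_zero.1 h1).resolve_right e3
    have x2 : u2 = 0 := by
      have h1 := congrArg (fun z => N *ᵥ (N *ᵥ z)) h0
      simp only [mulVec_add, mulVec_smul, e4, mulVec_zero, smul_zero, zero_add, add_zero, x3, zero_smul] at h1
      exact (smul_eq_zero.1 h1).resolve_right e3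
    have x1 : u1 = 0 := by
      have h1 := congrArg (fun z => N *ᵥ z) h0
      simp only [mulVec_add, mulVec_smul, e4, mulVec_zero, smul_zero, zero_add, add_zero, x3, x2, zero_smul] at h1
      exact (smul_eq_zero.1 h1).resolve_right e3
    rw [x1, x2, x3, zero_smul, zero_smul, zero_smul, add_zero, add_zero, add_zero] at h0
    exact ⟨(smul_eq_zero.1 h0).resolve_right e3, x1, x2, x3⟩
  · apply mul_cols4
    · rw [hv0, e4]; simp [J4x, mkU]
    · rw [hv0]; simp [J4x, mkU, add_comm]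
    · rw [hv0]; simp [J4x, mkU, add_comm]
    · rw [hv0]; simp [J4x, mkU, add_comm]

end Cfsg.Agent.H196.SN
end

-- part: H196/SN/L4Six
section
/-!
# `PSL_4(3)`: the base case of S3831 (helper196, E1b)

* `lrL4 : LrL 4` : elements of order three with `PS 2` are transvections;
* `r69_psl4` : no automorphism of order six or nine has `PS 2`.
-/

set_option autoImplicit false

namespace Cfsg.Agent.H196.SN

open Cfsg Matrix Subgroup Cfsg.Agent.H459.Rad Cfsg.Agent.H21.SN
open Cfsg.Agent.ClassicalGeometry.AutPSL.Root (pr)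

theorem z3_two : ∀ z : ZMod 3, z + z = 0 → z = 0 := by decide
theorem z3_neg : ∀ z : ZMod 3, z = -z → z = 0 := by decide
theorem z3_sq : ∀ z : ZMod 3, z ≠ 0 → z * z = 1 := by decide
theorem z3_dbl : ∀ z : ZMod 3, -(z + z) = z := by decide

/-- an involution `T` commuting with a transvection `U` -/
theorem lin_six {T U : GL (Fin 4) (ZMod 3)} {v w : Fin 4 → ZMod 3} (hU : U.1 = 1 + vecMulVec v w) (hv : v ≠ 0)
    (hw : w ≠ 0) (hwv : w ⬝ᵥ v = 0) (hT2 : T.1 * T.1 = 1) (hTv : T.1 *ᵥ v = v) (hwT : w ᵥ* T.1 = w) (hT1 : T.1 ≠ 1)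
    (hP : PS 2 (ad (T * U))) : False := by
  have hTT : ∀ z, T.1 *ᵥ (T.1 *ᵥ z) = z := fun z => by rw [mulVec_mulVec, hT2, one_mulVec]
  have hwz : ∀ z, w ⬝ᵥ (T.1 *ᵥ z) = w ⬝ᵥ z := fun z => by rw [dotProduct_mulVec, hwT]
  -- the vector `b`
  obtain ⟨b, hb, hTb⟩ : ∃ b, w ⬝ᵥ b = 1 ∧ T.1 *ᵥ b = b := by
    obtain ⟨i, hi⟩ : ∃ i, w i ≠ 0 := by
      by_contra hcon
      push Not at hcon
      exact hw (funext hcon)
    set y : Fin 4 → ZMod 3 := (w i) • Pi.single i 1 with hy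
    have hwy : w ⬝ᵥ y = 1 := by
      rw [hy, dotProduct_smul, dotProduct_single, mul_one, smul_eq_mul]
      exact z3_sq _ hi
    refine ⟨-(y + T.1 *ᵥ y), ?_, ?_⟩
    · rw [dotProduct_neg, dotProduct_add, hwz, hwy]
      decide
    · rw [mulVec_neg, mulVec_add, hTT, add_comm]
  -- the vector `c`
  obtain ⟨c, hc0, hTc⟩ : ∃ c, c ≠ 0 ∧ T.1 *ᵥ c = -c := by
    by_contra hcon
    push Not at hcon
    apply hT1
    apply Matrix.toLin'.injective
    apply LinearMap.ext
    intro u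
    rw [toLin'_apply, toLin'_apply, one_mulVec]
    by_contra hu
    refine hcon (u - T.1 *ᵥ u) (sub_ne_zero.2 (Ne.symm hu)) ?_
    rw [mulVec_sub, hTT, neg_sub]
  have hwc : w ⬝ᵥ c = 0 := by
    apply z3_neg
    rw [← dotProduct_neg, ← hTc, hwz]
  -- the vector `d`
  have hex : ∃ d, d ∉ Submodule.span (ZMod 3) (Set.range ![v, b, c]) := by
    by_contra hcon
    push Not at hcon
    have h1 : Submodule.span (ZMod 3) (Set.range ![v, b, c]) = ⊤ := by
      rw [eq_top_iff]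
      intro d _
      exact hcon d
    have h2 := finrank_range_le_card (R := ZMod 3) ![v, b, c]
    rw [Set.finrank, h1, finrank_top, Module.finrank_fin_fun, Fintype.card_fin] at h2
    omega
  have hmem : ∀ α β γ : ZMod 3, α • v + β • b + γ • c ∈ Submodule.span (ZMod 3) (Set.range ![v, b, c]) := by
    intro α β γ
    refine add_mem (add_mem ?_ ?_) ?_
    · exact Submodule.smul_mem _ _ (Submodule.subset_span ⟨0, rfl⟩)
    · exact Submodule.smul_mem _ _ (Submodule.subset_span ⟨1, rfl⟩)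
    · exact Submodule.smul_mem _ _ (Submodule.subset_span ⟨2, rfl⟩)
  obtain ⟨d, hd, hwd, hTd⟩ : ∃ d, d ∉ Submodule.span (ZMod 3) (Set.range ![v, b, c]) ∧ w ⬝ᵥ d = 0 ∧
      (T.1 *ᵥ d = d ∨ T.1 *ᵥ d = -d) := by
    obtain ⟨y, hy⟩ := hex
    by_cases h1 : y - T.1 *ᵥ y ∈ Submodule.span (ZMod 3) (Set.range ![v, b, c])
    · refine ⟨y + T.1 *ᵥ y - (w ⬝ᵥ (y + T.1 *ᵥ y)) • b, ?_, ?_, Or.inl ?_⟩
      · intro h2
        apply hy
        have h3 : y + T.1 *ᵥ y ∈ Submodule.span (ZMod 3) (Set.range ![v, b, c]) := by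
          have h4 := hmem 0 (w ⬝ᵥ (y + T.1 *ᵥ y)) 0
          rw [zero_smul, zero_smul, zero_add, add_zero] at h4
          have h5 := add_mem h2 h4
          rwa [sub_add_cancel] at h5
        have h4 := neg_mem (add_mem h1 h3)
        have h5 : -(y - T.1 *ᵥ y + (y + T.1 *ᵥ y)) = y := by
          have : y - T.1 *ᵥ y + (y + T.1 *ᵥ y) = y + y := by abel
          rw [this]
          funext i
          exact z3_dbl (y i)
        rwa [h5] at h4
      · rw [dotProduct_sub, dotProduct_smul, hb, smul_eq_mul, mul_one, sub_self]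
      · rw [mulVec_sub, mulVec_add, hTT, mulVec_smul, hTb, add_comm (T.1 *ᵥ y) y]
    · refine ⟨y - T.1 *ᵥ y, h1, ?_, Or.inr ?_⟩
      · rw [dotProduct_sub, hwz, sub_self]
      · rw [mulVec_sub, hTT, neg_sub]
  -- the action of `U`
  have hUz : ∀ z, U.1 *ᵥ z = z + (w ⬝ᵥ z) • v := fun z => by
    rw [hU, add_mulVec, one_mulVec, vecMulVec_mulVec, op_smul_eq_smul]
  have a1 : (T * U).1 *ᵥ v = v := by
    rw [Units.val_mul, ← mulVec_mulVec, hUz, hwv, zero_smul, add_zero, hTv]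
  have a2 : (T * U).1 *ᵥ b = v + b := by
    rw [Units.val_mul, ← mulVec_mulVec, hUz, hb, one_smul, mulVec_add, hTv, hTb, add_comm]
  have a3 : (T * U).1 *ᵥ c = -c := by
    rw [Units.val_mul, ← mulVec_mulVec, hUz, hwc, zero_smul, add_zero, hTc]
  have a4 : (T * U).1 *ᵥ d = T.1 *ᵥ d := by
    rw [Units.val_mul, ← mulVec_mulVec, hUz, hwd, zero_smul, add_zero]
  have hdet : (cols4 v b c d).det ≠ 0 := by
    apply cols4_det
    intro u0 u1 u2 u3 h0
    have e3 : u3 = 0 := by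
      by_contra h1
      apply hd
      have h2 := hmem (-(u3)⁻¹ * u0) (-(u3)⁻¹ * u1) (-(u3)⁻¹ * u2)
      have h3 : (-(u3)⁻¹ * u0) • v + (-(u3)⁻¹ * u1) • b + (-(u3)⁻¹ * u2) • c = d := by
        have h4 : u0 • v + u1 • b + u2 • c = - (u3 • d) := eq_neg_of_add_eq_zero_left h0
        rw [mul_smul, mul_smul, mul_smul, ← smul_add, ← smul_add, h4, smul_neg, neg_smul, neg_neg, smul_smul,
          inv_mul_cancel₀ h1, one_smul]
      rwa [h3] at h2
    rw [e3, zero_smul, add_zero] at h0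
    have e1 : u1 = 0 := by
      have h1 := congrArg (fun z => w ⬝ᵥ z) h0
      simp only [dotProduct_add, dotProduct_smul, hwv, hb, hwc, dotProduct_zero, smul_eq_mul, mul_zero, mul_one,
        zero_add, add_zero] at h1
      exact h1
    rw [e1, zero_smul, add_zero] at h0
    have h1 := congrArg (fun z => T.1 *ᵥ z) h0
    simp only [mulVec_add, mulVec_smul, hTv, hTc, mulVec_zero, smul_neg] at h1
    have h2 : u0 • v = 0 := by
      have h3 : u0 • v + u0 • v = 0 := by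
        calc u0 • v + u0 • v = (u0 • v + u2 • c) + (u0 • v + -(u2 • c)) := by abel
          _ = 0 := by rw [h0, h1, add_zero]
      funext i
      exact z3_two _ (congrFun h3 i)
    have e0 : u0 = 0 := (smul_eq_zero.1 h2).resolve_right hv
    rw [e0, zero_smul, zero_add] at h0
    exact ⟨e0, e1, (smul_eq_zero.1 h0).resolve_right hc0, e3⟩
  rcases hTd with hTd | hTd
  · refine Xp_not (ps_of_conj hdet (mul_cols4 ?_ ?_ ?_ ?_) hP)
    · rw [a1]; simp [Xpx, mkU]
    · rw [a2]; simp [Xpx, mkU]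
    · rw [a3]
      have : (2 : ZMod 3) = -1 := by decide
      simp [Xpx, mkU, this]
    · rw [a4, hTd]; simp [Xpx, mkU]
  · refine Xm_not (ps_of_conj hdet (mul_cols4 ?_ ?_ ?_ ?_) hP)
    · rw [a1]; simp [Xmx, mkU]
    · rw [a2]; simp [Xmx, mkU]
    · rw [a3]
      have : (2 : ZMod 3) = -1 := by decide
      simp [Xmx, mkU, this]
    · rw [a4, hTd]
      have : (2 : ZMod 3) = -1 := by decide
      simp [Xmx, mkU, this]

/-- the bilinear form -/
def om (B : Matrix (Fin 4) (Fin 4) (ZMod 3)) (a b : Fin 4 → ZMod 3) : ZMod 3 := a ⬝ᵥ (B *ᵥ b)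

section om

variable {B : Matrix (Fin 4) (Fin 4) (ZMod 3)}

theorem om_skew (hB : Bᵀ = -B) (a b : Fin 4 → ZMod 3) : om B a b = -om B b a := by
  show a ⬝ᵥ (B *ᵥ b) = -(b ⬝ᵥ (B *ᵥ a))
  rw [dotProduct_mulVec, ← mulVec_transpose, hB, neg_mulVec, neg_dotProduct, dotProduct_comm]

theorem om_self (hB : Bᵀ = -B) (a : Fin 4 → ZMod 3) : om B a a = 0 := z3_neg _ (om_skew hB a a)

theorem om_add (a b c : Fin 4 → ZMod 3) : om B a (b + c) = om B a b + om B a c := by
  show a ⬝ᵥ (B *ᵥ (b + c)) = _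
  rw [mulVec_add, dotProduct_add]
  rfl

theorem om_smul (r : ZMod 3) (a b : Fin 4 → ZMod 3) : om B a (r • b) = r * om B a b := by
  show a ⬝ᵥ (B *ᵥ (r • b)) = _
  rw [mulVec_smul, dotProduct_smul, smul_eq_mul]
  rfl

theorem om_nd (hdet : B.det ≠ 0) (a : Fin 4 → ZMod 3) (ha : ∀ b, om B a b = 0) : a = 0 := by
  by_contra hne
  apply hdet
  refine Matrix.exists_vecMul_eq_zero_iff.1 ⟨a, hne, ?_⟩
  funext j
  have h1 := ha (Pi.single j 1)
  change a ⬝ᵥ (B *ᵥ (Pi.single j 1)) = 0 at h1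
  rw [dotProduct_mulVec, dotProduct_single, mul_one] at h1
  exact h1

theorem om_entry (R : Matrix (Fin 4) (Fin 4) (ZMod 3)) (i j : Fin 4) : (R * B * Rᵀ) i j = om B (R i) (R j) := by
  show _ = R i ⬝ᵥ (B *ᵥ (R j))
  rw [Matrix.mul_apply', dotProduct_mulVec]
  rfl

end om

/-- a symplectic basis with a given first vector -/
theorem exists_sympl_aux {B : Matrix (Fin 4) (Fin 4) (ZMod 3)} (hB : Bᵀ = -B) (hdet : B.det ≠ 0) {w : Fin 4 → ZMod 3}
    (hw : w ≠ 0) : ∃ b c d, om B w b = 1 ∧ om B c d = 1 ∧ om B w c = 0 ∧ om B w d = 0 ∧ om B b c = 0 ∧ om B b d = 0 := by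
  have hsk := om_skew hB
  have hself := om_self hB
  -- the second vector
  obtain ⟨b, hb⟩ : ∃ b, om B w b = 1 := by
    by_contra hcon
    push Not at hcon
    apply hw
    apply om_nd hdet
    intro b
    by_contra hb
    apply hcon ((om B w b) • b)
    rw [om_smul]
    exact z3_sq _ hb
  -- the projection
  set π : (Fin 4 → ZMod 3) → (Fin 4 → ZMod 3) := fun y => y + (-(om B w y)) • b + (om B b y) • w with hπ
  have hbw : om B b w = -1 := by rw [hsk, hb]
  have p1 : ∀ y, om B w (π y) = 0 := by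
    intro y
    rw [hπ]
    simp only [om_add, om_smul, hb, hself]
    ring
  have p2 : ∀ y, om B b (π y) = 0 := by
    intro y
    rw [hπ]
    simp only [om_add, om_smul, hbw, hself]
    ring
  obtain ⟨y, z, hyz⟩ : ∃ y z, om B (π y) (π z) ≠ 0 := by
    by_contra hcon
    push Not at hcon
    have h1 : ∀ y, π y = 0 := by
      intro y
      apply om_nd hdet
      intro z
      have h2 : z = π z + (om B w z) • b + (-(om B b z)) • w := by
        rw [hπ]
        module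
      rw [h2, om_add, om_add, om_smul, om_smul, hcon, hsk (π y) b, hsk (π y) w, p1, p2]
      simp
    have h2 : Function.Injective (fun y : Fin 4 → ZMod 3 => (om B w y, om B b y)) := by
      intro y y' h
      have h3 : om B w y = om B w y' := congrArg Prod.fst h
      have h4 : om B b y = om B b y' := congrArg Prod.snd h
      have h5 := h1 y
      have h6 := h1 y'
      change y + (-(om B w y)) • b + (om B b y) • w = 0 at h5
      change y' + (-(om B w y')) • b + (om B b y') • w = 0 at h6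
      rw [h3, h4] at h5
      rw [← h6] at h5
      exact add_right_cancel (add_right_cancel h5)
    have h3 := Fintype.card_le_of_injective _ h2
    simp [ZMod.card] at h3
  refine ⟨b, π y, (om B (π y) (π z)) • π z, hb, ?_, p1 y, ?_, p2 y, ?_⟩
  · rw [om_smul]
    exact z3_sq _ hyz
  · rw [om_smul, p1, mul_zero]
  · rw [om_smul, p2, mul_zero]

/-- a symplectic basis with a given first vector -/
theorem exists_sympl {B : Matrix (Fin 4) (Fin 4) (ZMod 3)} (hB : Bᵀ = -B) (hdet : B.det ≠ 0) {w : Fin 4 → ZMod 3}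
    (hw : w ≠ 0) : ∃ R : Matrix (Fin 4) (Fin 4) (ZMod 3), R * B * Rᵀ = Jx.1 ∧ R 0 = w := by
  obtain ⟨b, c, d, hb, hcd, hwc, hwd, hbc, hbd⟩ := exists_sympl_aux hB hdet hw
  have hsk := om_skew hB
  have hself := om_self hB
  have hbw : om B b w = -1 := by rw [hsk, hb]
  have hcw : om B c w = 0 := by rw [hsk, hwc, neg_zero]
  have hcb : om B c b = 0 := by rw [hsk, hbc, neg_zero]
  have hdw : om B d w = 0 := by rw [hsk, hwd, neg_zero]
  have hdb : om B d b = 0 := by rw [hsk, hbd, neg_zero]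
  have hdc : om B d c = -1 := by rw [hsk, hcd]
  have h2 : (-1 : ZMod 3) = 2 := by decide
  refine ⟨Matrix.of ![w, b, c, d], ?_, rfl⟩
  ext i j
  rw [om_entry]
  have r0 : (Matrix.of ![w, b, c, d] : Matrix (Fin 4) (Fin 4) (ZMod 3)) 0 = w := rfl
  have r1 : (Matrix.of ![w, b, c, d] : Matrix (Fin 4) (Fin 4) (ZMod 3)) 1 = b := rfl
  have r2 : (Matrix.of ![w, b, c, d] : Matrix (Fin 4) (Fin 4) (ZMod 3)) 2 = c := rfl
  have r3 : (Matrix.of ![w, b, c, d] : Matrix (Fin 4) (Fin 4) (ZMod 3)) 3 = d := rfl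
  generalize Matrix.of ![w, b, c, d] = R at r0 r1 r2 r3
  (revert i j; simp only [Jx, mkU, r0, r1, r2, r3, hself, hb, hbw, hcd, hdc, hwc, hbc, hwd, hbd, hcw, hcb, hdw, hdb, h2, _root_.Fin.forall_fin_succ, _root_.Matrix.of_apply, _root_.Matrix.cons_val', _root_.Matrix.cons_val_fin_one, Fin.isValue, _root_.Matrix.cons_val_zero, _root_.Matrix.cons_val_succ, _root_.Fin.succ_zero_eq_one, _root_.Fin.succ_one_eq_two, Fin.reduceSucc, _root_.IsEmpty.forall_iff, _root_.and_true, _root_.and_self])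

/-- the polarity times a transvection -/
theorem graph_aux {B U : GL (Fin 4) (ZMod 3)} {v w : Fin 4 → ZMod 3} (hU : U.1 = 1 + vecMulVec v w)
    (hw : w ≠ 0) (hB : B.1ᵀ = -B.1) (hBw : B.1 *ᵥ w = -v) (hP : PS 2 (gr (B * ct U))) : False := by
  have hdet : B.1.det ≠ 0 := ((Matrix.isUnit_iff_isUnit_det _).1 B.isUnit).ne_zero
  obtain ⟨R, hR, hR0⟩ := exists_sympl hB hdet hw
  have hRdet : R.det ≠ 0 := by
    intro h0
    have h1 := congrArg Matrix.det hR
    rw [det_mul, det_mul, h0, zero_mul, zero_mul] at h1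
    have h2 : Jx.1.det ≠ 0 := ((Matrix.isUnit_iff_isUnit_det _).1 Jx.isUnit).ne_zero
    exact h2 h1.symm
  -- `R v = e_1`
  have hRv : R *ᵥ v = Pi.single 1 1 := by
    have h1 : v = -(B.1 *ᵥ w) := by rw [hBw, neg_neg]
    have h2 : w = Rᵀ *ᵥ (Pi.single 0 1) := by
      rw [mulVec_single_one]
      funext i
      rw [← hR0]
      rfl
    rw [h1, mulVec_neg, h2, mulVec_mulVec, mulVec_mulVec, hR]
    decide +kernel
  have hRU : R * U.1 = Ux.1 * R := by
    have h1 : Ux.1 = 1 + vecMulVec (Pi.single 1 1) (Pi.single 0 1) := by decide +kernel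
    rw [hU, h1, mul_add, add_mul, mul_one, one_mul, mul_vecMulVec, vecMulVec_mul, hRv]
    congr 2
    rw [single_one_vecMul]
    exact hR0.symm
  refine G_not (ps_of_congr (R := R) hRdet ?_ hP)
  have h3 : (ct U).1 * Rᵀ = Rᵀ * (ct Ux).1 := by
    rw [ct_val, ct_val, ← transpose_mul, ← transpose_mul]
    congr 1
    calc R * (U⁻¹ : GL (Fin 4) (ZMod 3)).1 = ((Ux⁻¹ : GL (Fin 4) (ZMod 3)).1 * Ux.1) * R * (U⁻¹ : GL (Fin 4) (ZMod 3)).1 := by
          rw [gl_inv, one_mul]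
      _ = (Ux⁻¹ : GL (Fin 4) (ZMod 3)).1 * (R * U.1) * (U⁻¹ : GL (Fin 4) (ZMod 3)).1 := by
          rw [hRU]; simp only [mul_assoc]
      _ = (Ux⁻¹ : GL (Fin 4) (ZMod 3)).1 * R * (U.1 * (U⁻¹ : GL (Fin 4) (ZMod 3)).1) := by simp only [mul_assoc]
      _ = (Ux⁻¹ : GL (Fin 4) (ZMod 3)).1 * R := by rw [gl_inv', mul_one]
  rw [Units.val_mul, Gx_eq, Units.val_mul, ← hR]
  simp only [mul_assoc, h3]

/-- forms and transvections -/
theorem graph_six {B U : GL (Fin 4) (ZMod 3)} {v w : Fin 4 → ZMod 3} (hU : U.1 = 1 + vecMulVec v w) (hv : v ≠ 0)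
    (hw : w ≠ 0) (hwv : w ⬝ᵥ v = 0) {r : ZMod 3} (hB : B.1 = r • B.1ᵀ) (hUB : U.1 * B.1 * U.1ᵀ = B.1)
    (hP : PS 2 (gr (B * ct U))) : False := by
  have hdet : B.1.det ≠ 0 := ((Matrix.isUnit_iff_isUnit_det _).1 B.isUnit).ne_zero
  set β := B.1 *ᵥ w with hβ
  have hβ0 : β ≠ 0 := by
    intro h0
    exact hdet (Matrix.exists_mulVec_eq_zero_iff.1 ⟨w, hw, h0⟩)
  set κ := w ⬝ᵥ β with hκ
  set γ := w ᵥ* B.1 with hγ
  have hr : r ≠ 0 := by
    rintro rfl
    rw [zero_smul] at hB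
    rw [hB, det_zero] at hdet
    exact hdet rfl
  have hβγ : β = r • γ := by
    rw [hβ, hB, smul_mulVec, mulVec_transpose]
  have hent : ∀ i j, v i * γ j + β i * v j + κ * (v i * v j) = 0 := by
    intro i j
    have h1 : U.1 * B.1 * U.1ᵀ = B.1 + (vecMulVec v γ + vecMulVec β v + κ • vecMulVec v v) := by
      rw [hU, transpose_add, transpose_one, transpose_vecMulVec, add_mul, one_mul, mul_add, mul_one, add_mul,
        vecMulVec_mul, mul_vecMulVec, vecMulVec_mul_vecMulVec, ← hγ, ← hβ]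
      have h2 : γ ⬝ᵥ w = κ := by rw [hκ, hβ, hγ, dotProduct_mulVec]
      rw [h2, vecMulVec_smul]
      abel
    rw [hUB] at h1
    have h2 := congrFun (congrFun (left_eq_add.1 h1) i) j
    simpa only [vecMulVec_apply, Matrix.add_apply, Matrix.smul_apply, _root_.smul_eq_mul, _root_.Pi.zero_apply] using h2
  obtain ⟨i0, hi0⟩ : ∃ i, v i ≠ 0 := by
    by_contra hcon
    push Not at hcon
    exact hv (funext hcon)
  have hβs : ∀ i, β i = r * γ i := fun i => congrFun hβγ i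
  have fin1 : ∀ (vi gi k : ZMod 3), vi * gi + 1 * gi * vi + k * (vi * vi) = 0 → vi ≠ 0 → 1 * gi = k * vi := by decide
  rcases unit3 r hr with rfl | rfl
  · -- symmetric
    exfalso
    have h1 : ∀ i, β i = κ * v i := by
      intro i
      by_cases hi : v i = 0
      · have h2 := hent i i0
        rw [hi, zero_mul, zero_mul, mul_zero, zero_add, add_zero] at h2
        rw [(mul_eq_zero.1 h2).resolve_right hi0, hi, mul_zero]
      · have h2 := hent i i
        rw [hβs] at h2 ⊢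
        exact fin1 _ _ _ h2 hi
    have h2 : β = κ • v := funext h1
    have h3 : κ = 0 := by
      rw [hκ, h2, dotProduct_smul, hwv, smul_zero]
    apply hβ0
    rw [h2, h3, zero_smul]
  · -- alternating
    have hskew : B.1ᵀ = -B.1 := by
      rw [neg_smul, one_smul] at hB
      calc B.1ᵀ = - -B.1ᵀ := (neg_neg _).symm
        _ = -B.1 := by rw [← hB]
    have hκ0 : κ = 0 := by
      apply z3_neg
      have h1 : w ⬝ᵥ β = -(w ⬝ᵥ β) := om_skew hskew w w
      exact h1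
    have h1 : ∀ i, β i = (β i0 * v i0) * v i := by
      intro i
      have h2 := hent i i0
      have h3 := hβs i0
      have h4 : ∀ (vi g0 bi v0 : ZMod 3), v0 ≠ 0 → vi * g0 + bi * v0 + 0 * (vi * v0) = 0 → bi = (-1 * g0 * v0) * vi := by
        decide +kernel
      rw [hκ0] at h2
      rw [h3]
      exact h4 _ _ _ _ hi0 h2
    have h2 : β = (β i0 * v i0) • v := funext h1
    have h3 : β i0 * v i0 ≠ 0 := by
      intro h0
      apply hβ0
      rw [h2, h0, zero_smul]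
    rcases unit3 _ h3 with h4 | h4
    · -- replace `B` by `-B`
      have h5 : gr (B * ct U) = gr (-B * ct U) := by
        rw [gr_eq_gr_iff]
        refine ⟨-1, ?_⟩
        rw [neg_mul, Units.val_neg, smul_neg, neg_smul, one_smul, neg_neg]
      rw [h5] at hP
      refine graph_aux (B := -B) hU hw ?_ ?_ hP
      · rw [Units.val_neg, transpose_neg, hskew]
      · rw [Units.val_neg, neg_mulVec, ← hβ, h2, h4, one_smul]
    · refine graph_aux (B := B) hU hw hskew ?_ hP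
      rw [← hβ, h2, h4, neg_smul, one_smul]

end Cfsg.Agent.H196.SN
end

-- part: H196/SN/L4Main
section
/-!
# `PSL_4(3)`: the base case of S3831 (helper196, E1b)

* `order3` : `x ^ 3 = 1`, `PS 2 x`: `x = ad U`, `U = 1 + v wᵀ`; `lrL4 : LrL 4`;
* `order9`, `order6`; `r69_psl4` : no automorphism of order six or nine has `PS 2`.
-/

set_option autoImplicit false

namespace Cfsg.Agent.H196.SN

open Cfsg Matrix Subgroup Cfsg.Agent.H459.Rad Cfsg.Agent.H21.SN
open Cfsg.Agent.ClassicalGeometry.AutPSL.Root (pr)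

abbrev P4 := ProjectiveSpecialLinearGroup (Fin 4) (ZMod 3)

/-- **order three** -/
theorem order3 {x : MulAut P4} (h3 : x ^ 3 = 1) (hP : PS 2 x) : ∃ (U : GL (Fin 4) (ZMod 3)) (v w : Fin 4 → ZMod 3),
    x = ad U ∧ U.1 = 1 + vecMulVec v w ∧ w ⬝ᵥ v = 0 ∧ U.1 ^ 3 = 1 := by
  obtain ⟨A, rfl⟩ := exists_ad (by norm_num) (by decide : Odd 3) h3
  rw [← map_pow, ad_eq_one_iff] at h3
  obtain ⟨r, hr⟩ := h3
  obtain ⟨B, hB, hB3⟩ := exists_pow_eq_one (A := A) (by norm_num) (by decide : Odd 3)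
    (by rw [← Units.val_pow_eq_pow_val]; exact hr)
  rw [hB] at hP ⊢
  obtain ⟨v, w, h1, h2⟩ := rank_one_of_ps hB3 hP
  exact ⟨B, v, w, rfl, h1, h2, hB3⟩

theorem lrL4 : LrL 4 := by
  refine lrL_of_zmod ?_
  intro x hx hP _
  obtain ⟨U, v, w, rfl, hU, hwv, -⟩ := order3 (orderOf_dvd_iff_pow_eq_one.1 (dvd_of_eq hx)) hP
  refine ⟨Cfsg.Agent.ClassicalGeometry.AutPSL.Root.tr v w hwv, v, w, rfl, ?_⟩
  have h1 := conj_pr (Cfsg.Agent.ClassicalGeometry.AutPSL.Root.tr v w hwv)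
  refine Eq.trans ?_ h1.symm
  congr 1
  apply Units.ext
  rw [hU]
  rfl

/-- **order nine** -/
theorem order9 {x : MulAut P4} (h9 : x ^ 9 = 1) (hP : PS 2 x) : x ^ 3 = 1 := by
  obtain ⟨A, rfl⟩ := exists_ad (by norm_num) (by decide : Odd 9) h9
  rw [← map_pow, ad_eq_one_iff] at h9
  obtain ⟨r, hr⟩ := h9
  obtain ⟨B, hB, hB9⟩ := exists_pow_eq_one (A := A) (by norm_num) (by decide : Odd 9)
    (by rw [← Units.val_pow_eq_pow_val]; exact hr)
  rw [hB] at hP ⊢
  rw [← map_pow]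
  have h1 : B ^ 3 = 1 := Units.ext (by rw [Units.val_pow_eq_pow_val]; exact pow_three_of_ps hB9 hP)
  rw [h1, map_one]

section pw

variable {k A : Type*} [CommRing k] [Ring A] [Algebra k A]

theorem pow_comm_smul {M N : A} {r : k} (h : M * N = r • (N * M)) (n : ℕ) : M * N ^ n = r ^ n • (N ^ n * M) := by
  induction n with
  | zero => rw [pow_zero, pow_zero, mul_one, one_mul, one_smul]
  | succ n ih =>
    rw [pow_succ, ← mul_assoc, ih, smul_mul_assoc, mul_assoc, h, mul_smul_comm, smul_smul, ← pow_succ, ← mul_assoc]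

theorem pow_cong_smul {U U' B : A} {s : k} (h : U * B * U' = s • B) (n : ℕ) : U ^ n * B * U' ^ n = s ^ n • B := by
  induction n with
  | zero => rw [pow_zero, pow_zero, pow_zero, mul_one, one_mul, one_smul]
  | succ n ih =>
    calc U ^ (n + 1) * B * U' ^ (n + 1) = U ^ n * (U * B * U') * U' ^ n := by
          rw [pow_succ U, pow_succ' U']; simp only [mul_assoc]
      _ = s ^ (n + 1) • B := by
          rw [h, mul_smul_comm, smul_mul_assoc, ih, smul_smul, pow_succ']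

end pw

/-- `T` commutes with a unipotent matrix modulo scalars -/
theorem comm_of_smul {T U : GL (Fin 4) (ZMod 3)} (hU3 : U.1 ^ 3 = 1) (h : ad (T * U) = ad (U * T)) :
    T.1 * U.1 = U.1 * T.1 := by
  obtain ⟨r, hr⟩ := ad_eq_ad_iff.1 h
  rw [Units.val_mul, Units.val_mul] at hr
  have h2 := pow_comm_smul hr 3
  rw [hU3, mul_one, one_mul, sc3] at h2
  have h3 : r = 1 := by
    by_contra hr1
    apply (T.ne_zero : T.1 ≠ 0)
    have h4 : (1 - r) • T.1 = 0 := by rw [sub_smul, one_smul, ← h2, sub_self]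
    exact (smul_eq_zero.1 h4).resolve_left (sub_ne_zero.2 (Ne.symm hr1))
  rw [hr, h3, one_smul]

/-- a common eigenvalue -/
theorem eigen {T U : GL (Fin 4) (ZMod 3)} {v w : Fin 4 → ZMod 3} (hU : U.1 = 1 + vecMulVec v w) (hv : v ≠ 0)
    (hw : w ≠ 0) (hc : T.1 * U.1 = U.1 * T.1) : ∃ l : ZMod 3, l * l = 1 ∧ T.1 *ᵥ v = l • v ∧ w ᵥ* T.1 = l • w := by
  have hvw : vecMulVec (T.1 *ᵥ v) w = vecMulVec v (w ᵥ* T.1) := by
    rw [hU, mul_add, add_mul, mul_one, one_mul, mul_vecMulVec, vecMulVec_mul] at hc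
    exact add_left_cancel hc
  have hent : ∀ i j, (T.1 *ᵥ v) i * w j = v i * (w ᵥ* T.1) j := fun i j => congrFun (congrFun hvw i) j
  obtain ⟨j0, hj0⟩ : ∃ j, w j ≠ 0 := by
    by_contra hcon
    push Not at hcon
    exact hw (funext hcon)
  obtain ⟨i0, hi0⟩ : ∃ i, v i ≠ 0 := by
    by_contra hcon
    push Not at hcon
    exact hv (funext hcon)
  have h1 : T.1 *ᵥ v = ((w ᵥ* T.1) j0 * w j0) • v := by
    funext i
    have h2 := hent i j0
    have h3 : ∀ (a b c d : ZMod 3), d ≠ 0 → a * d = b * c → a = (c * d) * b := by decide +kernel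
    exact h3 _ _ _ _ hj0 h2
  generalize (w ᵥ* T.1) j0 * w j0 = l at h1
  have h2 : w ᵥ* T.1 = l • w := by
    funext j
    have h3 := hent i0 j
    rw [h1] at h3
    have h4 : ∀ (a b c d : ZMod 3), a ≠ 0 → d * a * b = a * c → c = d * b := by decide +kernel
    exact h4 _ _ _ _ hi0 h3
  refine ⟨l, ?_, h1, h2⟩
  apply z3_sq
  intro h0
  rw [h0, zero_smul] at h1
  have h3 : T.1.det = 0 := Matrix.exists_mulVec_eq_zero_iff.1 ⟨v, hv, h1⟩
  have h4 : IsUnit T.1.det := (Matrix.isUnit_iff_isUnit_det _).1 T.isUnit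
  rw [h3] at h4
  exact not_isUnit_zero h4

/-- `t u`, linear case -/
theorem six_lin {T U : GL (Fin 4) (ZMod 3)} {v w : Fin 4 → ZMod 3} (hU : U.1 = 1 + vecMulVec v w) (hv : v ≠ 0)
    (hw : w ≠ 0) (hwv : w ⬝ᵥ v = 0) (hc : T.1 * U.1 = U.1 * T.1) (hT2 : ad (T * T) = 1) (hT1 : ad T ≠ 1)
    (hP : PS 2 (ad (T * U))) : False := by
  obtain ⟨l, hll, h1, h2⟩ := eigen hU hv hw hc
  obtain ⟨s, hs⟩ := ad_eq_one_iff.1 hT2
  have hs1 : s = 1 := by
    have h3 : (T * T).1 *ᵥ v = v := by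
      rw [Units.val_mul, ← mulVec_mulVec, h1, mulVec_smul, h1, smul_smul, hll, one_smul]
    rw [hs, smul_mulVec, one_mulVec] at h3
    by_contra hne
    apply hv
    have h4 : (s - 1) • v = 0 := by rw [sub_smul, one_smul, h3, sub_self]
    exact (smul_eq_zero.1 h4).resolve_left (sub_ne_zero.2 hne)
  rw [hs1, one_smul, Units.val_mul] at hs
  have hl0 : l ≠ 0 := by
    rintro rfl
    rw [mul_zero] at hll
    exact zero_ne_one hll
  obtain ⟨T', hadT, hTl⟩ : ∃ T' : GL (Fin 4) (ZMod 3), ad T' = ad T ∧ T'.1 = l • T.1 := by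
    rcases unit3 l hl0 with h | h
    · exact ⟨T, rfl, by rw [h, one_smul]⟩
    · refine ⟨-T, ?_, by rw [h, neg_smul, one_smul, Units.val_neg]⟩
      rw [ad_eq_ad_iff]
      exact ⟨-1, by rw [neg_smul, one_smul, Units.val_neg]⟩
  refine lin_six (T := T') (U := U) hU hv hw hwv ?_ ?_ ?_ ?_ ?_
  · rw [hTl, Matrix.smul_mul, Matrix.mul_smul, smul_smul, hs, hll, one_smul]
  · rw [hTl, smul_mulVec, h1, smul_smul, hll, one_smul]
  · rw [hTl, vecMul_smul, h2, smul_smul, hll, one_smul]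
  · intro h3
    apply hT1
    rw [← hadT, show T' = 1 from Units.ext h3, map_one]
  · rw [map_mul, hadT, ← map_mul]
    exact hP

/-- `t u`, graph case -/
theorem six_gr {B U : GL (Fin 4) (ZMod 3)} {v w : Fin 4 → ZMod 3} (hU : U.1 = 1 + vecMulVec v w) (hv : v ≠ 0)
    (hw : w ≠ 0) (hwv : w ⬝ᵥ v = 0) (hU3 : U.1 ^ 3 = 1) (hc : gr (B * ct U) = gr (U * B)) (hB2 : ad (B * ct B) = 1)
    (hP : PS 2 (gr (B * ct U))) : False := by
  obtain ⟨r, hr⟩ := ad_eq_one_iff.1 hB2
  have hBt : B.1 = r • B.1ᵀ := by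
    calc B.1 = B.1 * ((B⁻¹ : GL (Fin 4) (ZMod 3)).1ᵀ * B.1ᵀ) := by rw [← transpose_mul, gl_inv', transpose_one, mul_one]
      _ = (B * ct B).1 * B.1ᵀ := by rw [← mul_assoc]; rfl
      _ = r • B.1ᵀ := by rw [hr, Matrix.smul_mul, one_mul]
  obtain ⟨s, hs⟩ := gr_eq_gr_iff.1 hc.symm
  have h2 : U.1 * B.1 * U.1ᵀ = s • B.1 := by
    have h3 : (ct U).1 * U.1ᵀ = 1 := by
      rw [ct_val, ← transpose_mul, gl_inv', transpose_one]
    calc U.1 * B.1 * U.1ᵀ = (U * B).1 * U.1ᵀ := by rw [Units.val_mul]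
      _ = s • (B.1 * ((ct U).1 * U.1ᵀ)) := by rw [hs, Units.val_mul, Matrix.smul_mul, mul_assoc]
      _ = s • B.1 := by rw [h3, mul_one]
  have h3 := pow_cong_smul h2 3
  rw [← transpose_pow, hU3, transpose_one, one_mul, mul_one, sc3] at h3
  have h4 : s = 1 := by
    by_contra hne
    apply (B.ne_zero : B.1 ≠ 0)
    have h5 : (1 - s) • B.1 = 0 := by rw [sub_smul, one_smul, ← h3, sub_self]
    exact (smul_eq_zero.1 h5).resolve_left (sub_ne_zero.2 (Ne.symm hne))
  rw [h4, one_smul] at h2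
  exact graph_six hU hv hw hwv hBt h2 hP

/-- **order six** -/
theorem order6 {x : MulAut P4} (hx : orderOf x = 6) (hP : PS 2 x) : False := by
  have h6 : x ^ 6 = 1 := orderOf_dvd_iff_pow_eq_one.1 (dvd_of_eq hx)
  have hu3 : (x ^ 4) ^ 3 = 1 := by
    rw [← pow_mul, show 4 * 3 = 6 * 2 by norm_num, pow_mul, h6, one_pow]
  obtain ⟨U, v, w, hxU, hU, hwv, hU3⟩ := order3 hu3 (PS.pow hP 4)
  have hne4 : x ^ 4 ≠ 1 := by
    intro h
    have h1 := orderOf_dvd_of_pow_eq_one h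
    rw [hx] at h1
    omega
  have hne3 : x ^ 3 ≠ 1 := by
    intro h
    have h1 := orderOf_dvd_of_pow_eq_one h
    rw [hx] at h1
    omega
  have hUne : U.1 ≠ 1 := by
    intro h
    apply hne4
    rw [hxU, show U = 1 from Units.ext h, map_one]
  have hv : v ≠ 0 := by
    rintro rfl
    apply hUne
    rw [hU, zero_vecMulVec, add_zero]
  have hw : w ≠ 0 := by
    rintro rfl
    apply hUne
    rw [hU, vecMulVec_zero, add_zero]
  have hx7 : x = x ^ 3 * x ^ 4 := by
    rw [← pow_add, show 3 + 4 = 6 + 1 by norm_num, pow_add, h6, one_mul, pow_one]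
  have hcomm : x ^ 3 * x ^ 4 = x ^ 4 * x ^ 3 := by rw [← pow_add, ← pow_add]
  rcases two_forms (by norm_num) x with ⟨A, hA⟩ | ⟨A, hA⟩
  · -- linear
    have hT : ad (A ^ 3) = x ^ 3 := by rw [map_pow, hA]
    have h1 : ad (A ^ 3 * U) = ad (U * A ^ 3) := by rw [map_mul, map_mul, hT, ← hxU, hcomm]
    refine six_lin hU hv hw hwv (comm_of_smul hU3 h1) ?_ ?_ ?_
    · rw [map_mul, hT, ← pow_add]
      exact h6
    · rw [hT]
      exact hne3
    · rw [map_mul, hT, ← hxU, ← hx7]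
      exact hP
  · -- graph
    obtain ⟨B, hB⟩ : ∃ B : GL (Fin 4) (ZMod 3), x ^ 3 = gr B := by
      refine ⟨A * ct A * A, ?_⟩
      rw [pow_succ, pow_two, hA, gr_mul_gr, ad_mul_gr]
    refine six_gr (B := B) hU hv hw hwv hU3 ?_ ?_ ?_
    · rw [← gr_mul_ad, ← ad_mul_gr, ← hB, ← hxU, hcomm]
    · rw [← gr_mul_gr, ← hB, ← pow_add]
      exact h6
    · rw [← gr_mul_ad, ← hB, ← hxU, ← hx7]
      exact hP

theorem r69_zmod : R69 P4 := by
  rintro x (hx | hx) hP - -
  · exact order6 hx hP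
  · have h1 := order9 (orderOf_dvd_iff_pow_eq_one.1 (dvd_of_eq hx)) hP
    have h2 := orderOf_dvd_of_pow_eq_one h1
    rw [hx] at h2
    omega

/-- **the row `PSL_4(3)`** -/
theorem r69_psl4 {K : Type*} [Group K] [Finite K] {F : Type} [Field F] [Fintype F] (hF : Fintype.card F = 3)
    (e : Nonempty (K ≃* ProjectiveSpecialLinearGroup (Fin 4) F)) : R69 K :=
  r69_of_zmod r69_zmod hF e

end Cfsg.Agent.H196.SN
end

-- part: H29/SN/PslMain
section
/-!
# `PSL_n(3)`, `n ≥ 5`: the elements of order three, six and nine (S3831, task E1c, helper29)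

* `lrL_ge_five : 5 ≤ n → LrL n`, `lrL : 3 ≤ n → LrL n`;
* `r69_psl : 3 ≤ n → R69 (PSL_n(3))`.
-/

set_option autoImplicit false
set_option linter.unusedSectionVars false

namespace Cfsg.Agent.H29.SN

open Matrix Cfsg.Agent.H459.Rad Cfsg.Agent.H21.SN
open Cfsg.Agent.ClassicalGeometry.AutPSL.Root
open Cfsg.Agent.ClassicalGeometry.AutPSL.Auto
open Cfsg.Agent.ClassicalGeometry.AutPSL.Main

theorem baseA : BaseA := by
  intro B hB
  refine H626.SN.LThree.not_ps_reg ?_ ?_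
  · rw [hB]; decide +kernel
  · rw [hB]; decide +kernel

theorem lift_cj_sl {n : ℕ} (g : _root_.Matrix.SpecialLinearGroup (Fin n) (ZMod 3)) (A : GL (Fin n) (ZMod 3))
    (h : (A : Matrix (Fin n) (Fin n) (ZMod 3)) = (g : Matrix (Fin n) (Fin n) (ZMod 3))) :
    lift (cj A) = MulAut.conj (QuotientGroup.mk g) := by
  have h1 : A = (g : GL (Fin n) (ZMod 3)) := Units.ext h
  rw [h1]
  exact (H196.SN.conj_pr g).symm

theorem baseB : BaseB := by
  intro B hB hP hR
  have h3 : orderOf (lift (cj B)) = 3 := by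
    refine orderOf_eq_prime ?_ ?_
    · rw [← map_pow, ← map_pow]
      refine lift_eq_one_of_scalar (c := 1) ?_
      rw [Units.val_pow_eq_pow_val, hB]
      decide +kernel
    · intro h
      obtain ⟨c, -, hc⟩ := scalar_of_lift_eq_one (by norm_num) h
      rw [hB] at hc
      have : ∀ c : ZMod 3, J22 ≠ c • (1 : Matrix (Fin 4) (Fin 4) (ZMod 3)) := by decide +kernel
      exact this c hc
  obtain ⟨A, v, w, hA, hx⟩ := H196.SN.lrL4 (ZMod 3) (ZMod.card 3) _ h3 hP hR
  rw [← lift_cj_sl A (A : GL (Fin 4) (ZMod 3)) rfl] at hx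
  have h1 : lift (cj ((A : GL (Fin 4) (ZMod 3))⁻¹ * B)) = 1 := by
    rw [map_mul, map_mul, map_inv, map_inv, hx, inv_mul_cancel]
  obtain ⟨c, -, hc⟩ := scalar_of_lift_eq_one (by norm_num) h1
  have h2 : (B : Matrix (Fin 4) (Fin 4) (ZMod 3)) = c • (1 + vecMulVec v w) := by
    have h4 : (B : Matrix (Fin 4) (Fin 4) (ZMod 3)) = (A : GL (Fin 4) (ZMod 3)).1 *
        ((A : GL (Fin 4) (ZMod 3))⁻¹ * B : GL (Fin 4) (ZMod 3)).1 := by
      rw [← Units.val_mul, mul_inv_cancel_left]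
    rw [h4, hc, Matrix.mul_smul, Matrix.mul_one, ← hA]
    rfl
  rw [hB] at h2
  have e1 : (1 : ZMod 3) = c * (0 + v 1 * w 0) := congrFun (congrFun h2 1) 0
  have e2 : (1 : ZMod 3) = c * (0 + v 3 * w 2) := congrFun (congrFun h2 3) 2
  have e3 : (0 : ZMod 3) = c * (0 + v 1 * w 2) := congrFun (congrFun h2 1) 2
  have h5 : (1 : ZMod 3) * 1 = 0 := by
    calc (1 : ZMod 3) * 1 = (c * (0 + v 1 * w 0)) * (c * (0 + v 3 * w 2)) := by rw [← e1, ← e2]
      _ = (c * (0 + v 1 * w 2)) * (c * (0 + v 3 * w 0)) := by ring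
      _ = 0 := by rw [← e3, zero_mul]
  exact absurd h5 (by decide)

/-- **the row `PSL_n(3)`, `n ≥ 5`** -/
theorem r69_psl_ge_five {K : Type} [Group K] [Finite K] {F : Type} [Field F] [Fintype F]
    (hF : Fintype.card F = 3) {n : ℕ} (hn : 5 ≤ n)
    (e : Nonempty (K ≃* ProjectiveSpecialLinearGroup (Fin n) F)) : R69 K :=
  E1c baseA baseB hF hn e

end Cfsg.Agent.H29.SN
end

private theorem dce_16cb7787233e : _root_.True := by
  try have : _root_.True := by simp only [_root_.Cfsg.Agent.H196.SN.J4x.eq_1]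
  try have : _root_.True := by simp only [_root_.Cfsg.Agent.H196.SN.Xmx.eq_1]
  try have : _root_.True := by simp only [_root_.Cfsg.Agent.H196.SN.J31x.eq_1]
  try have : _root_.True := by simp only [_root_.Cfsg.Agent.H196.SN.gr.eq_1]
  try have : _root_.True := by simp only [_root_.Cfsg.Agent.H626.SN.LThree.im.congr_simp]
  try have : _root_.True := by simp only [_root_.Cfsg.Agent.H196.SN.Xpx.eq_1]
  try have : _root_.True := by simp only [_root_.Cfsg.Agent.H626.SN.LThree.cols.eq_1]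
  try have : _root_.True := by simp only [_root_.Cfsg.Agent.H196.SN.mkU.eq_1]
  try have : _root_.True := by simp only [_root_.Cfsg.Agent.H196.SN.cols4.eq_1]
  try have : _root_.True := by simp only [_root_.Cfsg.Agent.H196.SN.Jx.eq_1]
  try have : _root_.True := by simp only [_root_.Cfsg.Agent.H196.SN.J22x.eq_1]
  exact _root_.True.intro
end

-- part: H115/SN/NoSL2
section
set_option linter.all false
open scoped Cfsg.Agent.FastGrp

/-!
# `SL_2(q)` has no sections `L₃(3)`, `U₃(3)`, `PSp₄(3)` (helper115)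
-/

set_option autoImplicit false
set_option linter.unusedSectionVars false
set_option linter.unusedFintypeInType false

namespace Cfsg.Agent.H115.SN

open Subgroup Cfsg Matrix Cfsg.Agent.H21.SN
open Cfsg.Agent.ClassicalGeometry.PSL2Basic Cfsg.Agent.LieClassical.SLTwoUnipotent

/-- the Sylow subgroups in the defining characteristic are abelian -/
theorem sl2_sylow_comm {F : Type*} [Field F] [Fintype F] (p : ℕ) [Fact p.Prime] [CharP F p] :
    IsMulCommutative ↥((upperUnipSylowSL F p : Sylow p (SpecialLinearGroup (Fin 2) F)) :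
      Subgroup (SpecialLinearGroup (Fin 2) F)) := by
  refine ⟨⟨?_⟩⟩
  rintro ⟨A, hA⟩ ⟨B, hB⟩
  apply Subtype.ext
  change A * B = B * A
  have hA' : A ∈ upperUnipSL F := hA
  have hB' : B ∈ upperUnipSL F := hB
  rw [eq_u_of_mem_upperUnipSL hA', eq_u_of_mem_upperUnipSL hB', ← u_add, ← u_add, add_comm]

/-- the Sylow `3`-subgroups of `SL_2(q)` are abelian -/
theorem exists_sylow_comm (K : Type*) [Field K] [Finite K] :
    ∃ P : Sylow 3 (SpecialLinearGroup (Fin 2) K), IsMulCommutative ↥(P : Subgroup (SpecialLinearGroup (Fin 2) K)) := by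
  have := Fintype.ofFinite K
  obtain ⟨p, hp⟩ := CharP.exists K
  have hpp : p.Prime := (CharP.char_is_prime_or_zero K p).resolve_right (CharP.char_ne_zero_of_finite K p)
  have : Fact p.Prime := ⟨hpp⟩
  have : Fact (Nat.Prime 3) := ⟨Nat.prime_three⟩
  by_cases h3 : 3 = p
  · subst h3
    exact ⟨_, sl2_sylow_comm 3⟩
  · obtain ⟨Q⟩ : Nonempty (Sylow 3 (SpecialLinearGroup (Fin 2) K)) := inferInstance
    have hQ : IsCyclic ↥(Q : Subgroup (SpecialLinearGroup (Fin 2) K)) :=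
      S0262.isCyclic_of_isPGroup p 3 (by norm_num) h3 _ Q.isPGroup'
    refine ⟨Q, ⟨⟨fun a b => ?_⟩⟩⟩
    let _ : CommGroup ↥(Q : Subgroup (SpecialLinearGroup (Fin 2) K)) := IsCyclic.commGroup
    exact mul_comm a b

/-- **`SL_2(q)` has no sections `L₃(3)`, `U₃(3)`, `PSp₄(3)`** -/
theorem noS3_sl2 (K : Type*) [Field K] [Finite K] : NoS3 (SpecialLinearGroup (Fin 2) K) :=
  H95.SN.noS3_of_sylow3 (exists_sylow_comm K)

end Cfsg.Agent.H115.SN
end

-- part: H154/SN/UThreeB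
section
prune_inst 0x30507504040010000000051070201c42a6000022004884008ca101400480ac400080086089000113508000050031006811440080424000000e000000011d04810000040000400008820090000000400000000000000000000000000000000000200000000
set_option linter.all false
open scoped Cfsg.Agent.FastGrp

-- part: H154/SN/UThreeA
section
/-!
# `PSU_3(3)` for S3831: elements of order three (helper154)

* `pr_inj`, `cp_inj` : `SU_3(3) = PSU_3(3) ≤ Aut`;
* `lin_or_semi` : automorphisms;
* `lrU3 : LrU 3`.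
-/

set_option autoImplicit false
set_option linter.unusedSectionVars false

namespace Cfsg.Agent.H154.SN

open Matrix Subgroup Module Cfsg Cfsg.Agent.H459.Rad Cfsg.Agent.H21.SN
open Cfsg.Agent.LieClassical.HermBasic Cfsg.Agent.LieClassical.HermSiegel
open Cfsg.Agent.ClassicalGeometry.PSUAutBasic Cfsg.Agent.ClassicalGeometry.HermOrtho
open Cfsg.Agent.ClassicalGeometry.PSUAutCount (toAut gm gm_mul gm_one gm_mul_inv gm_inv_mul semiConj guConj act_guConj
  herm_gm gm_inv_mulVec gm_mulVec_inv herm_map gm_inj act_semiConj herm_semi sc gm_sc_mul toAut_sc_mul eq_of_toAut_eq)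

section Cop

/-- **the coprime triple criterion** -/
theorem not_solvable_coprime {G : Type*} [Group G] {H : Subgroup G} (hs : Group.IsSolvable H) {u v : G} (hu : u ∈ H)
    (hv : v ∈ H) {a b c : ℕ} (h1 : u ^ a = 1) (h2 : v ^ b = 1) (h3 : (u * v) ^ c = 1) (hab : a.Coprime b)
    (hac : a.Coprime c) (hbc : b.Coprime c) : v = 1 := by
  by_contra hne
  set K := _root_.Subgroup.closure ({u, v} : Set G) with hK
  have hKH : K ≤ H := by
    rw [hK, closure_le]
    rintro x (rfl | rfl)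
    · exact hu
    · exact hv
  have hKs : Group.IsSolvable K := Group.isSolvable_of_isSolvable_injective (f := inclusion hKH) (inclusion_injective hKH)
  have huK : u ∈ K := _root_.Subgroup.subset_closure (by simp)
  have hvK : v ∈ K := _root_.Subgroup.subset_closure (by simp)
  let f : K →* Abelianization K := Abelianization.of
  set x := f ⟨u, huK⟩ with hx
  set y := f ⟨v, hvK⟩ with hy
  have e1 : x ^ a = 1 := by
    rw [hx, ← map_pow, ← map_one f]; congr 1; exact Subtype.ext h1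
  have e2 : y ^ b = 1 := by
    rw [hy, ← map_pow, ← map_one f]; congr 1; exact Subtype.ext h2
  have e3 : (x * y) ^ c = 1 := by
    rw [hx, hy, ← map_mul, ← map_pow, ← map_one f]; congr 1; exact Subtype.ext h3
  rw [mul_pow] at e3
  have ex : x = 1 := by
    have e4 : (x ^ c) ^ b = 1 := by
      have : x ^ c = (y ^ c)⁻¹ := eq_inv_of_mul_eq_one_left e3
      rw [this, inv_pow, ← pow_mul, mul_comm, pow_mul, e2, one_pow, inv_one]
    have e5 : orderOf x ∣ 1 := by
      have d1 : orderOf x ∣ a := orderOf_dvd_of_pow_eq_one e1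
      have d2 : orderOf x ∣ c * b := orderOf_dvd_of_pow_eq_one (by rw [pow_mul]; exact e4)
      have : Nat.Coprime a (c * b) := Nat.Coprime.mul_right hac hab
      rw [← this]
      exact Nat.dvd_gcd d1 d2
    exact orderOf_eq_one_iff.1 (Nat.dvd_one.1 e5)
  have ey : y = 1 := by
    rw [ex, one_pow, one_mul] at e3
    have e6 : orderOf y ∣ 1 := by
      rw [← hbc]
      exact Nat.dvd_gcd (orderOf_dvd_of_pow_eq_one e2) (orderOf_dvd_of_pow_eq_one e3)
    exact orderOf_eq_one_iff.1 (Nat.dvd_one.1 e6)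
  have hker : f.ker = ⊤ := by
    have h4 : ∀ z ∈ _root_.Subgroup.closure ({⟨u, huK⟩, ⟨v, hvK⟩} : Set K), f z = 1 := by
      intro z hz
      have h5 : _root_.Subgroup.closure ({⟨u, huK⟩, ⟨v, hvK⟩} : Set K) ≤ f.ker := by
        rw [closure_le]
        rintro w (rfl | rfl)
        · exact ex
        · exact ey
      exact h5 hz
    have h6 : _root_.Subgroup.closure ({⟨u, huK⟩, ⟨v, hvK⟩} : Set K) = ⊤ := by
      have h7 := Subgroup.closure_closure_coe_preimage (k := ({u, v} : Set G))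
      have h8 : ((Subtype.val : K → G) ⁻¹' ({u, v} : Set G)) = ({⟨u, huK⟩, ⟨v, hvK⟩} : Set K) := by
        ext z
        constructor
        · rintro (h | h)
          · exact Or.inl (Subtype.ext h)
          · exact Or.inr (Subtype.ext h)
        · rintro (h | h)
          · exact Or.inl (congrArg Subtype.val h)
          · exact Or.inr (congrArg Subtype.val h)
      rw [← h8]
      exact h7
    rw [eq_top_iff]
    intro z _
    rw [MonoidHom.mem_ker]
    exact h4 z (by rw [h6]; trivial)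
  have hcomm : commutator K = ⊤ := by
    rw [← Abelianization.ker_of]
    exact hker
  have hnt : Nontrivial K := ⟨⟨⟨v, hvK⟩, 1, fun h => hne (congrArg Subtype.val h)⟩⟩
  have : Group.IsPerfect K := ⟨hcomm⟩
  exact Group.IsPerfect.not_isSolvable _ hKs

end Cop

section Basics

variable {F : Type} [Field F] [Fintype F]

theorem charP3 (hF : Fintype.card F = 3 ^ 2) : CharP F 3 := by
  obtain ⟨p, hp⟩ := CharP.exists F
  obtain ⟨n, hprime, hcard⟩ := FiniteField.card F p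
  rw [hF] at hcard
  have h1 : p ∣ 3 ^ 2 := by rw [hcard]; exact dvd_pow_self p n.ne_zero
  have h2 := (Nat.prime_dvd_prime_iff_eq hprime Nat.prime_three).1 (hprime.dvd_of_dvd_pow h1)
  rwa [h2] at hp

theorem three_eq (hF : Fintype.card F = 3 ^ 2) : (3 : F) = 0 := by
  have := charP3 hF
  exact_mod_cast (CharP.cast_eq_zero F 3)

theorem two_ne (hF : Fintype.card F = 3 ^ 2) : (2 : F) ≠ 0 := by
  intro h
  have h3 := three_eq hF
  have : (1 : F) = 0 := by linear_combination h3 - h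
  exact one_ne_zero this

theorem mat_pow {n q : ℕ} (a : SU n F q) (k : ℕ) : mat (a ^ k) = mat a ^ k := by
  induction k with
  | zero => rw [pow_zero, pow_zero, mat_one]
  | succ k ih => rw [pow_succ, mat_mul, ih, pow_succ]

/-- the conjugation by `pr g` -/
theorem conj_eq_toAut {n q : ℕ} (a : SU n F q) :
    (MulAut.conj (pr n F q a) : MulAut (PSU n F q)) = toAut ⟨Matrix.SpecialLinearGroup.toGL a.1, a.2⟩ 1 :=
  (Cfsg.Agent.Schreier.PSU.f₁_eq_conj (⟨Matrix.SpecialLinearGroup.toGL a.1, a.2⟩ : GU n F q) a rfl).symm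

theorem cp_inj (hF : Fintype.card F = 3 ^ 2) {g h : SU 3 F 3}
    (H : (MulAut.conj (pr 3 F 3 g) : MulAut (PSU 3 F 3)) = MulAut.conj (pr 3 F 3 h)) : g = h := by
  rw [conj_eq_toAut, conj_eq_toAut] at H
  obtain ⟨-, c, hc, h1⟩ := eq_of_toAut_eq hF le_rfl H
  have h2 : mat h = c • mat g := h1
  have h3 := congrArg Matrix.det h2
  rw [det_smul, det_mat, det_mat, Fintype.card_fin, mul_one] at h3
  rw [← h3, mul_one] at hc
  rw [hc, one_smul] at h2
  exact (mat_injective h2).symm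

theorem exists_lin (hF : Fintype.card F = 3 ^ 2) (A : GU 3 F 3) :
    ∃ a : SU 3 F 3, (toAut A 1 : MulAut (PSU 3 F 3)) = MulAut.conj (pr 3 F 3 a) := by
  set d := (gm A).det with hd
  have h1 : d ^ (3 + 1) = 1 := ClassicalGeometry.GUBasic.det_pow hF A.2
  have h2 : d * d ^ 3 = 1 := by rw [← pow_succ', h1]
  refine ⟨mkSU (gm (sc 3 ⟨d, h2⟩ * A)) ?_ (fun u v => herm_gm _ u v), ?_⟩
  · rw [gm_sc_mul, det_smul, Fintype.card_fin, ← hd, ← pow_succ, h1]
  · rw [← toAut_sc_mul ⟨d, h2⟩ A 1]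
    exact Cfsg.Agent.Schreier.PSU.f₁_eq_conj _ _ rfl

theorem rho_sq (hF : Fintype.card F = 3 ^ 2) (ρ : F ≃+* F) : ρ * ρ = 1 := by
  have : Fact (Nat.Prime 3) := ⟨Nat.prime_three⟩
  have h1 : Nat.card (F ≃+* F) = 2 := Lib.FieldAutCard.card_ringAut (p := 3) (f := 2) (by norm_num) hF
  have h2 : ρ ^ Nat.card (F ≃+* F) = 1 := pow_card_eq_one'
  rw [h1, pow_two] at h2
  exact h2

/-- **automorphisms of `PSU_3(3)`** -/
theorem lin_or_semi (hF : Fintype.card F = 3 ^ 2) (x : MulAut (PSU 3 F 3)) :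
    (∃ a : SU 3 F 3, x = MulAut.conj (pr 3 F 3 a)) ∨ ∃ (A : GU 3 F 3) (ρ : F ≃+* F), ρ ≠ 1 ∧ x = toAut A ρ := by
  obtain ⟨A, ρ, rfl⟩ := ClassicalGeometry.PSUAutMain.exists_toAut hF le_rfl (by omega) x
  by_cases h : ρ = 1
  · subst h
    exact Or.inl (exists_lin hF A)
  · exact Or.inr ⟨A, ρ, h, rfl⟩

/-- automorphisms of odd order are inner -/
theorem lin_of_odd (hF : Fintype.card F = 3 ^ 2) {x : MulAut (PSU 3 F 3)} {k : ℕ} (hk : Odd k) (hx : x ^ k = 1) :
    ∃ a : SU 3 F 3, x = MulAut.conj (pr 3 F 3 a) ∧ a ^ k = 1 := by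
  obtain ⟨a, rfl⟩ : ∃ a : SU 3 F 3, x = MulAut.conj (pr 3 F 3 a) := by
    rcases lin_or_semi hF x with h | ⟨A, ρ, hρ, rfl⟩
    · exact h
    · exfalso
      obtain ⟨h1, -⟩ := CpAutU.Desc.exists_scalar hF le_rfl hx
      obtain ⟨j, rfl⟩ := hk
      rw [pow_succ, pow_mul, pow_two, rho_sq hF, one_pow, one_mul] at h1
      exact hρ h1
  refine ⟨a, rfl, cp_inj hF ?_⟩
  rw [map_pow, map_pow, hx, map_one, map_one]

theorem pow_three_eq_zero {N : Matrix (Fin 3) (Fin 3) F} (h : IsNilpotent N) : N ^ 3 = 0 := by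
  have h1 := Matrix.isNilpotent_charpoly_sub_pow_of_isNilpotent h
  have h2 : N.charpoly = Polynomial.X ^ 3 := by
    have h3 := sub_eq_zero.1 h1.eq_zero
    simpa using h3
  have h4 := Matrix.aeval_self_charpoly N
  rw [h2] at h4
  simpa only [_root_.map_pow, _root_.Polynomial.aeval_X] using h4

/-- `3`-elements of `SU_3(3)` -/
theorem nil_of_pow (hF : Fintype.card F = 3 ^ 2) {a : SU 3 F 3} {k : ℕ} (ha : a ^ 3 ^ k = 1) : (mat a - 1) ^ 3 = 0 := by
  have := charP3 hF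
  have : Fact (Nat.Prime 3) := ⟨Nat.prime_three⟩
  have : CharP (Matrix (Fin 3) (Fin 3) F) 3 := inferInstance
  apply pow_three_eq_zero
  refine ⟨3 ^ k, ?_⟩
  rw [sub_pow_char_pow_of_commute 3 k (Commute.one_right _), one_pow, ← mat_pow, ha, mat_one, sub_self]

theorem pow_of_nil (hF : Fintype.card F = 3 ^ 2) {a : SU 3 F 3} (ha : (mat a - 1) ^ 3 = 0) : a ^ 3 = 1 := by
  have := charP3 hF
  have : Fact (Nat.Prime 3) := ⟨Nat.prime_three⟩
  have : CharP (Matrix (Fin 3) (Fin 3) F) 3 := inferInstance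
  apply mat_injective
  rw [sub_pow_char_of_commute 3 (Commute.one_right _), one_pow, sub_eq_zero] at ha
  rw [mat_pow, ha, mat_one]

theorem exists_rank_one {N : Matrix (Fin 3) (Fin 3) F} (h : N * N = 0) : ∃ v f : Fin 3 → F, N = vecMulVec v f := by
  have h1 : LinearMap.range (Matrix.toLin' N) ≤ LinearMap.ker (Matrix.toLin' N) := by
    rintro _ ⟨v, rfl⟩
    rw [LinearMap.mem_ker, ← LinearMap.comp_apply, ← Matrix.toLin'_mul, h, map_zero, LinearMap.zero_apply]
  have h2 := LinearMap.finrank_range_add_finrank_ker (Matrix.toLin' N)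
  have h3 := Submodule.finrank_mono h1
  have h4 : Module.finrank F (Fin 3 → F) = 3 := by simp
  rw [h4] at h2
  have h5 : Module.finrank F (LinearMap.range (Matrix.toLin' N)) ≤ 1 := by omega
  obtain ⟨v, hv⟩ := finrank_le_one_iff.1 h5
  choose c hc using fun j : Fin 3 => hv ⟨Matrix.toLin' N (Pi.single j 1), ⟨_, rfl⟩⟩
  refine ⟨v, c, ?_⟩
  ext i j
  have h6 := congrArg (fun w : LinearMap.range (Matrix.toLin' N) => (w : Fin 3 → F) i) (hc j)
  have h7 : c j * (v : Fin 3 → F) i = N i j := by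
    have h8 : (Matrix.toLin' N (Pi.single j 1)) i = N i j := by
      rw [Matrix.toLin'_apply, Matrix.mulVec_single_one]
      rfl
    rw [← h8]
    exact h6
  rw [vecMulVec_apply, ← h7, mul_comm]

/-- `N³ = 0`, `N² ≠ 0` : rank two -/
theorem rank_two {N : Matrix (Fin 3) (Fin 3) F} (h3 : N ^ 3 = 0) (h2 : N ^ 2 ≠ 0) : N.rank = 2 := by
  have hle : N.rank ≤ 2 := by
    by_contra hcon
    have h4 : N.rank ≤ 3 := by simpa using N.rank_le_card_width
    have h5 : N.rank = 3 := by omega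
    have h6 : LinearMap.range (Matrix.mulVecLin N) = ⊤ := by
      apply Submodule.eq_top_of_finrank_eq
      rw [Module.finrank_fin_fun]
      exact h5
    have h7 : Function.Surjective (Matrix.mulVecLin N) := LinearMap.range_eq_top.1 h6
    obtain ⟨x, hx⟩ := h7 (fun _ => 1)
    obtain ⟨y, rfl⟩ := h7 x
    obtain ⟨z, rfl⟩ := h7 y
    have h8 : N ^ 3 *ᵥ z = fun _ => 1 := by
      rw [← hx, pow_succ, pow_two, ← mulVec_mulVec, ← mulVec_mulVec]
      rfl
    rw [h3, zero_mulVec] at h8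
    exact zero_ne_one (congrFun h8 0)
  have hge : ¬ N.rank ≤ 1 := by
    intro hcon
    have h5 : Module.finrank F (LinearMap.range (Matrix.mulVecLin N)) ≤ 1 := hcon
    obtain ⟨v, hv⟩ := finrank_le_one_iff.1 h5
    -- `N x = c(x) v`, `N v = d v`, `d³ = 0`
    obtain ⟨d, hd⟩ := hv ⟨Matrix.mulVecLin N v, ⟨_, rfl⟩⟩
    have hd' : N *ᵥ (v : Fin 3 → F) = d • (v : Fin 3 → F) := (congrArg Subtype.val hd).symm
    by_cases hv0 : (v : Fin 3 → F) = 0
    · apply h2
      apply Matrix.ext_of_mulVec_single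
      intro i
      obtain ⟨c, hc⟩ := hv ⟨Matrix.mulVecLin N (Pi.single i 1), ⟨_, rfl⟩⟩
      have hc' : N *ᵥ (Pi.single i 1 : Fin 3 → F) = c • (v : Fin 3 → F) := (congrArg Subtype.val hc).symm
      rw [pow_two, ← mulVec_mulVec, hc', hv0, smul_zero, mulVec_zero, zero_mulVec]
    · have hd0 : d = 0 := by
        have h6 : N ^ 3 *ᵥ (v : Fin 3 → F) = (d * (d * d)) • (v : Fin 3 → F) := by
          rw [pow_succ, pow_two, ← mulVec_mulVec, ← mulVec_mulVec, hd', mulVec_smul, mulVec_smul, hd', mulVec_smul, hd',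
            smul_smul, smul_smul, mul_assoc]
        rw [h3, zero_mulVec] at h6
        have h7 := (smul_eq_zero.1 h6.symm).resolve_right hv0
        simpa using h7
      apply h2
      apply Matrix.ext_of_mulVec_single
      intro i
      obtain ⟨c, hc⟩ := hv ⟨Matrix.mulVecLin N (Pi.single i 1), ⟨_, rfl⟩⟩
      have hc' : N *ᵥ (Pi.single i 1 : Fin 3 → F) = c • (v : Fin 3 → F) := (congrArg Subtype.val hc).symm
      rw [pow_two, ← mulVec_mulVec, hc', mulVec_smul, hd', hd0, zero_smul, smul_zero, zero_mulVec]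
  omega

end Basics

section Lr

variable {F : Type} [Field F] [Fintype F]

/-- regular unipotent elements -/
theorem reg_false (hF : Fintype.card F = 3 ^ 2) {a : SU 3 F 3} (h3 : (mat a - 1) ^ 3 = 0) (h2 : (mat a - 1) ^ 2 ≠ 0)
    (hP : PS 2 (MulAut.conj (pr 3 F 3 a))) : False := by
  obtain ⟨u, g, hu, hcl⟩ := S2283.exists_two 3 le_rfl hF
  have ha : H186.IsReg (mat a) := ⟨h3, rank_two h3 h2⟩
  obtain ⟨y, hy, hyv⟩ := H186.IsReg.exists_conj hF (by norm_num) ha hu (H108.Model.st_mat hF a) (H108.Model.st_mat hF u)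
  have hyiso := H108.Model.isometry_of_st hF hy
  obtain ⟨Y, hY, hYy⟩ := exists_GU_of_isometry hF hyiso
  set Y' : GU 3 F 3 := ⟨Y, hY⟩ with hY'
  have hgY : gm Y' = y := hYy
  have h4 : guConj Y' a = u := by
    apply ext_act
    intro x
    rw [act_guConj, act_def, hgY, mulVec_mulVec, hyv, ← mulVec_mulVec, ← hgY, gm_mulVec_inv]
    rfl
  have h5 : H459.Rad.tr (toAut Y' 1 : MulAut (PSU 3 F 3)) (MulAut.conj (pr 3 F 3 a)) = MulAut.conj (pr 3 F 3 u) := by
    ext z
    rw [tr_apply, MulAut.conj_apply, MulAut.conj_apply, map_mul, map_mul, map_inv, MulEquiv.apply_symm_apply]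
    have h6 : (toAut Y' 1 : MulAut (PSU 3 F 3)) (pr 3 F 3 a) = pr 3 F 3 u := by
      rw [← h4]
      rfl
    rw [h6]
  have h6 : PS 2 (MulAut.conj (pr 3 F 3 u) : MulAut (PSU 3 F 3)) := by
    rw [← h5]
    exact hP.tr _
  have h7 := h6 ![1, pr 3 F 3 g]
  have h8 : _root_.Subgroup.closure (Set.range fun i => MulAut.conj ((![1, pr 3 F 3 g] : Fin 2 → PSU 3 F 3) i) *
      MulAut.conj (pr 3 F 3 u) * (MulAut.conj ((![1, pr 3 F 3 g] : Fin 2 → PSU 3 F 3) i))⁻¹) =
      (⊤ : Subgroup (SU 3 F 3)).map ((MulAut.conj : PSU 3 F 3 →* MulAut (PSU 3 F 3)).comp (pr 3 F 3)) := by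
    rw [← hcl, MonoidHom.map_closure]
    congr 1
    ext z
    constructor
    · rintro ⟨i, rfl⟩
      fin_cases i
      · refine ⟨u, Or.inl rfl, ?_⟩
        simp only [_root_.MonoidHom.coe_comp, _root_.Function.comp_apply, _root_.Nat.succ_eq_add_one, _root_.Nat.reduceAdd, _root_.Fin.zero_eta, _root_.Fin.isValue, _root_.Matrix.cons_val_zero, _root_.map_one, _root_.one_mul, _root_.inv_one, _root_.mul_one]
      · refine ⟨g * u * g⁻¹, Or.inr rfl, ?_⟩
        simp only [_root_.MonoidHom.coe_comp, _root_.Function.comp_apply, _root_.map_mul, _root_.map_inv, _root_.Nat.succ_eq_add_one, _root_.Nat.reduceAdd, _root_.Fin.mk_one, _root_.Fin.isValue, _root_.Matrix.cons_val_one, _root_.Matrix.cons_val_fin_one]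
    · rintro ⟨w, rfl | rfl, rfl⟩
      · exact ⟨0, by simp only [_root_.Fin.isValue, _root_.Matrix.cons_val_zero, _root_.map_one, _root_.one_mul, _root_.inv_one, _root_.mul_one, _root_.MonoidHom.coe_comp, _root_.Function.comp_apply]⟩
      · exact ⟨1, by simp only [_root_.Fin.isValue, _root_.Matrix.cons_val_one, _root_.Matrix.cons_val_fin_one, _root_.MonoidHom.coe_comp, _root_.Function.comp_apply, _root_.map_mul, _root_.map_inv]⟩
  rw [h8] at h7
  have hq : IsQuasisimple (SU 3 F 3) := GenPsu.quasi hF (by norm_num) (by norm_num)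
  apply Cfsg.Agent.SignalizersComponents.Components.quasisimple_not_isSolvable hq
  refine Group.isSolvable_of_isSolvable_injective
    (f := (((MulAut.conj : PSU 3 F 3 →* MulAut (PSU 3 F 3)).comp (pr 3 F 3)).codRestrict
      ((⊤ : Subgroup (SU 3 F 3)).map ((MulAut.conj : PSU 3 F 3 →* MulAut (PSU 3 F 3)).comp (pr 3 F 3)))
      fun g => ⟨g, trivial, rfl⟩)) ?_
  intro g h hgh
  exact cp_inj hF (congrArg Subtype.val hgh)

/-- **Elements of order three of `Aut (PSU_3(3))`, any two conjugates generate a solvable group.** -/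
theorem transv_of_ps (hF : Fintype.card F = 3 ^ 2) {x : MulAut (PSU 3 F 3)} (hx : x ^ 3 = 1) (hP : PS 2 x) :
    ∃ (A : ↥(SU 3 F 3)) (v w : Fin 3 → F), mat A = 1 + vecMulVec v w ∧ x = MulAut.conj (pr 3 F 3 A) := by
  obtain ⟨a, rfl, ha⟩ := lin_of_odd hF (by decide) hx
  have h3 := nil_of_pow hF (k := 1) (by rwa [pow_one])
  by_cases h2 : (mat a - 1) ^ 2 = 0
  · rw [pow_two] at h2
    obtain ⟨v, w, h⟩ := exists_rank_one h2
    exact ⟨a, v, w, by rw [← h]; abel, rfl⟩
  · exact (reg_false hF h3 h2 hP).elim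

theorem lrU3 : LrU 3 := by
  intro F _ _ hF x hx hP _
  exact transv_of_ps hF (orderOf_dvd_iff_pow_eq_one.1 (by rw [hx])) hP

end Lr

end Cfsg.Agent.H154.SN
end

-- part: H154/SN/UThreeM
section
/-!
# `PSU_3(3)` for S3831: the matrices (helper154)
-/

set_option autoImplicit false
set_option linter.unusedSectionVars false
set_option linter.unnecessarySeqFocus false

namespace Cfsg.Agent.H154.SN.UM

open Matrix

variable {F : Type*} [Field F]

def S0 (i : F) : Matrix (Fin 3) (Fin 3) F := !![-1, 0, -i; 0, 1, 0; 0, 0, -1]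
def S1 (i : F) : Matrix (Fin 3) (Fin 3) F := !![-1, 0, i; 0, 1, 0; 0, 0, -1]
def HH (F : Type*) [Field F] : Matrix (Fin 3) (Fin 3) F := !![0, 0, 1; 0, -1, 1; 1, 1, 1]
def H1 (F : Type*) [Field F] : Matrix (Fin 3) (Fin 3) F := !![1, 1, 1; 1, -1, 0; 1, 0, 0]
def B0 (i : F) : Matrix (Fin 3) (Fin 3) F := !![-1, 0, 0; 1, 1, 0; -1 - i, 1, -1]
def C1 (i : F) : Matrix (Fin 3) (Fin 3) F := !![-1 - i, i, -i; 1, 1, 0; 1 + i, -1, 1]
def C2 (i : F) : Matrix (Fin 3) (Fin 3) F := !![1 - i, 1 + i, -1; -i, 1 + i, -i; -i, i, -1 - i]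
def C3 (i : F) : Matrix (Fin 3) (Fin 3) F := !![1, -i, 1 - i; 1 + i, -1 - i, -1 - i; -1, -1 - i, 1 - i]
def C6 (i : F) : Matrix (Fin 3) (Fin 3) F := !![1, 0, i; -1, 1, -i; 1 - i, 1, -1 + i]
def D1 (i : F) : Matrix (Fin 3) (Fin 3) F := !![1, 0, 0; 0, 1, 0; -i, 0, 1]
def E1 (i : F) : Matrix (Fin 3) (Fin 3) F := !![1 - i, i, -i; 1, 1, 0; 1, -1, 1]
def E2 (i : F) : Matrix (Fin 3) (Fin 3) F := !![i, 1, -1 + i; -1 - i, 1 + i, -i; 1 - i, 1 + i, 1 - i]
def E4 (i : F) : Matrix (Fin 3) (Fin 3) F := !![1 + i, -1 - i, -1; -i, 0, -1 + i; 1, i, 1 - i]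

variable {i : F} (hi : i * i = -1) (h3 : (3 : F) = 0)

include hi h3

theorem hs : S1 i * S0 i = 1 := by
  ext a b
  (revert a b; simp only [S0, S1, Matrix.mul_apply, Fin.sum_univ_three, _root_.Fin.forall_fin_succ, _root_.Matrix.of_apply, _root_.Matrix.cons_val', _root_.Matrix.cons_val_fin_one, Fin.isValue, _root_.Matrix.cons_val_zero, _root_.Matrix.cons_val_one, _root_.Matrix.cons_val, _root_.mul_neg, _root_.mul_one, _root_.MulZeroClass.mul_zero, _root_.add_zero, _root_.Matrix.cons_val_succ, _root_.zero_add, _root_.IsEmpty.forall_iff, _root_.and_true, _root_.neg_neg, _root_.Matrix.one_apply_eq, Nat.reduceAdd, _root_.Fin.succ_zero_eq_one, _root_.ne_eq, _root_.zero_ne_one, _root_.not_false_eq_true, _root_.Matrix.one_apply_ne, _root_.neg_mul, _root_.one_mul, _root_.add_neg_cancel, _root_.Fin.succ_one_eq_two, Fin.reduceEq, _root_.and_self, _root_.Fin.succ_ne_zero, _root_.neg_eq_zero, _root_.MulZeroClass.zero_mul, _root_.neg_zero,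 _root_.true_and]) 

attribute [-instance] instNoNatZeroDivisorsOfIsAddTorsionFree instIsCharPOfIsLeftCancelAddOfCharP in
theorem hh : HH F * H1 F = 1 := by
  ext a b
  (revert a b; simp only [HH, H1, Matrix.mul_apply, Fin.sum_univ_three, _root_.Fin.forall_fin_succ, _root_.Matrix.of_apply, _root_.Matrix.cons_val', _root_.Matrix.cons_val_fin_one, Fin.isValue, _root_.Matrix.cons_val_zero, _root_.Matrix.cons_val_one, _root_.Matrix.cons_val, _root_.mul_one, _root_.Matrix.cons_val_succ, _root_.mul_neg, _root_.MulZeroClass.mul_zero, _root_.add_zero, _root_.IsEmpty.forall_iff, _root_.and_true, _root_.zero_add, _root_.Matrix.one_apply_eq, _root_.neg_zero, Nat.reduceAdd, _root_.Fin.succ_zero_eq_one, _root_.ne_eq, _root_.zero_ne_one, _root_.not_false_eq_true, _root_.Matrix.one_apply_ne, _root_.Fin.succ_one_eq_two, Fin.reduceEq, _root_.and_self, _root_.Fin.succ_ne_zero, _root_.neg_add_cancel, _root_.neg_neg, _root_.add_neg_cancel, _root_.true_and])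 <;> grobner

attribute [-instance] instNoNatZeroDivisorsOfIsAddTorsionFree instIsCharPOfIsLeftCancelAddOfCharP in
theorem hh' : H1 F * HH F = 1 := by
  ext a b
  (revert a b; simp only [HH, H1, Matrix.mul_apply, Fin.sum_univ_three, _root_.Fin.forall_fin_succ, _root_.Matrix.of_apply, _root_.Matrix.cons_val', _root_.Matrix.cons_val_fin_one, Fin.isValue, _root_.Matrix.cons_val_zero, _root_.Matrix.cons_val_one, _root_.Matrix.cons_val, _root_.MulZeroClass.mul_zero, _root_.add_zero, _root_.mul_one, _root_.zero_add, _root_.Matrix.cons_val_succ, _root_.mul_neg, _root_.IsEmpty.forall_iff, _root_.and_true, _root_.Matrix.one_apply_eq, _root_.neg_add_cancel, Nat.reduceAdd, _root_.Fin.succ_zero_eq_one, _root_.ne_eq, _root_.zero_ne_one, _root_.not_false_eq_true, _root_.Matrix.one_apply_ne, _root_.Fin.succ_one_eq_two, Fin.reduceEq, _root_.true_and, _root_.Fin.succ_ne_zero, _root_.neg_neg, _root_.add_neg_cancel, _root_.and_self, _root_.neg_zero])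 <;> grobner

attribute [-instance] instNoNatZeroDivisorsOfIsAddTorsionFree instIsCharPOfIsLeftCancelAddOfCharP in
theorem hb : HH F * S0 i * H1 F = B0 i := by
  ext a b
  (revert a b; simp only [HH, H1, S0, B0, Matrix.mul_apply, Fin.sum_univ_three, _root_.Fin.forall_fin_succ, _root_.Matrix.cons_mul, _root_.Nat.succ_eq_add_one, Nat.reduceAdd, _root_.Matrix.vecMul_cons, _root_.Matrix.head_cons, _root_.zero_smul, _root_.Matrix.tail_cons, _root_.one_smul, _root_.Matrix.empty_vecMul, _root_.add_zero, _root_.zero_add, _root_.neg_smul, _root_.Matrix.neg_cons, _root_.neg_zero, _root_.Matrix.neg_empty, _root_.Matrix.add_cons, _root_.Matrix.empty_add_empty, _root_.Matrix.empty_mul, _root_.Equiv.symm_apply_apply, _root_.Matrix.of_apply, _root_.Matrix.cons_val', _root_.Matrix.cons_val_fin_one, Fin.isValue, _root_.Matrix.cons_val_zero, _root_.Matrix.cons_val_one, _root_.Matrix.cons_val, _root_.mul_one, _root_.Matrix.cons_val_succ, _root_.mul_neg,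 _root_.MulZeroClass.mul_zero, _root_.implies_true, _root_.and_true, _root_.and_self, _root_.neg_neg, _root_.neg_add_cancel, _root_.forall_const, _root_.true_and]) <;> grind

attribute [-instance] instNoNatZeroDivisorsOfIsAddTorsionFree instIsCharPOfIsLeftCancelAddOfCharP in
theorem c1 : S1 i * B0 i = C1 i := by
  ext a b
  (revert a b; simp only [S1, B0, C1, Matrix.mul_apply, Fin.sum_univ_three, _root_.Fin.forall_fin_succ, _root_.Matrix.of_apply, _root_.Matrix.cons_val', _root_.Matrix.cons_val_fin_one, Fin.isValue, _root_.Matrix.cons_val_zero, _root_.Matrix.cons_val_one, _root_.Matrix.cons_val, _root_.mul_neg, _root_.mul_one, _root_.Matrix.cons_val_succ, _root_.MulZeroClass.mul_zero, _root_.zero_add, _root_.add_zero, _root_.forall_const, _root_.neg_neg, _root_.and_self, _root_.and_true, _root_.neg_zero, _root_.MulZeroClass.zero_mul, _root_.neg_mul, _root_.one_mul, _root_.neg_sub, _root_.sub_neg_eq_add, _root_.true_and]) <;> grobner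

attribute [-instance] instNoNatZeroDivisorsOfIsAddTorsionFree instIsCharPOfIsLeftCancelAddOfCharP in
theorem c2 : C1 i * C1 i = C2 i := by
  ext a b
  (revert a b; simp only [C1, C2, Matrix.mul_apply, Fin.sum_univ_three, _root_.Fin.forall_fin_succ, _root_.Matrix.of_apply, _root_.Matrix.cons_val', _root_.Matrix.cons_val_fin_one, Fin.isValue, _root_.Matrix.cons_val_zero, _root_.Matrix.cons_val_one, _root_.Matrix.cons_val, _root_.mul_one, _root_.Matrix.cons_val_succ, _root_.mul_neg, _root_.MulZeroClass.mul_zero, _root_.add_zero, _root_.forall_const, _root_.neg_mul, _root_.neg_neg, _root_.add_left_inj, _root_.one_mul, _root_.MulZeroClass.zero_mul, _root_.neg_zero, _root_.and_true, _root_.add_neg_add_add_cancel]) <;> grind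

attribute [-instance] instNoNatZeroDivisorsOfIsAddTorsionFree instIsCharPOfIsLeftCancelAddOfCharP in
theorem c3 : C2 i * C1 i = C3 i := by
  ext a b
  (revert a b; simp only [C1, C2, C3, Matrix.mul_apply, Fin.sum_univ_three, _root_.Fin.forall_fin_succ, _root_.Matrix.of_apply, _root_.Matrix.cons_val', _root_.Matrix.cons_val_fin_one, Fin.isValue, _root_.Matrix.cons_val_zero, _root_.Matrix.cons_val_one, _root_.Matrix.cons_val, _root_.mul_one, _root_.Matrix.cons_val_succ, _root_.mul_neg, _root_.MulZeroClass.mul_zero, _root_.add_zero, _root_.forall_const, _root_.neg_mul, _root_.one_mul, _root_.neg_add_rev, _root_.neg_neg, _root_.neg_sub, _root_.sub_neg_eq_add]) <;> grind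

attribute [-instance] instNoNatZeroDivisorsOfIsAddTorsionFree instIsCharPOfIsLeftCancelAddOfCharP in
theorem c6 : C3 i * C3 i = C6 i := by
  ext a b
  (revert a b; simp only [C3, C6, Matrix.mul_apply, Fin.sum_univ_three, _root_.Fin.forall_fin_succ, _root_.Matrix.of_apply, _root_.Matrix.cons_val', _root_.Matrix.cons_val_fin_one, Fin.isValue, _root_.Matrix.cons_val_zero, _root_.Matrix.cons_val_one, _root_.Matrix.cons_val, _root_.mul_one, _root_.mul_neg, _root_.Matrix.cons_val_succ, _root_.forall_const, _root_.neg_mul, _root_.neg_sub, _root_.one_mul, _root_.sub_neg_eq_add, _root_.neg_neg]) <;> grind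

attribute [-instance] instNoNatZeroDivisorsOfIsAddTorsionFree instIsCharPOfIsLeftCancelAddOfCharP in
theorem c7 : C6 i * C1 i = 1 := by
  ext a b
  (revert a b; simp only [C6, C1, Matrix.mul_apply, Fin.sum_univ_three, _root_.Fin.forall_fin_succ, _root_.Matrix.of_apply, _root_.Matrix.cons_val', _root_.Matrix.cons_val_fin_one, Fin.isValue, _root_.Matrix.cons_val_zero, _root_.Matrix.cons_val_one, _root_.Matrix.cons_val, _root_.mul_one, _root_.Matrix.cons_val_succ, _root_.mul_neg, _root_.MulZeroClass.mul_zero, _root_.add_zero, _root_.IsEmpty.forall_iff, _root_.and_true, _root_.one_mul, _root_.Matrix.one_apply_eq, _root_.add_neg_cancel, Nat.reduceAdd, _root_.Fin.succ_zero_eq_one, _root_.ne_eq, _root_.zero_ne_one, _root_.not_false_eq_true, _root_.Matrix.one_apply_ne, _root_.neg_add_cancel, _root_.Fin.succ_one_eq_two, Fin.reduceEq, _root_.and_self, _root_.Fin.succ_ne_zero, _root_.neg_mul, _root_.neg_sub, _root_.sub_neg_eq_add, _root_.neg_neg,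 _root_.neg_add_cancel_comm, _root_.neg_add_rev]) <;> grind

attribute [-instance] instNoNatZeroDivisorsOfIsAddTorsionFree instIsCharPOfIsLeftCancelAddOfCharP in
theorem d1 : B0 i * B0 i = D1 i := by
  ext a b
  (revert a b; simp only [B0, D1, Matrix.mul_apply, Fin.sum_univ_three, _root_.Fin.forall_fin_succ, _root_.Matrix.of_apply, _root_.Matrix.cons_val', _root_.Matrix.cons_val_fin_one, Fin.isValue, _root_.Matrix.cons_val_zero, _root_.Matrix.cons_val_one, _root_.Matrix.cons_val, _root_.mul_neg, _root_.mul_one, _root_.Matrix.cons_val_succ, _root_.MulZeroClass.mul_zero, _root_.zero_add, _root_.add_zero, _root_.forall_const, _root_.neg_neg, _root_.MulZeroClass.zero_mul, _root_.neg_zero, _root_.and_self, _root_.neg_add_cancel, _root_.neg_sub, _root_.sub_neg_eq_add, _root_.neg_mul, _root_.one_mul, _root_.add_neg_cancel, _root_.and_true, _root_.true_and]) <;> grobner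

attribute [-instance] instNoNatZeroDivisorsOfIsAddTorsionFree instIsCharPOfIsLeftCancelAddOfCharP in
theorem e1 : C1 i * D1 i = E1 i := by
  ext a b
  (revert a b; simp only [C1, D1, E1, Matrix.mul_apply, Fin.sum_univ_three, _root_.Fin.forall_fin_succ, _root_.Matrix.of_apply, _root_.Matrix.cons_val', _root_.Matrix.cons_val_fin_one, Fin.isValue, _root_.Matrix.cons_val_zero, _root_.Matrix.cons_val_one, _root_.Matrix.cons_val, _root_.mul_one, _root_.MulZeroClass.mul_zero, _root_.add_zero, _root_.mul_neg, _root_.Matrix.cons_val_succ, _root_.zero_add, _root_.implies_true, _root_.and_self, _root_.and_true, _root_.neg_mul, _root_.neg_neg, _root_.MulZeroClass.zero_mul, _root_.neg_zero, _root_.one_mul, _root_.add_neg_cancel_right]) <;> grobner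

attribute [-instance] instNoNatZeroDivisorsOfIsAddTorsionFree instIsCharPOfIsLeftCancelAddOfCharP in
theorem e2 : E1 i * E1 i = E2 i := by
  ext a b
  (revert a b; simp only [E1, E2, Matrix.mul_apply, Fin.sum_univ_three, _root_.Fin.forall_fin_succ, _root_.Matrix.of_apply, _root_.Matrix.cons_val', _root_.Matrix.cons_val_fin_one, Fin.isValue, _root_.Matrix.cons_val_zero, _root_.Matrix.cons_val_one, _root_.Matrix.cons_val, _root_.mul_one, _root_.Matrix.cons_val_succ, _root_.mul_neg, _root_.MulZeroClass.mul_zero, _root_.add_zero, _root_.forall_const, _root_.add_neg_cancel_right, _root_.neg_neg, _root_.one_mul, _root_.neg_zero, _root_.and_true, _root_.neg_add_cancel_right, _root_.true_and]) <;> grind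

attribute [-instance] instNoNatZeroDivisorsOfIsAddTorsionFree instIsCharPOfIsLeftCancelAddOfCharP in
theorem e4 : E2 i * E2 i = E4 i := by
  ext a b
  (revert a b; simp only [E2, E4, Matrix.mul_apply, Fin.sum_univ_three, _root_.Fin.forall_fin_succ, _root_.Matrix.of_apply, _root_.Matrix.cons_val', _root_.Matrix.cons_val_fin_one, Fin.isValue, _root_.Matrix.cons_val_zero, _root_.Matrix.cons_val_one, _root_.Matrix.cons_val, _root_.Matrix.cons_val_succ, _root_.mul_one, _root_.mul_neg, _root_.forall_const, _root_.one_mul, _root_.neg_mul]) <;> grind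

attribute [-instance] instNoNatZeroDivisorsOfIsAddTorsionFree instIsCharPOfIsLeftCancelAddOfCharP in
theorem e8 : E4 i * E4 i = 1 := by
  ext a b
  (revert a b; simp only [E4, Matrix.mul_apply, Fin.sum_univ_three, _root_.Fin.forall_fin_succ, _root_.Matrix.of_apply, _root_.Matrix.cons_val', _root_.Matrix.cons_val_fin_one, Fin.isValue, _root_.Matrix.cons_val_zero, _root_.Matrix.cons_val_one, _root_.Matrix.cons_val, _root_.mul_neg, _root_.mul_one, _root_.Matrix.cons_val_succ, _root_.MulZeroClass.mul_zero, _root_.add_zero, _root_.IsEmpty.forall_iff, _root_.and_true, _root_.Matrix.one_apply_eq, _root_.neg_mul, _root_.one_mul, Nat.reduceAdd, _root_.Fin.succ_zero_eq_one, _root_.ne_eq, _root_.zero_ne_one, _root_.not_false_eq_true, _root_.Matrix.one_apply_ne, _root_.neg_add_rev, _root_.neg_sub, _root_.Fin.succ_one_eq_two, Fin.reduceEq, _root_.Fin.succ_ne_zero, _root_.MulZeroClass.zero_mul, _root_.neg_zero, _root_.neg_neg]) <;> grind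

theorem c_pow : C1 i ^ 7 = 1 := by
  have : C1 i ^ 7 = ((C1 i * C1 i) * C1 i) * ((C1 i * C1 i) * C1 i) * C1 i := by noncomm_ring
  rw [this, c2 hi h3, c3 hi h3, c6 hi h3, c7 hi h3]

theorem e_pow : E1 i ^ 8 = 1 := by
  have : E1 i ^ 8 = ((E1 i * E1 i) * (E1 i * E1 i)) * ((E1 i * E1 i) * (E1 i * E1 i)) := by noncomm_ring
  rw [this, e2 hi h3, e4 hi h3, e8 hi h3]

omit hi h3 in
theorem det_HH : (HH F).det = 1 := by
  rw [HH, det_fin_three]
  simp

end Cfsg.Agent.H154.SN.UM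
end

-- part: H154/SN/UThreeB
section
/-!
# `PSU_3(3)` for S3831: elements of order six and nine (helper154)

* `tv_form` : unitary transvections;
* `six_lin`, `six_semi`, `nine`;
* `r69_u3 : R69 (PSU 3 F 3)`, `r69_psu33`.
-/

set_option autoImplicit false
set_option linter.unusedSectionVars false

namespace Cfsg.Agent.H154.SN

open Matrix Subgroup Module Cfsg Cfsg.Agent.H459.Rad Cfsg.Agent.H21.SN
open Cfsg.Agent.LieClassical.HermBasic Cfsg.Agent.LieClassical.HermSiegel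
open Cfsg.Agent.ClassicalGeometry.PSUAutBasic Cfsg.Agent.ClassicalGeometry.HermOrtho
open Cfsg.Agent.ClassicalGeometry.PSUAutCount (toAut gm gm_mul gm_one gm_mul_inv gm_inv_mul semiConj guConj act_guConj
  herm_gm gm_inv_mulVec gm_mulVec_inv herm_map gm_inj act_semiConj herm_semi sc gm_sc_mul toAut_sc_mul eq_of_toAut_eq)

section Form

variable {F : Type} [Field F] [Fintype F]

theorem vmv {n : ℕ} (v w x : Fin n → F) : vecMulVec v w *ᵥ x = (w ⬝ᵥ x) • v := by
  ext i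
  simp only [Matrix.mulVec, dotProduct, vecMulVec_apply, Pi.smul_apply, smul_eq_mul, Finset.sum_mul]
  exact Finset.sum_congr rfl fun j _ => by ring

theorem tv_form {n : ℕ} (hF : Fintype.card F = 3 ^ 2) {u : SU n F 3} {v w : Fin n → F} (hu : mat u = 1 + vecMulVec v w)
    (h3 : u ^ 3 = 1) (h1 : u ≠ 1) : v ≠ 0 ∧ hermForm n F 3 v v = 0 ∧
      ∃ μ : F, μ ≠ 0 ∧ μ + μ ^ 3 = 0 ∧ ∀ x, act u x = x + (μ * hermForm n F 3 x v) • v := by
  have := charP3 hF
  have : Fact (Nat.Prime 3) := ⟨Nat.prime_three⟩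
  set φ : (Fin n → F) → F := fun x => w ⬝ᵥ x with hφ
  have hux : ∀ x, act u x = x + φ x • v := by
    intro x
    rw [act_def, hu, add_mulVec, one_mulVec, vmv]
  have hφs : ∀ (c : F) x, φ (c • x) = c * φ x := fun c x => by simp only [hφ, dotProduct_smul, smul_eq_mul]
  have hv0 : v ≠ 0 := by
    rintro rfl
    apply h1
    apply ext_act
    intro x
    rw [hux, smul_zero, add_zero, act_one]
  obtain ⟨x1, hx1⟩ : ∃ x, φ x ≠ 0 := by
    by_contra hcon
    push Not at hcon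
    apply h1
    apply ext_act
    intro x
    rw [hux, hcon, zero_smul, add_zero, act_one]
  -- `φ v = 0`
  have hφv : φ v = 0 := by
    have e1 : act u v = (1 + φ v) • v := by rw [hux, add_smul, one_smul]
    have e2 : act (u ^ 3) v = (1 + φ v) ^ 3 • v := by
      rw [pow_succ, pow_two, act_mul, act_mul, e1, act_smul, act_smul, e1, act_smul, e1, smul_smul, smul_smul]
      congr 1
      ring
    rw [h3, act_one] at e2
    have e3 : ((1 + φ v) ^ 3 - 1) • v = 0 := by rw [sub_smul, one_smul, ← e2, sub_self]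
    have e4 : (1 + φ v) ^ 3 - 1 = 0 := (smul_eq_zero.1 e3).resolve_right hv0
    rw [add_pow_q hF, one_pow, add_sub_cancel_left] at e4
    exact pow_eq_zero_iff (by norm_num) |>.1 e4
  have hh : ∀ x y, φ x * hermForm n F 3 v y + φ y ^ 3 * hermForm n F 3 x v + φ x * φ y ^ 3 * hermForm n F 3 v v = 0 := by
    intro x y
    have e1 := herm_act u x y
    rw [hux, hux, herm_add_left, herm_add_right hF, herm_add_right hF, herm_smul_left, herm_smul_left, herm_smul_right,
      herm_smul_right] at e1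
    linear_combination e1
  have hvv : hermForm n F 3 v v = 0 := by
    have e1 := hh x1 v
    rw [hφv, zero_pow (by norm_num), zero_mul, add_zero, mul_zero, zero_mul, add_zero] at e1
    exact (mul_eq_zero.1 e1).resolve_left hx1
  obtain ⟨y, hy⟩ := exists_herm_ne_zero hF hv0
  have hy' : hermForm n F 3 y v ≠ 0 := fun h => hy (herm_eq_zero_swap hF h)
  obtain ⟨y0, hy0v⟩ : ∃ y0, hermForm n F 3 y0 v = 1 :=
    ⟨(hermForm n F 3 y v)⁻¹ • y, by rw [herm_smul_left, inv_mul_cancel₀ hy']⟩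
  have hvy0 : hermForm n F 3 v y0 = 1 := by rw [herm_swap hF, hy0v, one_pow]
  have key : ∀ x, φ x = -φ y0 ^ 3 * hermForm n F 3 x v := by
    intro x
    have e1 := hh x y0
    rw [hvy0, hvv, mul_one, mul_zero, add_zero] at e1
    linear_combination e1
  refine ⟨hv0, hvv, -φ y0 ^ 3, ?_, ?_, fun x => by rw [hux, key]⟩
  · intro h0
    apply hx1
    rw [key, h0, zero_mul]
  · have e1 := key y0
    rw [hy0v, mul_one] at e1
    rw [← e1]
    have e2 : φ y0 ^ 3 = -φ y0 := by linear_combination e1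
    rw [e2]
    ring

end Form

section Lin

variable {F : Type} [Field F] [Fintype F]

open UM

/-- the Gram form of `v, e, v'` -/
def gf3 (x y : Fin 3 → F) : F := x 0 * y 2 ^ 3 + x 1 * y 1 ^ 3 + x 2 * y 0 ^ 3

theorem gf3_nondeg {x : Fin 3 → F} (hx : ∀ y, gf3 x y = 0) : x = 0 := by
  have h0 := hx ![1, 0, 0]
  have h1 := hx ![0, 1, 0]
  have h2 := hx ![0, 0, 1]
  unfold gf3 at h0 h1 h2
  simp at h0 h1 h2
  funext i
  fin_cases i <;> assumption

theorem gf3_HH (hF : Fintype.card F = 3 ^ 2) (x y : Fin 3 → F) : gf3 (HH F *ᵥ x) (HH F *ᵥ y) = gf3 x y := by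
  have h3 := three_eq hF
  have e0 : ∀ x : Fin 3 → F, (HH F *ᵥ x) 0 = x 2 := by
    intro x
    simp [HH, Matrix.mulVec, dotProduct, Fin.sum_univ_three]
  have e1 : ∀ x : Fin 3 → F, (HH F *ᵥ x) 1 = x 2 - x 1 := by
    intro x
    simp only [HH, Matrix.mulVec, dotProduct, Fin.sum_univ_three, _root_.Fin.isValue, _root_.Matrix.of_apply, _root_.Matrix.cons_val', _root_.Matrix.cons_val_fin_one, _root_.Matrix.cons_val_one, _root_.Matrix.cons_val_zero, _root_.MulZeroClass.zero_mul, _root_.neg_mul, _root_.one_mul, _root_.zero_add, _root_.Matrix.cons_val]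
    ring
  have e2 : ∀ x : Fin 3 → F, (HH F *ᵥ x) 2 = x 0 + x 1 + x 2 := by
    intro x
    simp [HH, Matrix.mulVec, dotProduct, Fin.sum_univ_three]
  unfold gf3
  rw [e0, e1, e2, e0, e1, e2, add_pow_q hF, add_pow_q hF, sub_pow_q hF]
  linear_combination (x 2 * y 2 ^ 3) * h3

/-- **the basis** -/
theorem exists_basis (hF : Fintype.card F = 3 ^ 2) {u t : SU 3 F 3} (hut : u * t = t * u) (ht2 : t * t = 1) (ht : t ≠ 1)
    {v : Fin 3 → F} (hv0 : v ≠ 0) (hvv : hermForm 3 F 3 v v = 0) {μ : F} (hμ0 : μ ≠ 0)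
    (hux : ∀ x, act u x = x + (μ * hermForm 3 F 3 x v) • v) :
    ∃ P Q : Matrix (Fin 3) (Fin 3) F, P * Q = 1 ∧ Q * P = 1 ∧
      (∀ x y, hermForm 3 F 3 (P *ᵥ x) (P *ᵥ y) = gf3 x y) ∧ mat (u * t) * P = P * S0 μ := by
  classical
  have h3 := three_eq hF
  have h2 := two_ne hF
  obtain ⟨y, hy⟩ := exists_herm_ne_zero hF hv0
  have hy' : hermForm 3 F 3 y v ≠ 0 := fun h => hy (herm_eq_zero_swap hF h)
  obtain ⟨y0, hy0v⟩ : ∃ y0, hermForm 3 F 3 y0 v = 1 :=
    ⟨(hermForm 3 F 3 y v)⁻¹ • y, by rw [herm_smul_left, inv_mul_cancel₀ hy']⟩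
  -- `t v = l v`
  set l := hermForm 3 F 3 (act t y0) v with hl
  have htv : act t v = l • v := by
    have e1 : act (u * t) y0 = act (t * u) y0 := by rw [hut]
    rw [act_mul, act_mul, hux, hux, hy0v, mul_one, act_add, act_smul, add_right_inj, ← hl, ← smul_smul] at e1
    exact (smul_right_injective _ hμ0 e1).symm
  have hll : l * l = 1 := by
    have e1 : act (t * t) v = (l * l) • v := by rw [act_mul, htv, act_smul, htv, smul_smul]
    rw [ht2, act_one] at e1
    have e2 : (l * l - 1) • v = 0 := by rw [sub_smul, one_smul, ← e1, sub_self]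
    exact sub_eq_zero.1 ((smul_eq_zero.1 e2).resolve_right hv0)
  have hl0 : l ≠ 0 := by
    intro h0
    rw [h0, zero_mul] at hll
    exact zero_ne_one hll
  have hl3 : l ^ 3 = l := by linear_combination l * hll
  have htt : ∀ x, act t (act t x) = x := fun x => by rw [← act_mul, ht2, act_one]
  -- the second vector of the plane
  set w := -(y0 + l • act t y0) with hw
  have htw : act t w = l • w := by
    rw [hw, act_neg, act_add, act_smul, htt, smul_neg, smul_add, smul_smul, hll, one_smul, add_comm]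
  have hwv : hermForm 3 F 3 w v = 1 := by
    rw [hw, herm_neg_left, herm_add_left, herm_smul_left, hy0v, ← hl, hll]
    linear_combination -h3
  have hcc : (hermForm 3 F 3 w w) ^ 3 = hermForm 3 F 3 w w := herm_self_pow hF w
  obtain ⟨s, hs⟩ := exists_trace_eq hF (c := -hermForm 3 F 3 w w) (by rw [neg_pow_q hF, hcc])
  set v' := w + s • v with hv'
  have htv' : act t v' = l • v' := by rw [hv', act_add, act_smul, htw, htv, smul_add, smul_smul, smul_smul, mul_comm s l]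
  have hv'v : hermForm 3 F 3 v' v = 1 := by rw [hv', herm_add_left, herm_smul_left, hvv, mul_zero, add_zero, hwv]
  have hvw : hermForm 3 F 3 v w = 1 := by rw [herm_swap hF, hwv, one_pow]
  have hvv' : hermForm 3 F 3 v v' = 1 := by rw [herm_swap hF, hv'v, one_pow]
  have hv'v' : hermForm 3 F 3 v' v' = 0 := by
    rw [hv', herm_add_left, herm_add_right hF, herm_add_right hF, herm_smul_left, herm_smul_left, herm_smul_right,
      herm_smul_right, hvv, hvw, hwv]
    linear_combination hs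
  -- the third vector
  set K : Submodule F (Fin 3 → F) := Submodule.span F {v, v'} with hK
  have hvK : v ∈ K := Submodule.subset_span (Or.inl rfl)
  have hv'K : v' ∈ K := Submodule.subset_span (Or.inr rfl)
  have hKn : ∀ x ∈ K, (∀ z ∈ K, hermForm 3 F 3 x z = 0) → x = 0 := by
    intro x hx hxz
    obtain ⟨a, b, rfl⟩ := Submodule.mem_span_pair.1 hx
    have e1 := hxz v hvK
    have e2 := hxz v' hv'K
    rw [herm_add_left, herm_smul_left, herm_smul_left, hvv, hv'v, mul_zero, zero_add, mul_one] at e1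
    rw [herm_add_left, herm_smul_left, herm_smul_left, hvv', hv'v', mul_zero, add_zero, mul_one] at e2
    rw [e1, e2, zero_smul, zero_smul, add_zero]
  have hKp : hermPerp 3 (K : Set (Fin 3 → F)) ≠ ⊥ := by
    intro h
    have h4 := finrank_hermPerp_of_nondeg hF K hKn
    rw [h, finrank_bot] at h4
    have h5 : finrank F K ≤ 2 := by
      have h6 := finrank_span_finset_le_card (R := F) (M := Fin 3 → F) {v, v'}
      have h7 : ((({v, v'} : Finset (Fin 3 → F)) : Set (Fin 3 → F))) = {v, v'} := by simp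
      rw [h7] at h6
      exact h6.trans Finset.card_le_two
    omega
  obtain ⟨e, he, hee⟩ := exists_norm_one_vector hF _ (hermPerp_nondeg hF K hKn) hKp
  have hev : hermForm 3 F 3 e v = 0 := he v hvK
  have hev' : hermForm 3 F 3 e v' = 0 := he v' hv'K
  have hve : hermForm 3 F 3 v e = 0 := herm_eq_zero_swap hF hev
  have hv'e : hermForm 3 F 3 v' e = 0 := herm_eq_zero_swap hF hev'
  -- the matrix
  set P : Matrix (Fin 3) (Fin 3) F := Matrix.of (fun i j => (![v, e, v'] j) i) with hPdef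
  have hPx : ∀ x : Fin 3 → F, P *ᵥ x = x 0 • v + x 1 • e + x 2 • v' := by
    intro x
    funext i
    simp only [hPdef, Matrix.mulVec, dotProduct, Fin.sum_univ_three, _root_.Nat.succ_eq_add_one, _root_.Nat.reduceAdd, _root_.Matrix.cons_val', _root_.Matrix.cons_val_fin_one, _root_.Matrix.of_apply, _root_.Fin.isValue, _root_.Matrix.cons_val_zero, _root_.Matrix.cons_val_one, _root_.Matrix.cons_val, _root_.Pi.add_apply, _root_.Pi.smul_apply, _root_.smul_eq_mul]
    ring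
  have hP : ∀ x y, hermForm 3 F 3 (P *ᵥ x) (P *ᵥ y) = gf3 x y := by
    intro x y
    rw [hPx, hPx]
    simp only [herm_add_left, herm_add_right hF, herm_smul_left, herm_smul_right, hvv, hve, hvv', hev, hee, hev', hv'v,
      hv'e, hv'v']
    unfold gf3
    ring
  have hPu : IsUnit P := by
    rw [← Matrix.mulVec_injective_iff_isUnit]
    intro x y hxy
    have hxy' : P *ᵥ x = P *ᵥ y := hxy
    have h1 : x - y = 0 := by
      apply gf3_nondeg
      intro z
      rw [← hP, mulVec_sub, hxy', sub_self, herm_zero_left]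
    exact sub_eq_zero.1 h1
  have hPd : IsUnit P.det := (Matrix.isUnit_iff_isUnit_det P).1 hPu
  have hPQ := Matrix.mul_nonsing_inv P hPd
  have hQP := Matrix.nonsing_inv_mul P hPd
  set Q := P⁻¹ with hQ
  -- `t e = c e`
  obtain ⟨c, hte⟩ : ∃ c : F, act t e = c • e := by
    have e1 : act t e = P *ᵥ (Q *ᵥ act t e) := by rw [mulVec_mulVec, hPQ, one_mulVec]
    set z := Q *ᵥ act t e with hz
    rw [hPx] at e1
    have k1 : hermForm 3 F 3 (act t e) v = 0 := by
      have h4 : act t (l • v) = v := by rw [act_smul, htv, smul_smul, hll, one_smul]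
      rw [← h4, herm_act, herm_smul_right, hev, mul_zero]
    have k2 : hermForm 3 F 3 (act t e) v' = 0 := by
      have h4 : act t (l • v') = v' := by rw [act_smul, htv', smul_smul, hll, one_smul]
      rw [← h4, herm_act, herm_smul_right, hev', mul_zero]
    have k3 := k1
    have k4 := k2
    rw [e1, herm_add_left, herm_add_left, herm_smul_left, herm_smul_left, herm_smul_left, hvv, hev, hv'v, mul_zero,
      mul_zero, zero_add, zero_add, mul_one] at k3
    rw [e1, herm_add_left, herm_add_left, herm_smul_left, herm_smul_left, herm_smul_left, hvv', hev', hv'v', mul_zero,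
      mul_zero, add_zero, add_zero, mul_one] at k4
    exact ⟨z 1, by rw [e1, k3, k4, zero_smul, zero_smul, zero_add, add_zero]⟩
  have htP : mat t * P = P * Matrix.diagonal ![l, c, l] := by
    apply Matrix.ext_of_mulVec_single
    intro i
    rw [← mulVec_mulVec, ← mulVec_mulVec, hPx, hPx, ← act_def]
    simp only [act_add, act_smul, htv, hte, htv', Matrix.mulVec_diagonal]
    (revert i; simp only [_root_.Fin.forall_fin_succ, Fin.isValue, _root_.Nat.succ_eq_add_one, Nat.reduceAdd, _root_.Matrix.cons_val_zero, _root_.Matrix.cons_val_one, _root_.Matrix.cons_val, _root_.Pi.single_eq_same, _root_.one_smul, _root_.ne_eq, _root_.one_ne_zero, _root_.not_false_eq_true, _root_.Pi.single_eq_of_ne, _root_.zero_smul, _root_.add_zero, Fin.reduceEq, _root_.mul_one, _root_.MulZeroClass.mul_zero, _root_.Fin.succ_ne_zero, _root_.Pi.single_eq_of_ne', _root_.zero_add, _root_.Fin.succ_zero_eq_one, _root_.Fin.succ_one_eq_two, _root_.IsEmpty.forall_iff,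 _root_.and_self])
  have hc : c = 1 := by
    have h4 := congrArg Matrix.det htP
    rw [det_mul, det_mul, det_mat, one_mul, Matrix.det_diagonal, Fin.prod_univ_three] at h4
    have h5 : (l * c * l) = 1 := by
      have h6 : P.det * 1 = P.det * (l * c * l) := by rw [mul_one]; exact h4
      exact (hPd.mul_left_cancel h6).symm
    linear_combination h5 - c * hll
  have hlm : l = -1 := by
    rcases mul_self_eq_one_iff.1 hll with h | h
    · exfalso
      apply ht
      apply mat_injective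
      have h4 : mat t * P = P := by
        rw [htP, h, hc]
        have : (Matrix.diagonal ![(1 : F), 1, 1]) = 1 := by
          ext i j
          (revert i j; simp only [_root_.Fin.forall_fin_succ, _root_.Nat.succ_eq_add_one, Nat.reduceAdd, Fin.isValue, _root_.Fin.succ_zero_eq_one, _root_.Fin.succ_one_eq_two, _root_.IsEmpty.forall_iff, _root_.and_true, _root_.Matrix.diagonal_apply_eq, _root_.Matrix.cons_val_zero, _root_.Matrix.one_apply_eq, _root_.ne_eq, _root_.zero_ne_one, _root_.not_false_eq_true, _root_.Matrix.diagonal_apply_ne, _root_.Matrix.one_apply_ne, Fin.reduceEq, _root_.and_self, _root_.Fin.succ_ne_zero, _root_.true_and, _root_.Matrix.cons_val_one, _root_.Matrix.cons_val])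
        rw [this, mul_one]
      calc mat t = mat t * (P * Q) := by rw [hPQ, mul_one]
        _ = (mat t * P) * Q := by rw [Matrix.mul_assoc]
        _ = mat 1 := by rw [h4, hPQ, mat_one]
    · exact h
  refine ⟨P, Q, hPQ, hQP, hP, ?_⟩
  apply Matrix.ext_of_mulVec_single
  intro i
  rw [← mulVec_mulVec, ← mulVec_mulVec, hPx, hPx, ← act_def, act_mul]
  simp only [act_add, act_smul, htv, hte, htv', hux, herm_add_left, herm_smul_left, hvv, hev, hv'v, hlm, hc, S0]
  (revert i; simp only [Matrix.mulVec, dotProduct, Fin.sum_univ_three, _root_.Fin.forall_fin_succ, Fin.isValue, _root_.neg_smul, _root_.one_smul, _root_.smul_neg, _root_.MulZeroClass.mul_zero, _root_.add_zero, _root_.mul_one, _root_.mul_neg, _root_.zero_add, _root_.Matrix.of_apply, _root_.Matrix.cons_val', _root_.Matrix.cons_val_fin_one, _root_.Matrix.cons_val_zero, _root_.neg_mul, _root_.one_mul, _root_.Matrix.cons_val_one, _root_.MulZeroClass.zero_mul, _root_.Matrix.cons_val,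 _root_.Pi.single_eq_same, _root_.ne_eq, _root_.one_ne_zero, _root_.not_false_eq_true, _root_.Pi.single_eq_of_ne, _root_.zero_smul, Fin.reduceEq, _root_.neg_zero, _root_.Fin.succ_ne_zero, _root_.Pi.single_eq_of_ne', _root_.Fin.succ_zero_eq_one, _root_.Fin.succ_one_eq_two, _root_.IsEmpty.forall_iff, _root_.and_true, _root_.true_and]) <;> (repeat' with_reducible apply And.intro)
  module

/-- **order six, inner** -/
theorem six_lin (hF : Fintype.card F = 3 ^ 2) {a : SU 3 F 3} (ha : a ^ 6 = 1) (ha2 : a ^ 2 ≠ 1) (ha3 : a ^ 3 ≠ 1)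
    (hP : PS 2 (MulAut.conj (pr 3 F 3 a))) : False := by
  have h3 := three_eq hF
  -- the transvection `u = a ^ 4`
  have hP4 : PS 2 (MulAut.conj (pr 3 F 3 (a ^ 4))) := by
    have h := PS.pow hP 4
    rwa [← map_pow, ← map_pow] at h
  have ha12 : (a ^ 4) ^ 3 = 1 := by rw [← pow_mul, show 4 * 3 = 6 * 2 by norm_num, pow_mul, ha, one_pow]
  obtain ⟨A, v, w, hA, hAx⟩ := transv_of_ps hF (x := MulAut.conj (pr 3 F 3 (a ^ 4))) (by
    rw [← map_pow, ← map_pow, ha12, map_one, map_one]) hP4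
  obtain rfl := cp_inj hF hAx
  have hu1 : a ^ 4 ≠ 1 := by
    intro h
    apply ha2
    calc a ^ 2 = a ^ 6 * (a ^ 4)⁻¹ := by group
      _ = 1 := by rw [ha, h, inv_one, mul_one]
  obtain ⟨hv0, hvv, μ, hμ0, hμ, hux⟩ := tv_form hF hA ha12 hu1
  obtain ⟨P, Q, hPQ, hQP, hPh, haP⟩ := exists_basis hF (u := a ^ 4) (t := a ^ 3)
    (by rw [← pow_add, ← pow_add, add_comm]) (by rw [← pow_add, ha]) ha3 hv0 hvv hμ0 hux
  have hat : a ^ 4 * a ^ 3 = a := by
    rw [← pow_add, show 4 + 3 = 6 + 1 by norm_num, pow_add, ha, one_mul, pow_one]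
  rw [hat] at haP
  have hi : μ * μ = -1 := by
    have e1 : μ * (1 + μ * μ) = 0 := by linear_combination hμ
    linear_combination (mul_eq_zero.1 e1).resolve_left hμ0
  have hma : mat a = P * S0 μ * Q := by
    rw [← haP, Matrix.mul_assoc, hPQ, Matrix.mul_one]
  have hmul : ∀ X Y : Matrix (Fin 3) (Fin 3) F, (P * X * Q) * (P * Y * Q) = P * (X * Y) * Q := by
    intro X Y
    calc (P * X * Q) * (P * Y * Q) = P * X * (Q * P) * Y * Q := by simp only [Matrix.mul_assoc]
      _ = P * (X * Y) * Q := by rw [hQP, Matrix.mul_one]; simp only [Matrix.mul_assoc]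
  have hpow : ∀ (X : Matrix (Fin 3) (Fin 3) F) (k : ℕ), (P * X * Q) ^ k = P * X ^ k * Q := by
    intro X k
    induction k with
    | zero => rw [pow_zero, pow_zero, Matrix.mul_one, hPQ]
    | succ k ih => rw [pow_succ, ih, hmul, pow_succ]
  have hPdQ : P.det * Q.det = 1 := by rw [← det_mul, hPQ, det_one]
  -- the conjugating element
  obtain ⟨h, hh⟩ : ∃ h : SU 3 F 3, mat h = P * HH F * Q := by
    refine ⟨mkSU (P * HH F * Q) ?_ ?_, rfl⟩
    · rw [det_mul, det_mul, det_HH, mul_one, hPdQ]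
    · intro x y
      rw [← mulVec_mulVec, ← mulVec_mulVec, ← mulVec_mulVec, ← mulVec_mulVec, hPh, gf3_HH hF, ← hPh, mulVec_mulVec,
        mulVec_mulVec, hPQ, one_mulVec, one_mulVec]
  have inv_of : ∀ (g : SU 3 F 3) (X Y : Matrix (Fin 3) (Fin 3) F), mat g = P * X * Q → Y * X = 1 →
      mat g⁻¹ = P * Y * Q := by
    intro g X Y hg hYX
    have e1 : (P * Y * Q) * mat g = 1 := by rw [hg, hmul, hYX, Matrix.mul_one, hPQ]
    calc mat g⁻¹ = 1 * mat g⁻¹ := by rw [Matrix.one_mul]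
      _ = (P * Y * Q) * (mat g * mat g⁻¹) := by rw [← e1, Matrix.mul_assoc]
      _ = P * Y * Q := by rw [← mat_mul, mul_inv_cancel, mat_one, Matrix.mul_one]
  have hhi := inv_of h _ _ hh (hh' hi h3)
  have hai := inv_of a _ _ hma (hs hi h3)
  set b := h * a * h⁻¹ with hb
  have hmb : mat b = P * B0 μ * Q := by rw [hb, mat_mul, mat_mul, hh, hma, hhi, hmul, hmul, UM.hb hi h3]
  have hb6 : b ^ 6 = 1 := by rw [hb, conj_pow, ha, mul_one, mul_inv_cancel]
  have hb2 : b ^ 2 ≠ 1 := by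
    rw [hb, conj_pow]
    intro h
    exact ha2 (conj_eq_one_iff.1 h)
  have hc : mat (a⁻¹ * b) = P * C1 μ * Q := by rw [mat_mul, hai, hmb, hmul, c1 hi h3]
  have hc7 : (a⁻¹ * b) ^ 7 = 1 := by
    apply mat_injective
    rw [mat_pow, hc, hpow, c_pow hi h3, Matrix.mul_one, hPQ, mat_one]
  have hd3 : (b ^ 2) ^ 3 = 1 := by rw [← pow_mul, hb6]
  have hcd : mat (a⁻¹ * b * b ^ 2) = P * E1 μ * Q := by
    rw [mat_mul, hc, pow_two, mat_mul, hmb, hmul, hmul, d1 hi h3, e1 hi h3]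
  have he8 : (a⁻¹ * b * b ^ 2) ^ 8 = 1 := by
    apply mat_injective
    rw [mat_pow, hcd, hpow, e_pow hi h3, Matrix.mul_one, hPQ, mat_one]
  -- the solvable group
  have hsol := hP ![1, pr 3 F 3 h]
  set κ : SU 3 F 3 →* MulAut (PSU 3 F 3) := (MulAut.conj : PSU 3 F 3 →* MulAut (PSU 3 F 3)).comp (pr 3 F 3) with hκ
  set S := _root_.Subgroup.closure (Set.range fun i => MulAut.conj ((![1, pr 3 F 3 h] : Fin 2 → PSU 3 F 3) i) *
      MulAut.conj (pr 3 F 3 a) * (MulAut.conj ((![1, pr 3 F 3 h] : Fin 2 → PSU 3 F 3) i))⁻¹) with hS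
  have haS : κ a ∈ S := by
    apply Subgroup.subset_closure
    refine ⟨0, ?_⟩
    simp only [hκ, _root_.Fin.isValue, _root_.Matrix.cons_val_zero, _root_.map_one, _root_.one_mul, _root_.inv_one, _root_.mul_one, _root_.MonoidHom.coe_comp, _root_.Function.comp_apply]
  have hbS : κ b ∈ S := by
    apply Subgroup.subset_closure
    refine ⟨1, ?_⟩
    simp only [hκ, hb, _root_.Fin.isValue, _root_.Matrix.cons_val_one, _root_.Matrix.cons_val_fin_one, _root_.MonoidHom.coe_comp, _root_.Function.comp_apply, _root_.map_mul, _root_.map_inv]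
  have key := not_solvable_coprime hsol (u := κ (a⁻¹ * b)) (v := κ (b ^ 2)) (a := 7) (b := 3) (c := 8)
    (by rw [map_mul, map_inv]; exact mul_mem (inv_mem haS) hbS) (by rw [map_pow]; exact pow_mem hbS 2)
    (by rw [← map_pow, hc7, map_one]) (by rw [← map_pow, hd3, map_one])
    (by rw [← map_mul, ← map_pow, he8, map_one]) (by norm_num) (by norm_num) (by norm_num)
  apply hb2
  apply cp_inj hF
  have : MulAut.conj (pr 3 F 3 (b ^ 2)) = κ (b ^ 2) := rfl
  rw [this, key, map_one, map_one]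

/-- **order nine** -/
theorem nine (hF : Fintype.card F = 3 ^ 2) {x : MulAut (PSU 3 F 3)} (hx : x ^ 9 = 1) : x ^ 3 = 1 := by
  obtain ⟨a, rfl, ha⟩ := lin_of_odd hF (by decide) hx
  have h3 := nil_of_pow hF (k := 2) (a := a) (by rw [show 3 ^ 2 = 9 by norm_num, ha])
  rw [← map_pow, ← map_pow, pow_of_nil hF h3, map_one, map_one]

end Lin

section Semi

variable {F : Type} [Field F] [Fintype F]

theorem rho_pow (hF : Fintype.card F = 3 ^ 2) {ρ : F ≃+* F} (hρ : ρ ≠ 1) (c : F) : ρ c = c ^ 3 := by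
  have : Fact (Nat.Prime 3) := ⟨Nat.prime_three⟩
  have h1 : Nat.card (F ≃+* F) = 2 := Lib.FieldAutCard.card_ringAut (p := 3) (f := 2) (by norm_num) hF
  -- the other automorphism
  set σ : F ≃+* F := conj hF with hσ
  have hσ1 : σ ≠ 1 := by
    intro h
    obtain ⟨x, hx⟩ := exists_not_fixed hF
    apply hx
    have := congrArg (fun τ : F ≃+* F => τ x) h
    exact this
  have h2 : ρ = σ := by
    by_contra hne
    have h3 : 3 ≤ Nat.card (F ≃+* F) := by
      have : Finite (F ≃+* F) := Nat.finite_of_card_ne_zero (by rw [h1]; norm_num)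
      have := Fintype.ofFinite (F ≃+* F)
      rw [Nat.card_eq_fintype_card]
      classical
      have h4 : ({1, ρ, σ} : Finset (F ≃+* F)).card = 3 := by
        rw [Finset.card_insert_of_notMem, Finset.card_insert_of_notMem, Finset.card_singleton]
        · rw [Finset.mem_singleton]; exact hne
        · rw [Finset.mem_insert, Finset.mem_singleton]
          rintro (h | h)
          · exact hρ h.symm
          · exact hσ1 h.symm
      rw [← h4]
      exact Finset.card_le_univ _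
    omega
  rw [h2]
  exact conj_apply hF c

/-- **a semilinear involution of `PSU_3(3)` commutes with no transvection** -/
theorem six_semi (hF : Fintype.card F = 3 ^ 2) {B : GU 3 F 3} {ρ : F ≃+* F} (hρ : ρ ≠ 1)
    (ht : (toAut B ρ : MulAut (PSU 3 F 3)) ^ 2 = 1) {u : SU 3 F 3} {v w : Fin 3 → F} (hu : mat u = 1 + vecMulVec v w)
    (hu3 : u ^ 3 = 1) (hu1 : u ≠ 1)
    (hut : Commute (toAut B ρ : MulAut (PSU 3 F 3)) (MulAut.conj (pr 3 F 3 u))) : False := by
  have h2 := two_ne hF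
  obtain ⟨hv0, hvv, μ, hμ0, hμ, hux⟩ := tv_form hF hu hu3 hu1
  have hρp := rho_pow hF hρ
  -- the square of the semilinear map is the identity
  have hB : gm B * (gm B).map ρ = 1 := by
    rw [pow_two, CpAutU.Desc.toAut_mul, rho_sq hF] at ht
    obtain ⟨-, c, hc, h1⟩ := eq_of_toAut_eq hF le_rfl ((CpAutU.Desc.toAut_one (F := F) (q := 3) (n := 3)).trans ht.symm)
    rw [gm_mul, CpAutU.Desc.gm_mapGU', gm_one] at h1
    have h3 := congrArg Matrix.det h1
    have h4 : ((gm B).map ρ).det = (gm B).det ^ 3 := by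
      rw [← hρp]
      exact (RingHom.map_det ρ.toRingHom (gm B)).symm
    have h5 : (gm B).det ^ (3 + 1) = 1 := ClassicalGeometry.GUBasic.det_pow hF B.2
    rw [det_mul, h4, ← pow_succ', h5, det_smul, det_one, mul_one, Fintype.card_fin] at h3
    rw [← h3, mul_one] at hc
    rw [h1, hc, one_smul]
  set S : (Fin 3 → F) → (Fin 3 → F) := fun x => gm B *ᵥ fun i => ρ (x i) with hS
  have hSx : ∀ x, S x = gm B *ᵥ fun i => ρ (x i) := fun _ => rfl
  have hρρ : ∀ c, ρ (ρ c) = c := fun c => congrArg (fun τ : F ≃+* F => τ c) (rho_sq hF ρ)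
  have hSS : ∀ x, S (S x) = x := by
    intro x
    have e1 : (fun i => ρ ((gm B *ᵥ fun j => ρ (x j)) i)) = (gm B).map ρ *ᵥ x := by
      funext i
      simp only [Matrix.mulVec, dotProduct, map_sum, map_mul, Matrix.map_apply, hρρ]
    rw [hSx, hSx, e1, mulVec_mulVec, hB, one_mulVec]
  have hSadd : ∀ x y, S (x + y) = S x + S y := by
    intro x y
    rw [hSx, hSx, hSx, ← mulVec_add]
    congr 1
    funext i
    simp
  have hSsmul : ∀ (c : F) x, S (c • x) = c ^ 3 • S x := by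
    intro c x
    rw [hSx, hSx, ← mulVec_smul, ← hρp]
    congr 1
    funext i
    simp
  have hSh : ∀ x y, hermForm 3 F 3 (S x) (S y) = (hermForm 3 F 3 x y) ^ 3 := by
    intro x y
    rw [← hρp]
    exact herm_semi B ρ x y
  -- `S` commutes with `u`
  have huS : ∀ x, act u (S x) = S (act u x) := by
    have e1 : (MulAut.conj (pr 3 F 3 (semiConj B ρ u)) : MulAut (PSU 3 F 3)) = MulAut.conj (pr 3 F 3 u) := by
      have e2 : (toAut B ρ : MulAut (PSU 3 F 3)) * MulAut.conj (pr 3 F 3 u) * (toAut B ρ)⁻¹ =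
          MulAut.conj ((toAut B ρ : MulAut (PSU 3 F 3)) (pr 3 F 3 u)) := by
        ext z
        simp only [MulAut.mul_apply, MulAut.conj_apply, map_mul, map_inv, MulAut.apply_inv_self]
      have e3 : (toAut B ρ : MulAut (PSU 3 F 3)) (pr 3 F 3 u) = pr 3 F 3 (semiConj B ρ u) := rfl
      rw [e3] at e2
      rw [← e2, hut.eq, mul_inv_cancel_right]
    have e4 := cp_inj hF e1
    intro x
    have e5 := act_semiConj B ρ u x
    rw [e4] at e5
    exact e5
  -- `S v = l v`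
  obtain ⟨y, hy⟩ := exists_herm_ne_zero hF hv0
  have hy' : hermForm 3 F 3 y v ≠ 0 := fun h => hy (herm_eq_zero_swap hF h)
  obtain ⟨y0, hy0v⟩ : ∃ y0, hermForm 3 F 3 y0 v = 1 :=
    ⟨(hermForm 3 F 3 y v)⁻¹ • y, by rw [herm_smul_left, inv_mul_cancel₀ hy']⟩
  have hμ3 : μ ^ 3 = -μ := by linear_combination hμ
  set l := -hermForm 3 F 3 (S y0) v with hl
  have hSv : S v = l • v := by
    have e1 := huS y0
    rw [hux, hux, hy0v, mul_one, hSadd, hSsmul, hμ3, add_right_inj] at e1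
    have e2 : μ • (S v) = μ • (l • v) := by
      rw [smul_smul, hl, mul_neg, neg_smul, e1, neg_smul, neg_neg]
    exact smul_right_injective _ hμ0 e2
  -- `l ^ 4 = 1`
  have hl4 : l ^ 4 = 1 := by
    have e1 : S (S v) = (l ^ 3 * l) • v := by rw [hSv, hSsmul, hSv, smul_smul]
    rw [hSS] at e1
    have e2 : (l ^ 3 * l - 1) • v = 0 := by rw [sub_smul, one_smul, ← e1, sub_self]
    linear_combination (smul_eq_zero.1 e2).resolve_right hv0
  -- the other computation of `l`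
  have e1 : hermForm 3 F 3 (S y0) (S v) = 1 := by rw [hSh, hy0v, one_pow]
  rw [hSv, herm_smul_right] at e1
  have e2 : l ^ 3 * l = -1 := by
    rw [hl] at e1 ⊢
    linear_combination -e1
  have e3 : (2 : F) = 0 := by linear_combination e2 - hl4
  exact h2 e3

end Semi

section Row

/-- **The row `PSU_3(3)`.** -/
theorem r69_u3 {F : Type} [Field F] [Fintype F] (hF : Fintype.card F = 3 ^ 2) : R69 (PSU 3 F 3) := by
  rintro x (hx | hx) hP - -
  · have hx6 : x ^ 6 = 1 := by rw [← hx, pow_orderOf_eq_one]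
    have hx2 : x ^ 2 ≠ 1 := by
      intro h
      have := orderOf_dvd_of_pow_eq_one h
      rw [hx] at this
      norm_num at this
    have hx3 : x ^ 3 ≠ 1 := by
      intro h
      have := orderOf_dvd_of_pow_eq_one h
      rw [hx] at this
      norm_num at this
    rcases lin_or_semi hF x with ⟨a, rfl⟩ | ⟨A, ρ, hρ, rfl⟩
    · refine six_lin hF (a := a) (cp_inj hF ?_) ?_ ?_ hP
      · rw [map_pow, map_pow, hx6, map_one, map_one]
      · intro h
        apply hx2
        rw [← map_pow, ← map_pow, h, map_one, map_one]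
      · intro h
        apply hx3
        rw [← map_pow, ← map_pow, h, map_one, map_one]
    · set x : MulAut (PSU 3 F 3) := toAut A ρ with hxd
      obtain ⟨B, h1, -⟩ := CpAutU.Desc.exists_pow A ρ 3
      have hρ3 : ρ ^ 3 = ρ := by rw [pow_succ, pow_two, rho_sq hF, one_mul]
      rw [hρ3, ← hxd] at h1
      have h4 : (x ^ 4) ^ 3 = 1 := by rw [← pow_mul, show 4 * 3 = 6 * 2 by norm_num, pow_mul, hx6, one_pow]
      obtain ⟨u, v, w, hu, hux⟩ := transv_of_ps hF h4 (PS.pow hP 4)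
      have hu3 : u ^ 3 = 1 := by
        apply cp_inj hF
        rw [map_pow, map_pow, ← hux, h4, map_one, map_one]
      have hu1 : u ≠ 1 := by
        rintro rfl
        rw [map_one, map_one] at hux
        apply hx2
        calc x ^ 2 = x ^ 6 * (x ^ 4)⁻¹ := by group
          _ = 1 := by rw [hx6, hux, inv_one, mul_one]
      refine six_semi hF hρ (B := B) ?_ hu hu3 hu1 ?_
      · rw [← h1, ← pow_mul, hx6]
      · rw [← h1, ← hux]
        exact (Commute.refl x).pow_pow 3 4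
  · have h9 : x ^ 9 = 1 := by rw [← hx, pow_orderOf_eq_one]
    have h3 := nine hF h9
    have := orderOf_dvd_of_pow_eq_one h3
    rw [hx] at this
    norm_num at this

/-- **The row `PSU_3(3)`, up to isomorphism.** -/
theorem r69_psu33 {K : Type} [Group K] [Finite K] {F : Type} [Field F] [Fintype F] (hF : Fintype.card F = 9)
    (e : Nonempty (K ≃* PSU 3 F 3)) : R69 K := by
  obtain ⟨e⟩ := e
  exact (r69_u3 (by rw [hF]; norm_num)).congr e

end Row

end Cfsg.Agent.H154.SN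
end

private theorem dce_c948a6c41946 : _root_.True := by
  try have : _root_.True := by simp only [_root_.Cfsg.Agent.H154.SN.UM.C6.eq_1]
  try have : _root_.True := by simp only [_root_.Cfsg.Agent.H154.SN.UM.HH.eq_1]
  try have : _root_.True := by simp only [_root_.Cfsg.Agent.H154.SN.UM.S1.eq_1]
  try have : _root_.True := by simp only [_root_.Cfsg.Agent.H154.SN.UM.S0.eq_1]
  try have : _root_.True := by simp only [_root_.Cfsg.Agent.H154.SN.UM.E4.eq_1]
  try have : _root_.True := by simp only [_root_.Cfsg.Agent.H154.SN.UM.D1.eq_1]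
  try have : _root_.True := by simp only [_root_.Cfsg.Agent.H154.SN.UM.C1.eq_1]
  try have : _root_.True := by simp only [_root_.Cfsg.Agent.H154.SN.UM.C2.eq_1]
  try have : _root_.True := by simp only [_root_.Cfsg.Agent.H154.SN.UM.B0.eq_1]
  try have : _root_.True := by simp only [_root_.Cfsg.Agent.H154.SN.UM.E1.eq_1]
  try have : _root_.True := by simp only [_root_.Cfsg.Agent.H154.SN.UM.H1.eq_1]
  try have : _root_.True := by simp only [_root_.Cfsg.Agent.H154.SN.UM.C3.eq_1]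
  try have : _root_.True := by simp only [_root_.Cfsg.Agent.H154.SN.UM.E2.eq_1]
  exact _root_.True.intro
end

-- part: H580/SNX/LrgC_mg
section
prune_inst 0x5402040012210000000859011200004040004200000000008a005020000c242058008400800050212080001000500000010008000400000040004000001010000880006a2480000240090000080000000000000000000000000000000000004000000000
set_option linter.all false
open scoped Cfsg.Agent.FastGrp

-- part: H580/SNX/Base
section
/-!
S3831, task T7c: combinatorics of the roots `x` with `⟨x, r^∨⟩ = 1`, `r` a long root (helper580)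
-/

set_option autoImplicit false
set_option linter.unusedSectionVars false

namespace Cfsg.Agent.H580.SNX

open CoxeterSystem Cfsg.Agent.ChevalleyStructure.CoxeterGeom Cfsg.Agent.Tits.Roots Cfsg.Agent.Tits.Core
  Cfsg.Agent.Tits.RootComb Cfsg.Agent.Tits.Exchange Cfsg.Agent.Nodes.Reps Cfsg.Agent.Nodes.BNOf
  Cfsg.Agent.Nodes.StabComb Cfsg.Agent.Nodes.Bruhat Cfsg.Agent.Nodes.OppDec Cfsg.Agent.Nodes.LeviDec
  Cfsg.Agent.Nodes.NormX Cfsg.Agent.Nodes.Coroot Cfsg.Agent.KFacts.RgdSL Cfsg.Agent.Nodes.PosPair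

variable {I W : Type*} [Fintype I] [DecidableEq I] [Group W] {M : CoxeterMatrix I}
  {cs : CoxeterSystem M W} {A : I → I → ℤ} {h : IsCartan M A}

/-- `r` is a long root, conjugate to a node with a simple bond -/
structure LgR (cs : CoxeterSystem M W) (h : IsCartan M A) (r : I → ℤ) : Prop where
  root : IsRoot cs h r
  hl : ∀ x, IsRoot cs h x → x ≠ r → x ≠ -r → cpr cs h x r = 0 ∨ cpr cs h x r = 1 ∨ cpr cs h x r = -1
  ex : ∃ i j w, M i j = 3 ∧ rep cs h w (sr i) = r

theorem cpr_rep_right [Finite W] (w : W) (x : I → ℤ) {y : I → ℤ} (hy : IsRoot cs h y) :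
    cpr cs h x (rep cs h w y) = cpr cs h (rep cs h w⁻¹ x) y := by
  conv_lhs => rw [← rep_apply_inv cs h w x]
  exact cpr_rep cs h w _ hy

theorem LgR.act [Finite W] {r : I → ℤ} (H : LgR cs h r) (w : W) : LgR cs h (rep cs h w r) := by
  refine ⟨H.root.act w, fun x hx h1 h2 => ?_, ?_⟩
  · rw [cpr_rep_right w x H.root]
    refine H.hl _ (hx.act _) ?_ ?_
    · intro h3
      exact h1 (by rw [← h3, rep_apply_inv])
    · intro h3
      exact h2 (by rw [← map_neg, ← h3, rep_apply_inv])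
  · obtain ⟨i, j, v, hij, hv⟩ := H.ex
    exact ⟨i, j, w * v, hij, by rw [rep_mul_apply, hv]⟩

theorem LgR.cases [Finite W] {r : I → ℤ} (H : LgR cs h r) {x : I → ℤ} (hx : IsRoot cs h x) :
    (x = r ∧ cpr cs h x r = 2) ∨ (x = -r ∧ cpr cs h x r = -2) ∨
      (x ≠ r ∧ x ≠ -r ∧ (cpr cs h x r = 0 ∨ cpr cs h x r = 1 ∨ cpr cs h x r = -1)) := by
  by_cases h1 : x = r
  · subst h1
    exact Or.inl ⟨rfl, cpr_self cs h H.root⟩
  · by_cases h2 : x = -r
    · subst h2
      exact Or.inr (Or.inl ⟨rfl, by rw [cpr_neg cs h _ H.root, cpr_self cs h H.root]⟩)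
    · exact Or.inr (Or.inr ⟨h1, h2, H.hl x hx h1 h2⟩)

theorem LgR.eq_of_two [Finite W] {r : I → ℤ} (H : LgR cs h r) {x : I → ℤ} (hx : IsRoot cs h x)
    (h2 : 2 ≤ cpr cs h x r) : x = r := by
  rcases H.cases hx with h1 | h1 | h1
  · exact h1.1
  · omega
  · omega

/-- there is no `G₂` -/
theorem LgR.noG2 [Finite W] {r : I → ℤ} (H : LgR cs h r) {x : I → ℤ} (hx : IsRoot cs h x) (h1 : cpr cs h x r = 1) :
    cpr cs h r x = 1 ∨ cpr cs h r x = 2 := by
  have := Fintype.ofFinite W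
  have hne : x ≠ r := by
    rintro rfl
    rw [cpr_self cs h H.root] at h1
    omega
  have hne' : x ≠ -r := by
    rintro rfl
    rw [cpr_neg cs h _ H.root, cpr_self cs h H.root] at h1
    omega
  have h2 := cpr_mul_lt hx H.root hne hne'
  rw [h1, one_mul] at h2
  have h3 : 0 < cpr cs h r x := by
    rw [cpr_pos_iff cs h r hx, form_comm, ← cpr_pos_iff cs h x H.root]
    omega
  suffices h4 : cpr cs h r x ≠ 3 by omega
  intro h4
  obtain ⟨i, j, w, hij, rfl⟩ := H.ex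
  have hsi := isRoot_sr cs h i
  have hsj := isRoot_sr cs h j
  have hne0 : i ≠ j := by
    rintro rfl
    rw [M.diagonal] at hij
    omega
  have hA : A i j = -1 ∧ A j i = -1 := by
    rcases h.rel i j hne0 with h5 | h5 | h5 | h5
    · omega
    · exact h5.2
    · omega
    · omega
  -- transport
  obtain ⟨x', hx'⟩ : ∃ x', x' = rep cs h w⁻¹ x := ⟨_, rfl⟩
  have hx'r : IsRoot cs h x' := by rw [hx']; exact hx.act _
  have hxx : x = rep cs h w x' := by rw [hx', rep_apply_inv]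
  rw [hxx, cpr_rep cs h w _ hsi] at h1
  rw [hxx, cpr_rep cs h w _ hx'r] at h4
  have hj : rep cs h (cs.simple i * cs.simple j * w⁻¹) (rep cs h w (sr i)) = sr j := by
    rw [rep_mul_apply, rep_mul_apply, rep_inv_apply, rep_simple_eq, rep_simple_eq]
    have e1 : pairing A j (sr i) = -1 := by
      have := pairing_single A j i 1
      rw [mul_one] at this
      exact this.trans hA.2
    have e2 : pairing A i (sr i + sr j) = 1 := by
      rw [← cpr_sr cs h, cpr_add cs h _ _ hsi, cpr_self cs h hsi, cpr_sr]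
      have := pairing_single A i j 1
      rw [mul_one] at this
      have e3 : pairing A i (sr j) = -1 := this.trans hA.1
      rw [e3]; norm_num
    rw [e1, neg_one_smul, sub_neg_eq_add, e2]
    simp
  have Hj : LgR cs h (sr j) := hj ▸ H.act (cs.simple i * cs.simple j * w⁻¹)
  have Fi : form cs h (sr j) (sr j) = form cs h (sr i) (sr i) := by
    conv_lhs => rw [← hj]
    rw [form_rep, form_rep]
  have hcij : cpr cs h (sr i) (sr j) = -1 := by
    rw [cpr_sr]
    have := pairing_single A j i 1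
    rw [mul_one] at this
    exact this.trans hA.2
  obtain ⟨c, hc⟩ : ∃ c, c = form cs h (sr i) (sr i) := ⟨_, rfl⟩
  have hcpos : 0 < c := by rw [hc]; exact form_pos cs h hsi.ne_zero
  have f1 := two_form_cpr cs h x' hsi
  have f2 := two_form_cpr cs h (sr i) hx'r
  have f3 := two_form_cpr cs h (sr i) hsj
  have f4 := two_form_cpr cs h x' hsj
  rw [h1, one_mul, ← hc] at f1
  rw [h4, form_comm] at f2
  rw [hcij, Fi, ← hc] at f3
  rw [Fi, ← hc] at f4
  have hxi : x' ≠ sr i ∧ x' ≠ -sr i := by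
    constructor
    · rintro rfl
      rw [cpr_self cs h hsi] at h1; omega
    · rintro rfl
      rw [cpr_neg cs h _ hsi, cpr_self cs h hsi] at h1; omega
  -- the two vectors
  have g1 : form cs h ((3 : ℤ) • x' - (2 : ℤ) • sr i - sr j) ((3 : ℤ) • x' - (2 : ℤ) • sr i - sr j) =
      9 * form cs h x' x' + 4 * form cs h (sr i) (sr i) + form cs h (sr j) (sr j) - 12 * form cs h x' (sr i)
        - 6 * form cs h x' (sr j) + 4 * form cs h (sr i) (sr j) := by
    simp only [form_sub_left, form_sub_right, form_smul_left, form_smul_right]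
    rw [form_comm cs h (sr i) x', form_comm cs h (sr j) x', form_comm cs h (sr j) (sr i)]
    ring
  have g2 : form cs h ((3 : ℤ) • x' - sr i + sr j) ((3 : ℤ) • x' - sr i + sr j) =
      9 * form cs h x' x' + form cs h (sr i) (sr i) + form cs h (sr j) (sr j) - 6 * form cs h x' (sr i)
        + 6 * form cs h x' (sr j) - 2 * form cs h (sr i) (sr j) := by
    simp only [form_sub_left, form_sub_right, form_smul_left, form_smul_right, form_add_left, form_add_right]
    rw [form_comm cs h (sr i) x', form_comm cs h (sr j) x', form_comm cs h (sr j) (sr i)]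
    ring
  rw [Fi, ← hc] at g1 g2
  have n1 := form_nonneg cs h ((3 : ℤ) • x' - (2 : ℤ) • sr i - sr j)
  have ev1 : (3 : ℤ) • x' - (2 : ℤ) • sr i - sr j ≠ 0 := by
    intro h5
    have h6 := congrFun h5 i
    simp only [Pi.sub_apply, Pi.smul_apply, smul_eq_mul, sr_self, sr_ne hne0, Pi.zero_apply] at h6
    omega
  have ev2 : (3 : ℤ) • x' - sr i + sr j ≠ 0 := by
    intro h5
    have h6 := congrFun h5 i
    simp only [Pi.sub_apply, Pi.add_apply, Pi.smul_apply, smul_eq_mul, sr_self, sr_ne hne0, Pi.zero_apply] at h6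
    omega
  have p1 := form_pos cs h ev1
  have p2 := form_pos cs h ev2
  rw [g1] at p1
  rw [g2] at p2
  have ht : cpr cs h x' (sr j) = 0 ∨ cpr cs h x' (sr j) = 1 ∨ cpr cs h x' (sr j) = -1 := by
    rcases Hj.cases hx'r with h5 | h5 | h5
    · exfalso
      rw [h5.1] at h1
      have h6 := (cpr_sr cs h (sr j) i)
      have := pairing_single A i j 1
      rw [mul_one] at this
      rw [h6] at h1
      have h7 : pairing A i (sr j) = -1 := this.trans hA.1
      omega
    · exfalso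
      rw [h5.1] at h4
      rw [cpr_neg_right cs h _ hsj, hcij] at h4
      omega
    · exact h5.2.2
  rcases ht with h5 | h5 | h5 <;> rw [h5] at f4 <;> linarith only [f1, f2, f3, f4, p1, hcpos, g1, n1, p2]

/-- reflections -/
theorem exists_refl [Finite W] {b : I → ℤ} (hb : IsRoot cs h b) :
    ∃ s : W, ∀ y, rep cs h s y = y - cpr cs h y b • b := by
  obtain ⟨w, i, rfl⟩ := hb
  exact ⟨_, rep_rfl'_eq cs h w i⟩

/-- `x` is a root with `⟨x, r^∨⟩ = 1` -/
structure N1 (cs : CoxeterSystem M W) (h : IsCartan M A) (r x : I → ℤ) : Prop where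
  root : IsRoot cs h x
  one : cpr cs h x r = 1

section n1

variable [Finite W] {r x : I → ℤ} (H : LgR cs h r) (hx : N1 cs h r x)

include H hx

theorem N1.ne : x ≠ r ∧ x ≠ -r := by
  constructor
  · rintro rfl
    have := hx.one
    rw [cpr_self cs h H.root] at this; omega
  · rintro rfl
    have := hx.one
    rw [cpr_neg cs h _ H.root, cpr_self cs h H.root] at this; omega

/-- `r - x` -/
theorem N1.sub : N1 cs h r (r - x) := by
  have h1 := isRoot_refl cs h hx.root H.root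
  rw [hx.one, one_smul] at h1
  have h2 : IsRoot cs h (r - x) := by
    have := h1.neg
    rwa [neg_sub] at this
  refine ⟨h2, ?_⟩
  rw [sub_eq_add_neg, cpr_add cs h _ _ H.root, cpr_self cs h H.root, cpr_neg cs h _ H.root, hx.one]
  norm_num

/-- long roots in `N1` are conjugate to `r` -/
theorem N1.exists_rep (hl : cpr cs h r x = 1) : ∃ w : W, rep cs h w r = x := by
  have := Fintype.ofFinite W
  have h1 := hx.sub H
  obtain ⟨s, hs⟩ := exists_refl (cs := cs) (h := h) h1.root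
  refine ⟨s, ?_⟩
  have h2 : cpr cs h r (r - x) = 1 := by
    apply cpr_eq_of_form cs h h1.root
    have f1 := two_form_cpr cs h x H.root
    have f2 := two_form_cpr cs h r hx.root
    rw [hx.one, one_mul] at f1
    rw [hl, one_mul, form_comm] at f2
    simp only [form_sub_left, form_sub_right]
    rw [form_comm cs h r x]
    linarith
  rw [hs, h2, one_smul, sub_sub_cancel]

theorem N1.lgR (hl : cpr cs h r x = 1) : LgR cs h x := by
  obtain ⟨w, hw⟩ := hx.exists_rep H hl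
  rw [← hw]
  exact H.act w

/-- `2 (x, r) = (r, r)`, `k (x, x) = (r, r)` -/
theorem N1.forms [Fintype W] : 2 * form cs h x r = form cs h r r ∧
    form cs h r r = cpr cs h r x * form cs h x x := by
  have f1 := two_form_cpr cs h x H.root
  have f2 := two_form_cpr cs h r hx.root
  rw [hx.one, one_mul] at f1
  rw [form_comm] at f2
  exact ⟨f1, by linarith⟩

end n1

/-- the equations of `Btwn` -/
theorem btwn_eqs [Finite W] {x y z : I → ℤ} (hz : Btwn cs h x y z) : ∃ m a b : ℤ, 0 < m ∧ 0 < a ∧ 0 < b ∧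
    m • z = a • x + b • y ∧ ∀ v, IsRoot cs h v → m * cpr cs h z v = a * cpr cs h x v + b * cpr cs h y v := by
  obtain ⟨-, m, a, b, hm, ha, hb, he⟩ := hz
  refine ⟨m, a, b, hm, ha, hb, he, fun v hv => ?_⟩
  rw [← cpr_smul cs h m z hv, he, cpr_add cs h _ _ hv, cpr_smul cs h a x hv, cpr_smul cs h b y hv]

theorem btwn_form [Fintype W] {x y z : I → ℤ} {m a b : ℤ} (he : m • z = a • x + b • y) :
    m * m * form cs h z z = a * a * form cs h x x + 2 * (a * b) * form cs h x y + b * b * form cs h y y := by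
  have h1 : form cs h (m • z) (m • z) = form cs h (a • x + b • y) (a • x + b • y) := by rw [he]
  simp only [form_add_left, form_add_right, form_smul_left, form_smul_right] at h1
  rw [form_comm cs h y x] at h1
  linarith

/-- between two roots of `N1` -/
theorem btwn_n1 [Finite W] {r x y z : I → ℤ} (H : LgR cs h r) (hx : cpr cs h x r = 1) (hy : cpr cs h y r = 1)
    (hz : Btwn cs h x y z) : z = r ∨ N1 cs h r z := by
  obtain ⟨m, a, b, hm, ha, hb, he, hv⟩ := btwn_eqs hz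
  have h1 := hv r H.root
  rw [hx, hy] at h1
  rcases H.cases hz.1 with h2 | h2 | ⟨-, -, h2 | h2 | h2⟩
  · exact Or.inl h2.1
  · rw [h2.2] at h1; omega
  · rw [h2] at h1; omega
  · exact Or.inr ⟨hz.1, h2⟩
  · rw [h2] at h1; omega

/-- `x` and `r - x`, `x` long -/
theorem btwn_opp_long [Finite W] {r x z : I → ℤ} (H : LgR cs h r) (hx : N1 cs h r x) (hl : cpr cs h r x = 1)
    (hz : Btwn cs h x (r - x) z) : z = r := by
  have := Fintype.ofFinite W
  rcases btwn_n1 H hx.one (hx.sub H).one hz with h1 | h1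
  · exact h1
  exfalso
  obtain ⟨m, a, b, hm, ha, hb, he, hv⟩ := btwn_eqs hz
  have e1 := hv r H.root
  rw [hx.one, (hx.sub H).one, h1.one] at e1
  have Hx := hx.lgR H hl
  have e2 := hv x hx.root
  have e3 : cpr cs h (r - x) x = -1 := by
    rw [sub_eq_add_neg, cpr_add cs h _ _ hx.root, cpr_neg cs h _ hx.root, cpr_self cs h hx.root, hl]
    norm_num
  rw [cpr_self cs h hx.root, e3] at e2
  have hF := btwn_form (cs := cs) (h := h) he
  obtain ⟨f1, f2⟩ := hx.forms H
  rw [hl, one_mul] at f2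
  have f3 : form cs h x (r - x) = form cs h x r - form cs h x x := form_sub_right _ _ _ _ _
  have f4 : form cs h (r - x) (r - x) = form cs h r r - 2 * form cs h x r + form cs h x x := by
    simp only [form_sub_left, form_sub_right]
    rw [form_comm cs h r x]
    ring
  have hc := form_pos cs h H.root.ne_zero
  rw [f3, f4] at hF
  obtain ⟨g1, g2⟩ := h1.forms H
  -- `m = a + b`, `m Q = 2 a - b`
  rcases Hx.cases hz.1 with h2 | h2 | ⟨-, -, h2 | h2 | h2⟩
  · rw [h2.2] at e2; omega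
  · rw [h2.2] at e2; omega
  · rw [h2] at e2
    have hb2 : b = 2 * a := by omega
    have hm2 : m = 3 * a := by omega
    subst hb2 hm2
    have h3 : 3 * form cs h z z = form cs h x x := by
      have h4 : (3 * a * a) * (3 * form cs h z z - form cs h x x) = 0 := by
        have : 2 * form cs h x r = form cs h x x := by rw [f1, f2]
        nlinarith only [f1, f2, hF]
      rcases mul_eq_zero.1 h4 with h5 | h5
      · exfalso
        have : 0 < 3 * a * a := by positivity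
        omega
      · linarith only [h, h5]
    rcases H.noG2 hz.1 h1.one with h4 | h4 <;> rw [h4] at g2 <;> linarith only [h, f2, hc, g2, h3]
  · rw [h2] at e2
    have ha2 : a = 2 * b := by omega
    have hm2 : m = 3 * b := by omega
    subst ha2 hm2
    have h3 : 3 * form cs h z z = form cs h x x := by
      have h4 : (3 * b * b) * (3 * form cs h z z - form cs h x x) = 0 := by
        have : 2 * form cs h x r = form cs h x x := by rw [f1, f2]
        nlinarith only [f1, f2, hF]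
      rcases mul_eq_zero.1 h4 with h5 | h5
      · exfalso
        have : 0 < 3 * b * b := by positivity
        omega
      · linarith only [h, h5]
    rcases H.noG2 hz.1 h1.one with h4 | h4 <;> rw [h4] at g2 <;> linarith only [h, f2, hc, g2, h3]
  · rw [h2] at e2; omega

/-- two short roots in `N1` -/
theorem btwn_short [Finite W] {r x y z : I → ℤ} (H : LgR cs h r) (hx : N1 cs h r x) (hy : N1 cs h r y)
    (hxy : x ≠ y) (hxs : cpr cs h r x = 2) (hys : cpr cs h r y = 2) (hz : Btwn cs h x y z) : z = r := by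
  have := Fintype.ofFinite W
  rcases btwn_n1 H hx.one hy.one hz with h1 | h1
  · exact h1
  exfalso
  obtain ⟨m, a, b, hm, ha, hb, he, hv⟩ := btwn_eqs hz
  have e1 := hv r H.root
  rw [hx.one, hy.one, h1.one] at e1
  have hF := btwn_form (cs := cs) (h := h) he
  obtain ⟨f1, f2⟩ := hx.forms H
  obtain ⟨f3, f4⟩ := hy.forms H
  obtain ⟨g1, g2⟩ := h1.forms H
  rw [hxs] at f2
  rw [hys] at f4
  have hc := form_pos cs h H.root.ne_zero
  -- `(x, y) < (x, x)`
  have h5 : form cs h x y < form cs h x x := by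
    have h6 : 0 < form cs h (x - y) (x - y) := form_pos cs h (sub_ne_zero.2 hxy)
    simp only [form_sub_left, form_sub_right] at h6
    rw [form_comm cs h y x] at h6
    have : form cs h x x = form cs h y y := by linarith only [f2, f4]
    linarith only [h, f2, f4, h6]
  have hyy : form cs h y y = form cs h x x := by linarith only [f2, f4]
  have hm2 : m = a + b := by omega
  have hab : 0 < a * b := mul_pos ha hb
  have h6 : m * m * form cs h z z < m * m * form cs h x x := by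
    rw [hF, hyy, hm2]
    have := mul_lt_mul_of_pos_left h5 hab
    linarith only [h, this]
  have h7 : form cs h z z < form cs h x x := by
    have : 0 < m * m := mul_pos hm hm
    exact lt_of_mul_lt_mul_left h6 this.le
  rcases H.noG2 hz.1 h1.one with h4 | h4 <;> rw [h4] at g2 <;> linarith only [h, f2, g2, hc, h7]

theorem exists_rep_neg [Finite W] {r : I → ℤ} (hr : IsRoot cs h r) : ∃ w : W, rep cs h w r = -r := by
  obtain ⟨s, hs⟩ := exists_refl hr
  refine ⟨s, ?_⟩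
  rw [hs, cpr_self cs h hr]
  module

theorem LgR.neg [Finite W] {r : I → ℤ} (H : LgR cs h r) : LgR cs h (-r) := by
  obtain ⟨w, hw⟩ := exists_rep_neg H.root
  rw [← hw]
  exact H.act w

/-- `2 x - r` is a long root if `x` is short -/
theorem N1.exists_delta [Finite W] {r x : I → ℤ} (H : LgR cs h r) (hx : N1 cs h r x) (hs : cpr cs h r x = 2) :
    ∃ w : W, rep cs h w r = (2 : ℤ) • x - r := by
  obtain ⟨s, hs'⟩ := exists_refl (cs := cs) (h := h) hx.root
  have h1 : rep cs h s r = r - (2 : ℤ) • x := by rw [hs', hs]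
  have h2 : IsRoot cs h (r - (2 : ℤ) • x) := by rw [← h1]; exact H.root.act s
  obtain ⟨t, ht⟩ := exists_rep_neg h2
  refine ⟨t * s, ?_⟩
  rw [rep_mul_apply, h1, ht, neg_sub]

/-- between `-r` and `x`, `x` long -/
theorem btwn_neg_long [Finite W] {r x z : I → ℤ} (H : LgR cs h r) (hx : N1 cs h r x) (hl : cpr cs h r x = 1)
    (hz : Btwn cs h (-r) x z) : z = x - r := by
  have := Fintype.ofFinite W
  obtain ⟨m, a, b, hm, ha, hb, he, hv⟩ := btwn_eqs hz
  have e1 := hv r H.root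
  rw [cpr_neg cs h _ H.root, cpr_self cs h H.root, hx.one] at e1
  have Hx := hx.lgR H hl
  have e2 := hv x hx.root
  rw [cpr_neg cs h _ hx.root, hl, cpr_self cs h hx.root] at e2
  have hF := btwn_form (cs := cs) (h := h) he
  obtain ⟨f1, f2⟩ := hx.forms H
  rw [hl, one_mul] at f2
  have f3 : form cs h (-r) x = -form cs h x r := by rw [form_neg_left, form_comm]
  have f4 : form cs h (-r) (-r) = form cs h r r := by rw [form_neg_left, form_neg_right, neg_neg]
  have hc := form_pos cs h H.root.ne_zero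
  rw [f3, f4] at hF
  rcases H.cases hz.1 with h2 | h2 | ⟨-, -, h2 | h2 | h2⟩
  · exfalso
    rw [h2.2] at e1
    rw [h2.1, hl] at e2
    omega
  · exfalso
    rw [h2.2] at e1
    rw [h2.1, cpr_neg cs h _ hx.root, hl] at e2
    omega
  · exfalso
    rw [h2] at e1
    rcases Hx.cases hz.1 with h3 | h3 | ⟨-, -, h3 | h3 | h3⟩
    · rw [h3.2] at e2
      rw [h3.1, hx.one] at h2
      omega
    · rw [h3.1, cpr_neg cs h _ H.root, hx.one] at h2
      omega
    · rw [h3] at e2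
      omega
    · rw [h3] at e2
      -- `z = (2 x - r) / 3`
      have hb2 : b = 2 * a := by omega
      have hm2 : m = 3 * a := by omega
      subst hb2 hm2
      have h4 : 3 * form cs h z z = form cs h x x := by
        have h4 : (3 * a * a) * (3 * form cs h z z - form cs h x x) = 0 := by
          have : 2 * form cs h x r = form cs h x x := by rw [f1, f2]
          nlinarith only [f1, f2, hF]
        rcases mul_eq_zero.1 h4 with h5 | h5
        · exfalso
          have : 0 < 3 * a * a := by positivity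
          omega
        · linarith only [h, h5]
      have hz1 : N1 cs h x z := ⟨hz.1, h3⟩
      obtain ⟨g1, g2⟩ := hz1.forms Hx
      rcases Hx.noG2 hz.1 h3 with h5 | h5 <;> rw [h5] at g2 <;> linarith only [h, f2, hc, h4, g2]
    · rw [h3] at e2
      omega
  · exfalso
    rw [h2] at e1
    rcases Hx.cases hz.1 with h3 | h3 | ⟨-, -, h3 | h3 | h3⟩
    · rw [h3.2] at e2; omega
    · rw [h3.2] at e2; omega
    · rw [h3] at e2; omega
    · rw [h3] at e2; omega
    · rw [h3] at e2; omega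
  · rw [h2] at e1
    rcases Hx.cases hz.1 with h3 | h3 | ⟨-, -, h3 | h3 | h3⟩
    · exfalso
      rw [h3.1, hx.one] at h2; omega
    · exfalso
      rw [h3.2] at e2; omega
    · exfalso
      rw [h3] at e2
      have ha2 : a = 2 * b := by omega
      have hm2 : m = 3 * b := by omega
      subst ha2 hm2
      have h4 : 3 * form cs h z z = form cs h x x := by
        have h4 : (3 * b * b) * (3 * form cs h z z - form cs h x x) = 0 := by
          have : 2 * form cs h x r = form cs h x x := by rw [f1, f2]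
          nlinarith only [f1, f2, hF]
        rcases mul_eq_zero.1 h4 with h5 | h5
        · exfalso
          have : 0 < 3 * b * b := by positivity
          omega
        · linarith only [h, h5]
      have hz1 : N1 cs h r (-z) := ⟨hz.1.neg, by rw [cpr_neg cs h _ H.root, h2]; norm_num⟩
      obtain ⟨g1, g2⟩ := hz1.forms H
      rw [form_neg_left, form_neg_right, neg_neg] at g2
      rcases H.noG2 hz1.root hz1.one with h5 | h5 <;> rw [h5] at g2 <;> linarith only [h, f2, hc, h4, g2]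
    · rw [h3] at e2
      have h4 : a = m := by omega
      have h5 : b = m := by omega
      rw [h4, h5, ← smul_add] at he
      have h6 := smul_right_injective _ hm.ne' he
      rw [h6]
      abel
    · exfalso
      rw [h3] at e2; omega

theorem int1 {Q P : ℤ} (h1 : Q * P < 4) (h2 : Q = 2 * P) : P = 0 ∨ P = 1 ∨ P = -1 := by
  subst h2
  have h3 : P < 2 := by nlinarith
  have h4 : -2 < P := by nlinarith only [h1]
  omega

theorem int2 {Q P : ℤ} (h1 : Q * P < 4) (h2 : Q = P) : P = 0 ∨ P = 1 ∨ P = -1 := by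
  subst h2
  have h3 : Q < 2 := by nlinarith
  have h4 : -2 < Q := by nlinarith only [h1]
  omega

/-- the numbers `⟨z, x^∨⟩` for `z` in `N1` and `x` short -/
theorem N1.ratio [Finite W] {r x z : I → ℤ} (H : LgR cs h r) (hx : N1 cs h r x) (hs : cpr cs h r x = 2)
    (hz : N1 cs h r z) (hzx : z ≠ x) (hzx' : z ≠ -x) :
    (cpr cs h r z = 1 ∧ (cpr cs h z x = 0 ∨ cpr cs h z x = 2 ∨ cpr cs h z x = -2)) ∨
      (cpr cs h r z = 2 ∧ (cpr cs h z x = 0 ∨ cpr cs h z x = 1 ∨ cpr cs h z x = -1)) := by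
  have := Fintype.ofFinite W
  obtain ⟨f1, f2⟩ := hx.forms H
  obtain ⟨g1, g2⟩ := hz.forms H
  rw [hs] at f2
  have h3 := cpr_mul_lt hz.root hx.root hzx hzx'
  have h4 := two_form_cpr cs h z hx.root
  have h5 := two_form_cpr cs h x hz.root
  rw [form_comm] at h5
  have hxx := form_pos cs h hx.root.ne_zero
  rcases H.noG2 hz.root hz.one with h6 | h6
  · left
    rw [h6] at g2
    have h7 : cpr cs h z x = 2 * cpr cs h x z := by
      have h8 : (cpr cs h z x - 2 * cpr cs h x z) * form cs h x x = 0 := by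
        have : form cs h z z = 2 * form cs h x x := by linarith only [h, f2, g2]
        rw [this] at h5
        linarith only [h4, h5]
      rcases mul_eq_zero.1 h8 with h9 | h9
      · linarith
      · omega
    have := int1 h3 h7
    (clear * - h6 h7 this; omega)
  · right
    rw [h6] at g2
    have h7 : cpr cs h z x = cpr cs h x z := by
      have h8 : (cpr cs h z x - cpr cs h x z) * form cs h x x = 0 := by
        have : form cs h z z = form cs h x x := by linarith only [f2, g2]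
        rw [this] at h5
        linarith
      rcases mul_eq_zero.1 h8 with h9 | h9
      · linarith
      · (clear * - hxx h9; omega)
    have := int2 h3 h7
    omega

/-- between `-r` and `x`, `x` short -/
theorem btwn_neg_short [Finite W] {r x z : I → ℤ} (H : LgR cs h r) (hx : N1 cs h r x) (hs : cpr cs h r x = 2)
    (hz : Btwn cs h (-r) x z) : z = x - r ∨ z = (2 : ℤ) • x - r := by
  have := Fintype.ofFinite W
  obtain ⟨m, a, b, hm, ha, hb, he, hv⟩ := btwn_eqs hz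
  have e1 := hv r H.root
  rw [cpr_neg cs h _ H.root, cpr_self cs h H.root, hx.one] at e1
  have e2 := hv x hx.root
  rw [cpr_neg cs h _ hx.root, hs, cpr_self cs h hx.root] at e2
  have hF := btwn_form (cs := cs) (h := h) he
  obtain ⟨f1, f2⟩ := hx.forms H
  rw [hs] at f2
  have f3 : form cs h (-r) x = -form cs h x r := by rw [form_neg_left, form_comm]
  have f4 : form cs h (-r) (-r) = form cs h r r := by rw [form_neg_left, form_neg_right, neg_neg]
  have hc := form_pos cs h H.root.ne_zero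
  rw [f3, f4] at hF
  have hmm : 0 < m * m := mul_pos hm hm
  rcases H.cases hz.1 with h2 | h2 | ⟨-, -, h2 | h2 | h2⟩
  · exfalso
    rw [h2.2] at e1
    rw [h2.1, hs] at e2
    omega
  · exfalso
    rw [h2.2] at e1
    rw [h2.1, cpr_neg cs h _ hx.root, hs] at e2
    omega
  · -- `z = 2 x - r`
    right
    rw [h2] at e1
    have hb2 : b = 2 * a := by omega
    obtain ⟨w, hw⟩ := hx.exists_delta H hs
    refine Nodes.Unique.eq_of_ray hz.1 (hw ▸ H.root.act w) hm ha ?_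
    rw [he, hb2]
    module
  · exfalso
    rw [h2] at e1
    have hz1 : N1 cs h r z := ⟨hz.1, h2⟩
    by_cases hzx : z = x
    · rw [hzx, cpr_self cs h hx.root] at e2; omega
    by_cases hzx' : z = -x
    · rw [hzx', cpr_neg cs h _ hx.root, cpr_self cs h hx.root] at e2; omega
    rcases hx.ratio H hs hz1 hzx hzx' with ⟨-, h3 | h3 | h3⟩ | ⟨-, h3 | h3 | h3⟩ <;> rw [h3] at e2 <;> omega
  · left
    rw [h2] at e1
    have hz1 : N1 cs h r (-z) := ⟨hz.1.neg, by rw [cpr_neg cs h _ H.root, h2]; norm_num⟩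
    obtain ⟨g1, g2⟩ := hz1.forms H
    rw [form_neg_left, form_neg_right, neg_neg] at g2
    have hzx : -z ≠ x := by
      rintro rfl
      rw [cpr_neg_right cs h _ hz.1, cpr_self cs h hz.1] at e2
      omega
    have hzx' : -z ≠ -x := by
      intro h3
      rw [neg_inj.1 h3, hx.one] at h2; omega
    have hQ0 : cpr cs h z x = 0 := by
      have hzc : cpr cs h (-z) x = -cpr cs h z x := cpr_neg cs h _ hx.root
      rcases hx.ratio H hs hz1 hzx hzx' with ⟨h6, h3 | h3 | h3⟩ | ⟨h6, h3 | h3 | h3⟩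
      · omega
      · exfalso
        have h4 : cpr cs h z x = -2 := by omega
        rw [h4] at e2
        omega
      · exfalso
        have h4 : cpr cs h z x = 2 := by omega
        rw [h4] at e2
        rw [h6] at g2
        have ha2 : a = 2 * m := by omega
        have hb2 : b = 3 * m := by omega
        rw [ha2, hb2] at hF
        have : m * m * (form cs h z z * 2 - 5 * form cs h r r) = 0 := by
          linear_combination 2 * hF - 12 * (m * m) * f1 - 9 * (m * m) * f2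
        rcases mul_eq_zero.1 this with h10 | h10
        · omega
        · linarith only [h, hc, g2, h10]
      · omega
      · exfalso
        have h4 : cpr cs h z x = -1 := by omega
        rw [h4] at e2
        omega
      · exfalso
        have h4 : cpr cs h z x = 1 := by omega
        rw [h4] at e2
        rw [h6] at g2
        have hb2 : b = 2 * m := by omega
        have ha2 : 2 * a = 3 * m := by omega
        have : m * m * (4 * form cs h z z - 5 * form cs h r r) = 0 := by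
          have h11 : 4 * (m * m * form cs h z z) = (2 * a) * (2 * a) * form cs h r r +
            4 * ((2 * a) * b) * -form cs h x r + 4 * (b * b) * form cs h x x := by
            rw [hF]; ring
          rw [ha2, hb2] at h11
          linear_combination h11 - 12 * (m * m) * f1 - 8 * (m * m) * f2
        rcases mul_eq_zero.1 this with h10 | h10
        · omega
        · linarith only [h, hc, g2, h10]
    rw [hQ0] at e2
    have h6 : a = m := by omega
    have h7 : b = m := by omega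
    rw [h6, h7, ← smul_add] at he
    have h8 := smul_right_injective _ hm.ne' he
    rw [h8]
    abel

end Cfsg.Agent.H580.SNX
end

-- part: H580/SNX/Neg
section
/-!
S3831, task T7c: the central involution of `⟨X_r, X_{-r}⟩` inverts `X_x`, `⟨x, r^∨⟩ = 1` (helper580)
-/

set_option autoImplicit false
set_option linter.unusedSectionVars false

namespace Cfsg.Agent.H580.SNX

open CoxeterSystem Cfsg.Agent.ChevalleyStructure.CoxeterGeom Cfsg.Agent.Tits.Roots Cfsg.Agent.Tits.Core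
  Cfsg.Agent.Tits.RootComb Cfsg.Agent.Tits.Exchange Cfsg.Agent.Nodes.Reps Cfsg.Agent.Nodes.BNOf
  Cfsg.Agent.Nodes.StabComb Cfsg.Agent.Nodes.Bruhat Cfsg.Agent.Nodes.OppDec Cfsg.Agent.Nodes.LeviDec
  Cfsg.Agent.Nodes.NormX Cfsg.Agent.Nodes.Coroot Cfsg.Agent.KFacts.RgdSL Cfsg.Agent.Nodes.PosPair
  Cfsg.Agent.H142.SNX Cfsg.Agent.KFacts.RgdTI
open Cfsg.Agent.H880.Six (Br)
open Matrix
open scoped commutatorElement

/-! ### the abstract computation -/

/-- `u` centralises `A`, `e` centralises `B`, the rest modulo `D`, which is central. -/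
theorem inv_core {Y : Type*} [Group Y] {u e m : Y} {A B D : Subgroup Y} (hm : m = u * e * u)
    (c1 : ∀ a ∈ A, u * a = a * u) (c2 : ∀ b ∈ B, e * b = b * e)
    (e1 : ∀ a ∈ A, ∃ b ∈ B, ∃ d ∈ D, e * a * e⁻¹ = a * b * d)
    (u1 : ∀ b ∈ B, ∃ a ∈ A, ∃ d ∈ D, u * b * u⁻¹ = b * a * d)
    (du : ∀ d ∈ D, u * d = d * u) (de : ∀ d ∈ D, e * d = d * e)
    (dA : ∀ d ∈ D, ∀ a ∈ A, a * d = d * a) (dB : ∀ d ∈ D, ∀ b ∈ B, b * d = d * b)
    (hAB : ∀ a ∈ A, ∀ b ∈ B, ∃ d ∈ D, a * b = b * a * d)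
    (hmA : ∀ a ∈ A, m * a * m⁻¹ ∈ B) (hmB : ∀ b ∈ B, m * b * m⁻¹ ∈ A)
    (i1 : ∀ a ∈ A, ∀ b ∈ B, ∀ d ∈ D, a * b * d = 1 → a = 1) (i2 : ∀ b ∈ B, b ∈ D → b = 1)
    (i3 : ∀ a ∈ A, a ∈ D → a = 1) {v : Y} (hv : v ∈ A) : m * m * v * (m * m)⁻¹ = v⁻¹ := by
  obtain ⟨w, hw, d, hd, he⟩ := e1 v hv
  obtain ⟨v1, hv1, d1, hd1, hu⟩ := u1 w hw
  obtain ⟨d2, hd2, hc⟩ := hAB v1 hv1 w hw
  -- `m v m⁻¹ = v v1 w ...`
  have hmv : m * v * m⁻¹ = v * (w * v1 * d1) * d := by
    have s1 : u * v * u⁻¹ = v := by rw [c1 v hv]; group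
    have s2 : u * d * u⁻¹ = d := by rw [du d hd]; group
    calc m * v * m⁻¹ = u * (e * (u * v * u⁻¹) * e⁻¹) * u⁻¹ := by rw [hm]; group
      _ = u * (v * w * d) * u⁻¹ := by rw [s1, he]
      _ = (u * v * u⁻¹) * (u * w * u⁻¹) * (u * d * u⁻¹) := by group
      _ = _ := by rw [s1, hu, s2]
  have hwv : w * v1 = v1 * w * d2⁻¹ := by
    rw [hc]; group
  have hb0 := hmA v hv
  have h1 : (v * v1) * (w * (m * v * m⁻¹)⁻¹) * (d2⁻¹ * d1 * d) = 1 := by
    have h2 : m * v * m⁻¹ = v * v1 * w * (d2⁻¹ * d1 * d) := by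
      rw [hmv, hwv]; group
    have h3 : d2⁻¹ * d1 * d ∈ D := mul_mem (mul_mem (inv_mem hd2) hd1) hd
    have h4 := dB _ h3 _ (inv_mem hb0)
    calc (v * v1) * (w * (m * v * m⁻¹)⁻¹) * (d2⁻¹ * d1 * d)
        = (v * v1 * w) * ((m * v * m⁻¹)⁻¹ * (d2⁻¹ * d1 * d)) := by group
      _ = (v * v1 * w) * ((d2⁻¹ * d1 * d) * (m * v * m⁻¹)⁻¹) := by rw [h4]
      _ = (v * v1 * w * (d2⁻¹ * d1 * d)) * (m * v * m⁻¹)⁻¹ := by group
      _ = 1 := by rw [← h2, mul_inv_cancel]
  have h2 := i1 _ (mul_mem hv hv1) _ (mul_mem hw (inv_mem hb0)) _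
    (mul_mem (mul_mem (inv_mem hd2) hd1) hd) h1
  have hv1' : v1 = v⁻¹ := eq_inv_of_mul_eq_one_right h2
  rw [h2, one_mul] at h1
  have h3 : w * (m * v * m⁻¹)⁻¹ = 1 := by
    refine i2 _ (mul_mem hw (inv_mem hb0)) ?_
    rw [eq_inv_of_mul_eq_one_left h1]
    exact inv_mem (mul_mem (mul_mem (inv_mem hd2) hd1) hd)
  have h4 : m * v * m⁻¹ = w := (mul_inv_eq_one.1 h3).symm
  -- `m w m⁻¹ = v⁻¹`
  have hmw : m * w * m⁻¹ = v⁻¹ * (d⁻¹ * d1) := by
    have s2 : u * (d⁻¹ * d1) * u⁻¹ = d⁻¹ * d1 := by rw [du _ (mul_mem (inv_mem hd) hd1)]; group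
    have s3 : u * v⁻¹ * u⁻¹ = v⁻¹ := by rw [c1 _ (inv_mem hv)]; group
    have s4 : e * w * e⁻¹ = w := by rw [c2 w hw]; group
    have s5 : e * v⁻¹ * e⁻¹ = (v * w * d)⁻¹ := by rw [← he]; group
    have s6 : e * d1 * e⁻¹ = d1 := by rw [de _ hd1]; group
    have s7 : w * d⁻¹ * w⁻¹ = d⁻¹ := by rw [dB _ (inv_mem hd) w hw]; group
    calc m * w * m⁻¹ = u * (e * (u * w * u⁻¹) * e⁻¹) * u⁻¹ := by rw [hm]; group
      _ = u * (e * (w * v⁻¹ * d1) * e⁻¹) * u⁻¹ := by rw [hu, hv1']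
      _ = u * ((e * w * e⁻¹) * (e * v⁻¹ * e⁻¹) * (e * d1 * e⁻¹)) * u⁻¹ := by group
      _ = u * (w * (v * w * d)⁻¹ * d1) * u⁻¹ := by rw [s4, s5, s6]
      _ = u * ((w * d⁻¹ * w⁻¹) * v⁻¹ * d1) * u⁻¹ := by group
      _ = u * (d⁻¹ * v⁻¹ * d1) * u⁻¹ := by rw [s7]
      _ = u * (v⁻¹ * (d⁻¹ * d1)) * u⁻¹ := by rw [← dA _ (inv_mem hd) _ (inv_mem hv)]; group
      _ = (u * v⁻¹ * u⁻¹) * (u * (d⁻¹ * d1) * u⁻¹) := by group
      _ = _ := by rw [s2, s3]
  have h5 : d⁻¹ * d1 = 1 := by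
    refine i3 _ ?_ (mul_mem (inv_mem hd) hd1)
    have h6 : d⁻¹ * d1 = v * (m * w * m⁻¹) := by rw [hmw]; group
    rw [h6]
    exact mul_mem hv (hmB w hw)
  rw [h5, mul_one] at hmw
  calc m * m * v * (m * m)⁻¹ = m * (m * v * m⁻¹) * m⁻¹ := by group
    _ = v⁻¹ := by rw [h4, hmw]

/-! ### root groups -/

variable {I W : Type*} [Fintype I] [DecidableEq I] [Group W] {Y : Type*} [Group Y] {M : CoxeterMatrix I}
  {cs : CoxeterSystem M W} {A : I → I → ℤ} {h : IsCartan M A} {T : Subgroup Y} {n : I → Y}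
  {X : (I → ℤ) → Subgroup Y}

/-- the open cone is closed -/
theorem closed_cone (p q : I → ℤ) : Nodes.Unique.Closed cs h {z | Btwn cs h p q z} := by
  rintro x ⟨-, m1, a1, b1, hm1, ha1, hb1, e1⟩ y ⟨-, m2, a2, b2, hm2, ha2, hb2, e2⟩ z ⟨hz, m, a, b, hm, ha, hb, e⟩
  refine ⟨hz, m * m1 * m2, a * m2 * a1 + b * m1 * a2, a * m2 * b1 + b * m1 * b2, by positivity, by (clear * - hm1 ha1 hm2 ha2 ha hb; positivity),
    by positivity, ?_⟩
  have h1 : (m * m1 * m2) • z = (a * m2) • (m1 • x) + (b * m1) • (m2 • y) := by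
    have : (m * m1 * m2) • z = (m1 * m2) • (m • z) := by module
    rw [this, e]
    module
  rw [h1, e1, e2]
  module

/-- the boundary root group meets the open cone trivially -/
theorem inf_cone [Finite W] (R : RGD cs h 3 T n X) {p q : I → ℤ} (hp : IsRoot cs h p) (hq : IsRoot cs h q)
    (hpq : p ≠ q) (hpq' : p ≠ -q) : X q ⊓ RGD.Sup X {z | Btwn cs h p q z} = ⊥ := by
  obtain ⟨w, hwp, hwq⟩ := exists_pos_pair (cs := cs) (h := h) hp hq hpq'
  obtain ⟨k, hk⟩ := exists_rp cs R.nsys w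
  have hne : rep cs h w p ≠ rep cs h w q := by
    intro h1
    apply hpq
    rw [← rep_inv_apply cs h w p, h1, rep_inv_apply]
  rw [eq_bot_iff]
  rintro g ⟨h1, h2⟩
  rw [Subgroup.mem_bot]
  have h3 : k * g * k⁻¹ ∈ RGD.Sup X {rep cs h w q} :=
    RGD.le_Sup (S := {rep cs h w q}) (Set.mem_singleton _) (R.conj_mem hk hq h1)
  have h4 : k * g * k⁻¹ ∈ RGD.Sup X {z | Btwn cs h (rep cs h w p) (rep cs h w q) z} := by
    have h5 : cj k (RGD.Sup X {z | Btwn cs h p q z}) ≤
        RGD.Sup X {z | Btwn cs h (rep cs h w p) (rep cs h w q) z} := by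
      refine cj_Sup_le R hk (fun x hx => hx.1) fun x hx => ?_
      exact hx.act w
    exact h5 (conj_mem_cj.2 h2)
  have h5 : k * g * k⁻¹ ∈ RGD.Sup X {rep cs h w q} ⊓ RGD.Sup X {z | Btwn cs h (rep cs h w p) (rep cs h w q) z} :=
    ⟨h3, h4⟩
  rw [Nodes.Unique.inf_eq R (S := {rep cs h w q}) (by
      rintro x hx
      rw [Set.mem_singleton_iff] at hx
      rw [hx]
      exact ⟨hq.act w, hwq⟩) (by
      rintro x hx
      exact ⟨hx.1, RGD.nonneg_of_btwn hwp hwq hx⟩) (by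
      intro x hx y hy z hz
      rw [Set.mem_singleton_iff] at hx hy ⊢
      subst hx hy
      exact Nodes.Unique.btwn_self (hq.act w) hz) (closed_cone _ _)] at h5
  have h6 : ({rep cs h w q} : Set (I → ℤ)) ∩ {z | Btwn cs h (rep cs h w p) (rep cs h w q) z} = ∅ := by
    rw [Set.eq_empty_iff_forall_notMem]
    rintro x ⟨hx, hx'⟩
    rw [Set.mem_singleton_iff] at hx
    exact Nodes.Unique.btwn_ne_right (hp.act w) (hq.act w) hwp hwq hne hx' hx
  rw [h6, Sup_empty, Subgroup.mem_bot] at h5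
  have : g = k⁻¹ * (k * g * k⁻¹) * k := by group
  rw [this, h5]; group

/-- root groups are centralised modulo `Long` -/
theorem lr_of_long [Finite W] [Finite Y] {r : I → ℤ} {R : RGD cs h 3 T n X} (L : Long R r (X r)) {u : Y}
    (f : Fact3 X r u) : LR R r := by
  have hfw := Fintype.ofFinite W
  have key : ∀ x, IsRoot cs h x → 0 ≤ x → ∀ a ∈ X x, ∀ v ∈ X r, a * v = v * a := by
    intro x hx h0 a ha v hv
    have h1 : a * u * a⁻¹ ∈ Subgroup.zpowers u := by
      rw [← f.zp]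
      exact (Subgroup.mem_normalizer_iff.1 (L.B (RGD.X_le_B hx h0 ha)) u).1 f.mem
    obtain ⟨k, hk⟩ := R.pgrp' hx ⟨a, ha⟩
    have h2 := comm_of_zp f.cube f.ne h1 (k := k) (congrArg Subtype.val hk)
    rw [f.zp] at hv
    obtain ⟨m, rfl⟩ := Subgroup.mem_zpowers_iff.1 hv
    have h3 : Commute a u := by
      show a * u = u * a
      nth_rw 2 [← h2]; group
    exact (h3.zpow_right m).eq
  refine ⟨L.root, fun x hx hc a ha v hv => ?_⟩
  rcases hx.pos_or_neg with h0 | h0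
  · exact key x hx h0 a ha v hv
  · -- `x` is orthogonal to `r`
    have h1 : cpr cs h x r = 0 := by
      refine le_antisymm ?_ hc
      have h2 := form_nonneg_of_dom cs h L.dom (neg_nonneg.2 h0)
      rw [form_neg_right] at h2
      by_contra h3
      have h4 := (cpr_pos_iff cs h x L.root).1 (not_le.1 h3)
      rw [form_comm] at h4
      omega
    obtain ⟨s, hs⟩ := exists_refl (cs := cs) (h := h) hx
    have h2 : rep cs h s r = r := by
      rw [hs, (cpr_zero_comm cs h hx L.root).1 h1, zero_smul, sub_zero]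
    have h3 : rep cs h s x = -x := by
      rw [hs, cpr_self cs h hx]; module
    obtain ⟨k, hk⟩ := exists_rp cs R.nsys s
    have h4 := R.conj_mem hk hx ha
    have h5 := R.conj_mem hk L.root hv
    rw [h3] at h4
    rw [h2] at h5
    have h6 := key (-x) hx.neg (neg_nonneg.2 h0) _ h4 _ h5
    have e1 : a * v = k⁻¹ * ((k * a * k⁻¹) * (k * v * k⁻¹)) * k := by group
    have e2 : v * a = k⁻¹ * ((k * v * k⁻¹) * (k * a * k⁻¹)) * k := by group
    rw [e1, e2, h6]

/-- **the Weyl element** -/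
theorem exists_weyl [Finite W] [Finite Y] {r : I → ℤ} (R : RGD cs h 3 T n X) {i j : I} (hij : M i j = 3) {w : W}
    (hw : rep cs h w (sr i) = r) (hc : Nat.card (X (sr i)) = 3) {u b : Y} (hu : u ∈ X r)
    (hb : b ∈ X (-r)) (hbr : Br u b) : ∃ s : W, (∀ y, rep cs h s y = y - cpr cs h y r • r) ∧
      Rp cs R.nsys s (u * b * u) ∧ (u * b) ^ 3 = (u * b * u) * (u * b * u) := by
  have hr : IsRoot cs h r := by rw [← hw]; exact (isRoot_sr cs h i).act w
  obtain ⟨F, _, ψ, hF, hinj, h1, h2⟩ := exists_psi R hij hw hc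
  have h3 := three_zero hF
  obtain ⟨a, rfl⟩ := (h1 u).1 hu
  obtain ⟨c, rfl⟩ := (h2 b).1 hb
  rw [br_map_iff ψ hinj] at hbr
  have ha : a ≠ 0 := by
    rintro rfl
    obtain ⟨-, h4, -⟩ := hbr
    apply h4
    rw [tu_zero, one_mul]
    have : ∀ c : F, (tl c) ^ 3 = 1 := by
      intro c
      apply sl_ext
      rw [pow_succ, pow_two]
      change (tl c).1 * (tl c).1 * (tl c).1 = (1 : Matrix (Fin 2) (Fin 2) F)
      rw [coe_tl]
      ext i j
      (revert i j; simp only [Matrix.mul_apply, Fin.sum_univ_two, _root_.Fin.forall_fin_succ, _root_.Matrix.cons_mul, _root_.Nat.succ_eq_add_one, Nat.reduceAdd, _root_.Matrix.vecMul_cons, _root_.Matrix.head_cons, _root_.one_smul, _root_.Matrix.tail_cons, _root_.zero_smul, _root_.Matrix.empty_vecMul, _root_.add_zero, _root_.Matrix.smul_cons, _root_.smul_eq_mul, _root_.mul_one, _root_.MulZeroClass.mul_zero, _root_.Matrix.smul_empty, _root_.Matrix.add_cons, _root_.zero_add, _root_.Matrix.empty_add_empty,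 _root_.Matrix.empty_mul, _root_.Equiv.symm_apply_apply, _root_.Matrix.of_apply, _root_.Matrix.cons_val', _root_.Matrix.cons_val_fin_one, Fin.isValue, _root_.Matrix.cons_val_zero, _root_.Matrix.cons_val_one, _root_.Matrix.cons_val_succ, _root_.IsEmpty.forall_iff, _root_.MulZeroClass.zero_mul, _root_.Matrix.one_apply_eq, _root_.Fin.succ_zero_eq_one, _root_.ne_eq, _root_.zero_ne_one, _root_.not_false_eq_true, _root_.Matrix.one_apply_ne, _root_.one_mul, _root_.Fin.succ_ne_zero, _root_.and_true, _root_.true_and]) <;> (repeat' with_reducible apply And.intro)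
      linear_combination c * h3
    exact this c
  have hc0 : c ≠ 0 := by
    rintro rfl
    exact not_br_zero h3 hbr
  have hac : a * c = -1 := by
    have key : a * c = 1 ∨ a * c = -1 := by
      rcases sq_of_ne hF ha with h | h <;> rcases sq_of_ne hF hc0 with h' | h' <;> rw [h, h'] <;> simp
    rcases key with h | h
    · exact absurd hbr (not_br_of_pos h3 h)
    · exact h
  have hbne : ψ (tl c) ≠ 1 := by
    intro h4
    rw [← map_one ψ] at h4
    have h5 := congrFun (congrFun (congrArg Subtype.val (hinj h4)) 1) 0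
    rw [coe_tl] at h5
    exact hc0 (by simpa using h5)
  obtain ⟨s, hs, α, hα, β, hβ, m, hm, hme⟩ := exists_mu R hr.neg (u := ψ (tl c)) hb hbne
  rw [neg_neg] at hα hβ
  obtain ⟨t, rfl⟩ := (h1 α).1 hα
  obtain ⟨t', rfl⟩ := (h1 β).1 hβ
  have hs' : ∀ y, rep cs h s y = y - cpr cs h y r • r := by
    intro y
    rw [hs, cpr_neg_right cs h _ hr]
    module
  have hsr : rep cs h s r = -r := by
    rw [hs', cpr_self cs h hr]; module
  -- `t = a`
  have hM : m = ψ (tu t * tl c * tu t') := by rw [map_mul, map_mul, hme]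
  have ht : t = a := by
    have h4 := R.conj_mem hm hr ((h1 _).2 ⟨1, rfl⟩)
    rw [hsr] at h4
    obtain ⟨γ, hγ⟩ := (h2 _).1 h4
    rw [hM, ← map_inv, ← map_mul, ← map_mul] at hγ
    have h5 := hinj hγ
    have h6 : tl γ * (tu t * tl c * tu t') = (tu t * tl c * tu t') * tu 1 := by rw [h5]; group
    have h7 := congrArg Subtype.val h6
    change (tl γ).1 * ((tu t).1 * (tl c).1 * (tu t').1) = ((tu t).1 * (tl c).1 * (tu t').1) * (tu 1).1 at h7
    rw [coe_tl, coe_tl, coe_tu, coe_tu, coe_tu] at h7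
    have h8 := congrFun (congrFun h7 0) 1
    simp only [Matrix.mul_apply, Fin.sum_univ_two, _root_.Matrix.cons_mul, _root_.Nat.succ_eq_add_one, _root_.Nat.reduceAdd, _root_.Matrix.vecMul_cons, _root_.Matrix.head_cons, _root_.one_smul, _root_.Matrix.tail_cons, _root_.Matrix.smul_cons, _root_.smul_eq_mul, _root_.mul_one, _root_.Matrix.smul_empty, _root_.Matrix.empty_vecMul, _root_.add_zero, _root_.Matrix.add_cons, _root_.zero_add, _root_.Matrix.empty_add_empty, _root_.zero_smul, _root_.Matrix.empty_mul, _root_.Equiv.symm_apply_apply, _root_.MulZeroClass.mul_zero, _root_.Fin.isValue, _root_.Matrix.of_apply, _root_.Matrix.cons_val', _root_.Matrix.cons_val_fin_one, _root_.Matrix.cons_val_zero, _root_.Matrix.cons_val_one, _root_.one_mul, _root_.MulZeroClass.zero_mul, _root_.right_eq_add] at h8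
    -- `1 + t c = 0`
    have h9 : 1 + t * c = 0 := by linear_combination h8
    have h10 : (t - a) * c = 0 := by linear_combination h9 - hac
    rcases mul_eq_zero.1 h10 with h11 | h11
    · exact sub_eq_zero.1 h11
    · exact absurd h11 hc0
  have ht' : t' = a := by
    have h4 := R.conj_mem hm hr.neg ((h2 _).2 ⟨1, rfl⟩)
    rw [map_neg, hsr, neg_neg] at h4
    obtain ⟨γ, hγ⟩ := (h1 _).1 h4
    rw [hM, ← map_inv, ← map_mul, ← map_mul] at hγ
    have h5 := hinj hγ
    have h6 : tu γ * (tu t * tl c * tu t') = (tu t * tl c * tu t') * tl 1 := by rw [h5]; group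
    have h7 := congrArg Subtype.val h6
    change (tu γ).1 * ((tu t).1 * (tl c).1 * (tu t').1) = ((tu t).1 * (tl c).1 * (tu t').1) * (tl 1).1 at h7
    rw [coe_tl, coe_tl, coe_tu, coe_tu, coe_tu] at h7
    have h8 := congrFun (congrFun h7 1) 0
    simp only [Matrix.mul_apply, Fin.sum_univ_two, _root_.Matrix.cons_mul, _root_.Nat.succ_eq_add_one, _root_.Nat.reduceAdd, _root_.Matrix.vecMul_cons, _root_.Matrix.head_cons, _root_.one_smul, _root_.Matrix.tail_cons, _root_.Matrix.smul_cons, _root_.smul_eq_mul, _root_.mul_one, _root_.Matrix.smul_empty, _root_.Matrix.empty_vecMul, _root_.add_zero, _root_.Matrix.add_cons, _root_.zero_add, _root_.Matrix.empty_add_empty, _root_.zero_smul, _root_.Matrix.empty_mul, _root_.Equiv.symm_apply_apply, _root_.MulZeroClass.mul_zero, _root_.Fin.isValue, _root_.Matrix.of_apply, _root_.Matrix.cons_val', _root_.Matrix.cons_val_fin_one, _root_.Matrix.cons_val_one, _root_.Matrix.cons_val_zero, _root_.MulZeroClass.zero_mul,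 _root_.one_mul, _root_.left_eq_add] at h8
    have h9 : 1 + t' * c = 0 := by first | linear_combination h8 | linear_combination -h8
    have h10 : (t' - a) * c = 0 := by linear_combination h9 - hac
    rcases mul_eq_zero.1 h10 with h11 | h11
    · exact sub_eq_zero.1 h11
    · exact absurd h11 hc0
  refine ⟨s, hs', ?_, ?_⟩
  · rw [← map_mul, ← map_mul]
    rw [hM, ht, ht'] at hm
    exact hm
  · rw [← map_mul, ← map_mul, ← map_mul, ← map_pow]
    congr 1
    rw [cube_of_neg h3 hac]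
    apply sl_ext
    change (!![-1, 0; 0, -1] : Matrix (Fin 2) (Fin 2) F) =
      ((tu a).1 * (tl c).1 * (tu a).1) * ((tu a).1 * (tl c).1 * (tu a).1)
    rw [coe_tu, coe_tl]
    have hmul : (!![1, a; 0, 1] * !![1, 0; c, 1] * !![1, a; 0, 1] : Matrix (Fin 2) (Fin 2) F) = !![0, a; c, 0] := by
      ext i j
      (revert i j; simp only [Matrix.mul_apply, Fin.sum_univ_two, _root_.Fin.forall_fin_succ, _root_.Matrix.cons_mul, _root_.Nat.succ_eq_add_one, Nat.reduceAdd, _root_.Matrix.vecMul_cons, _root_.Matrix.head_cons, _root_.one_smul, _root_.Matrix.tail_cons, _root_.Matrix.smul_cons, _root_.smul_eq_mul, _root_.mul_one, _root_.Matrix.smul_empty, _root_.Matrix.empty_vecMul, _root_.add_zero, _root_.Matrix.add_cons, _root_.zero_add, _root_.Matrix.empty_add_empty, _root_.zero_smul, _root_.Matrix.empty_mul, _root_.Equiv.symm_apply_apply, _root_.Matrix.of_apply, _root_.Matrix.cons_val', _root_.Matrix.cons_val_fin_one, Fin.isValue, _root_.Matrix.cons_val_zero,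 _root_.Matrix.cons_val_one, _root_.MulZeroClass.mul_zero, _root_.Matrix.cons_val_succ, _root_.forall_const, _root_.add_eq_right, _root_.mul_eq_zero, _root_.and_true, _root_.true_and]) <;> (repeat' with_reducible apply And.intro)
      · linear_combination hac
      · exact Or.inl (by linear_combination hac)
      · linear_combination hac
    rw [hmul]
    ext i j
    (revert i j; simp only [Matrix.mul_apply, Fin.sum_univ_two, _root_.Fin.forall_fin_succ, _root_.Matrix.of_apply, _root_.Matrix.cons_val', _root_.Matrix.cons_val_fin_one, Fin.isValue, _root_.Matrix.cons_val_zero, _root_.Matrix.cons_val_one, _root_.MulZeroClass.mul_zero, _root_.zero_add, _root_.Matrix.cons_val_succ, _root_.add_zero, _root_.forall_const, _root_.MulZeroClass.zero_mul, _root_.and_true, _root_.true_and]) <;> (repeat' with_reducible apply And.intro)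
    · exact hac.symm
    · linear_combination -hac

end Cfsg.Agent.H580.SNX
end

-- part: H580/SNX/Root
section
/-!
S3831, task T7c: the root groups `X_x`, `⟨x, r^∨⟩ = 1` (helper580)
-/

set_option autoImplicit false
set_option linter.unusedSectionVars false

namespace Cfsg.Agent.H580.SNX

open CoxeterSystem Cfsg.Agent.ChevalleyStructure.CoxeterGeom Cfsg.Agent.Tits.Roots Cfsg.Agent.Tits.Core
  Cfsg.Agent.Tits.RootComb Cfsg.Agent.Tits.Exchange Cfsg.Agent.Nodes.Reps Cfsg.Agent.Nodes.BNOf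
  Cfsg.Agent.Nodes.StabComb Cfsg.Agent.Nodes.Bruhat Cfsg.Agent.Nodes.OppDec Cfsg.Agent.Nodes.LeviDec
  Cfsg.Agent.Nodes.NormX Cfsg.Agent.Nodes.Coroot Cfsg.Agent.KFacts.RgdSL Cfsg.Agent.Nodes.PosPair
  Cfsg.Agent.H142.SNX Cfsg.Agent.KFacts.RgdTI
open Cfsg.Agent.H880.Six (Br)
open scoped commutatorElement

variable {I W : Type*} [Fintype I] [DecidableEq I] [Group W] {Y : Type*} [Group Y] {M : CoxeterMatrix I}
  {cs : CoxeterSystem M W} {A : I → I → ℤ} {h : IsCartan M A} {T : Subgroup Y} {n : I → Y}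
  {X : (I → ℤ) → Subgroup Y}

section comb

variable [Finite W] {r x z : I → ℤ} (H : LgR cs h r) (hx : N1 cs h r x)

include H hx

theorem N1.ne_two : r ≠ (2 : ℤ) • x := by
  intro h1
  exact (hx.ne H).1 (Nodes.Unique.eq_of_ray hx.root H.root (a := 2) (b := 1) (by norm_num) (by norm_num)
    (by rw [one_smul, ← h1]))

/-- `x - r` -/
theorem N1.opp_root : IsRoot cs h (x - r) := by
  have := (hx.sub H).root.neg
  rwa [neg_sub] at this

theorem N1.opp_cpr : cpr cs h (x - r) r = -1 := by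
  rw [sub_eq_add_neg, cpr_add cs h _ _ H.root, cpr_neg cs h _ H.root, cpr_self cs h H.root, hx.one]
  norm_num

/-- the cone of `r` and `x - r` -/
theorem btwn_refl (hz : Btwn cs h r (x - r) z) : Btwn cs h (-r) x (z - cpr cs h z r • r) := by
  obtain ⟨s, hs⟩ := exists_refl (cs := cs) (h := h) H.root
  have h1 := hz.act s
  have e1 : rep cs h s r = -r := by rw [hs, cpr_self cs h H.root]; module
  have e2 : rep cs h s (x - r) = x := by rw [hs, hx.opp_cpr H]; module
  rwa [e1, e2, hs] at h1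

theorem btwn_opp_eq_long (hl : cpr cs h r x = 1) (hz : Btwn cs h r (x - r) z) : z = x := by
  have h1 := btwn_neg_long H hx hl (btwn_refl H hx hz)
  have h2 : cpr cs h (z - cpr cs h z r • r) r = cpr cs h (x - r) r := by rw [h1]
  rw [hx.opp_cpr H, sub_eq_add_neg, cpr_add cs h _ _ H.root, cpr_neg cs h _ H.root, cpr_smul cs h _ _ H.root,
    cpr_self cs h H.root] at h2
  have h3 : cpr cs h z r = 1 := by omega
  rw [h3, one_smul] at h1
  exact sub_left_injective h1

theorem btwn_opp_eq_short (hs : cpr cs h r x = 2) (hz : Btwn cs h r (x - r) z) : z = x ∨ z = (2 : ℤ) • x - r := by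
  have h0 : cpr cs h (z - cpr cs h z r • r) r = -cpr cs h z r := by
    rw [sub_eq_add_neg, cpr_add cs h _ _ H.root, cpr_neg cs h _ H.root, cpr_smul cs h _ _ H.root,
      cpr_self cs h H.root]
    ring
  rcases btwn_neg_short H hx hs (btwn_refl H hx hz) with h1 | h1
  · left
    have h2 : cpr cs h (z - cpr cs h z r • r) r = cpr cs h (x - r) r := by rw [h1]
    rw [hx.opp_cpr H, h0] at h2
    have h3 : cpr cs h z r = 1 := by omega
    rw [h3, one_smul] at h1
    exact sub_left_injective h1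
  · right
    have h2 : cpr cs h (z - cpr cs h z r • r) r = cpr cs h ((2 : ℤ) • x - r) r := by rw [h1]
    rw [h0, sub_eq_add_neg, cpr_add cs h _ _ H.root, cpr_neg cs h _ H.root, cpr_smul cs h _ _ H.root,
      cpr_self cs h H.root, hx.one] at h2
    have h3 : cpr cs h z r = 0 := by omega
    rwa [h3, zero_smul, sub_zero] at h1

/-- the cone of `x` and `x - r` -/
theorem btwn_inner (hz : Btwn cs h x (x - r) z) : Btwn cs h (-r) x z ∧ z ≠ x - r := by
  obtain ⟨hzr, m, a, b, hm, ha, hb, he⟩ := hz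
  refine ⟨⟨hzr, m, b, a + b, hm, hb, by omega, by rw [he]; module⟩, ?_⟩
  rintro rfl
  have h1 : cpr cs h (m • (x - r)) r = cpr cs h (a • x + b • (x - r)) r := by rw [he]
  rw [cpr_add cs h _ _ H.root, cpr_smul cs h _ _ H.root, cpr_smul cs h _ _ H.root, cpr_smul cs h _ _ H.root,
    hx.opp_cpr H, hx.one] at h1
  have h2 : m = b - a := by omega
  rw [h2] at he
  have h3 : a • (r - (2 : ℤ) • x) = 0 := by
    have : a • (r - (2 : ℤ) • x) = (b - a) • (x - r) - (a • x + b • (x - r)) := by module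
    rw [this, he, sub_self]
  rcases smul_eq_zero.1 h3 with h4 | h4
  · omega
  · exact hx.ne_two H (sub_eq_zero.1 h4)

end comb

section data

variable [Finite W] [Finite Y] {r : I → ℤ} {R : RGD cs h 3 T n X}

/-- the central part `D` -/
theorem exists_D (H : LgR cs h r) (lr : LR R r) {x : I → ℤ} (hx : N1 cs h r x) :
    ∃ D : Subgroup Y, (∀ d ∈ D, ∀ y, (y ∈ X r ∨ y ∈ X (-r) ∨ y ∈ X x ∨ y ∈ X (x - r)) → y * d = d * y) ∧
      Nodes.Reps.btw cs h X (-r) x ≤ X (x - r) ⊔ D ∧ Nodes.Reps.btw cs h X r (x - r) ≤ X x ⊔ D ∧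
      Nodes.Reps.btw cs h X x (x - r) ≤ D ∧ D ≤ RGD.Sup X {z | Btwn cs h (-r) x z} ∧
      X x ⊓ D = ⊥ ∧ X (x - r) ⊓ D = ⊥ := by
  have hfw := Fintype.ofFinite W
  rcases H.noG2 hx.root hx.one with hl | hs
  · refine ⟨⊥, ?_, ?_, ?_, ?_, bot_le, inf_bot_eq _, inf_bot_eq _⟩
    · intro d hd y _
      rw [Subgroup.mem_bot] at hd
      rw [hd, mul_one, one_mul]
    · rw [sup_bot_eq]
      exact btw_le_of fun z hz => btwn_neg_long H hx hl hz
    · rw [sup_bot_eq]
      exact btw_le_of fun z hz => btwn_opp_eq_long H hx hl hz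
    · rw [btw_eq_bot]
      intro z hz
      obtain ⟨h1, h2⟩ := btwn_inner H hx hz
      exact h2 (btwn_neg_long H hx hl h1)
  · obtain ⟨w, hw⟩ := hx.exists_delta H hs
    have hδ : IsRoot cs h ((2 : ℤ) • x - r) := hw ▸ H.root.act w
    have lrδ : LR R ((2 : ℤ) • x - r) := hw ▸ lr.act w
    obtain ⟨f1, f2⟩ := hx.forms H
    rw [hs] at f2
    have Fδ : form cs h ((2 : ℤ) • x - r) ((2 : ℤ) • x - r) = form cs h r r := by
      rw [← hw, form_rep]
    have c1 : cpr cs h r ((2 : ℤ) • x - r) = 0 := by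
      apply cpr_eq_of_form cs h hδ
      rw [form_sub_right, form_smul_right, form_comm cs h r x]
      linarith only [f1]
    have c2 : cpr cs h (-r) ((2 : ℤ) • x - r) = 0 := by
      rw [cpr_neg cs h _ hδ, c1, neg_zero]
    have c3 : cpr cs h x ((2 : ℤ) • x - r) = 1 := by
      apply cpr_eq_of_form cs h hδ
      rw [form_sub_right, form_smul_right, Fδ]
      linarith
    have c4 : cpr cs h (x - r) ((2 : ℤ) • x - r) = 1 := by
      rw [sub_eq_add_neg x r, cpr_add cs h _ _ hδ, c2, c3, add_zero]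
    refine ⟨X ((2 : ℤ) • x - r), ?_, ?_, ?_, ?_, ?_, ?_, ?_⟩
    · rintro d hd y (hy | hy | hy | hy)
      · exact lrδ.comm r H.root (by omega) y hy d hd
      · exact lrδ.comm (-r) H.root.neg (by omega) y hy d hd
      · exact lrδ.comm x hx.root (by omega) y hy d hd
      · exact lrδ.comm (x - r) (hx.opp_root H) (by omega) y hy d hd
    · refine iSup_le ?_
      rintro ⟨z, hz⟩
      rcases btwn_neg_short H hx hs hz with h1 | h1
      · show X z ≤ _
        rw [h1]; exact le_sup_left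
      · show X z ≤ _
        rw [h1]; exact le_sup_right
    · refine iSup_le ?_
      rintro ⟨z, hz⟩
      rcases btwn_opp_eq_short H hx hs hz with h1 | h1
      · show X z ≤ _
        rw [h1]; exact le_sup_left
      · show X z ≤ _
        rw [h1]; exact le_sup_right
    · refine btw_le_of fun z hz => ?_
      obtain ⟨h1, h2⟩ := btwn_inner H hx hz
      exact (btwn_neg_short H hx hs h1).resolve_left h2
    · refine RGD.le_Sup (S := {z | Btwn cs h (-r) x z}) ?_
      refine ⟨hδ, 1, 1, 2, by norm_num, by norm_num, by norm_num, ?_⟩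
      module
    · refine X_inf_X R hx.root hδ ?_
      intro h1
      have h2 : x = r := by
        have : x = (2 : ℤ) • x - x := by module
        rw [this]
        nth_rw 2 [h1]
        abel
      exact (hx.ne H).1 h2
    · refine X_inf_X R (hx.opp_root H) hδ ?_
      intro h1
      have h2 : x = 0 := by
        have : x = (2 : ℤ) • x - r - (x - r) := by module
        rw [this, ← h1, sub_self]
      exact hx.root.ne_zero h2

theorem mem_sup_of_comm {B D : Subgroup Y} (hD : ∀ d ∈ D, ∀ b ∈ B, b * d = d * b) {g : Y} (hg : g ∈ B ⊔ D) :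
    ∃ b ∈ B, ∃ d ∈ D, g = b * d := by
  have h1 : B ≤ Subgroup.normalizer (D : Set Y) := by
    intro b hb
    rw [Subgroup.mem_normalizer_iff]
    intro d
    constructor
    · intro hd
      rw [hD d hd b hb]
      have : d * b * b⁻¹ = d := by group
      rwa [this]
    · intro hd
      have h2 := hD _ hd b⁻¹ (inv_mem hb)
      have h3 : d = b⁻¹ * (b * d * b⁻¹) * b := by group
      have h4 : b⁻¹ * (b * d * b⁻¹) * b = b * d * b⁻¹ := by rw [h2]; group
      rw [h3, h4]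
      exact hd
  have h2 : g ∈ ((B ⊔ D : Subgroup Y) : Set Y) := hg
  rw [Subgroup.coe_mul_of_left_le_normalizer_right _ _ h1, Set.mem_mul] at h2
  obtain ⟨b, hb, d, hd, e⟩ := h2
  exact ⟨b, hb, d, hd, e.symm⟩

/-- **the central involution of `⟨X_r, X_{-r}⟩` inverts `X_x`** -/
theorem neg_root (H : LgR cs h r) (lr : LR R r) {u b : Y} (hu : u ∈ X r) (hb : b ∈ X (-r)) {s : W}
    (hs : ∀ y, rep cs h s y = y - cpr cs h y r • r) (hm : Rp cs R.nsys s (u * b * u)) {x : I → ℤ}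
    (hx : N1 cs h r x) {v : Y} (hv : v ∈ X x) :
    (u * b * u) * (u * b * u) * v * ((u * b * u) * (u * b * u))⁻¹ = v⁻¹ := by
  obtain ⟨D, hD, b1, b2, b3, b4, b5, b6⟩ := exists_D H lr hx
  have hxr := hx.opp_root H
  have hD1 : ∀ d ∈ D, ∀ a ∈ X x, a * d = d * a := fun d hd a ha => hD d hd a (Or.inr (Or.inr (Or.inl ha)))
  have hD2 : ∀ d ∈ D, ∀ a ∈ X (x - r), a * d = d * a := fun d hd a ha => hD d hd a (Or.inr (Or.inr (Or.inr ha)))
  have hrx : -r ≠ x := fun h1 => (hx.ne H).2 h1.symm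
  have hrx' : -r ≠ -x := fun h1 => (hx.ne H).1 (neg_injective h1).symm
  have hn1 : x - r ≠ r := by
    intro h1
    have := hx.opp_cpr H
    rw [h1, cpr_self cs h H.root] at this
    omega
  have hn2 : x - r ≠ -r := by
    intro h1
    exact hx.root.ne_zero (by simpa using h1)
  have hn3 : x ≠ x - r := by
    intro h1
    exact H.root.ne_zero (by simpa using h1.symm)
  have hn4 : x ≠ -(x - r) := by
    intro h1
    apply hx.ne_two H
    have : r = x - (x - r) := by abel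
    rw [this]
    nth_rw 1 [h1]
    rw [neg_sub]
    have h2 : r - x = x := by rw [← neg_sub]; exact h1.symm
    have h3 : r = (2 : ℤ) • x := by
      have : r = (r - x) + x := by abel
      rw [this, h2]; module
    rw [h3]; module
  refine inv_core (A := X x) (B := X (x - r)) (D := D) (u := u) (e := b) rfl ?_ ?_ ?_ ?_ ?_ ?_ hD1 hD2 ?_ ?_ ?_
    ?_ ?_ ?_ hv
  · intro a ha
    exact (lr.comm x hx.root (by rw [hx.one]; norm_num) a ha u hu).symm
  · intro a ha
    obtain ⟨w, hw⟩ := exists_rep_neg H.root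
    have lrn : LR R (-r) := hw ▸ lr.act w
    refine (lrn.comm (x - r) hxr ?_ a ha b hb).symm
    rw [cpr_neg_right cs h _ H.root, hx.opp_cpr H]
    norm_num
  · intro a ha
    have h1 := R.comm (-r) x H.root.neg hx.root hrx hrx' b hb a⁻¹ (inv_mem ha)
    have h2 : a⁻¹ * (b * a * b⁻¹) ∈ X (x - r) ⊔ D := by
      have e : a⁻¹ * (b * a * b⁻¹) = ⁅b, a⁻¹⁆⁻¹ := by
        rw [commutatorElement_def]; group
      rw [e]
      exact inv_mem (b1 h1)
    obtain ⟨c, hc, d, hd, e⟩ := mem_sup_of_comm hD2 h2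
    refine ⟨c, hc, d, hd, ?_⟩
    rw [mul_assoc a, ← e]; group
  · intro a ha
    have h1 := R.comm r (x - r) H.root hxr hn1.symm (fun h2 => hn2 (neg_eq_iff_eq_neg.2 h2).symm) u hu a⁻¹ (inv_mem ha)
    have h2 : a⁻¹ * (u * a * u⁻¹) ∈ X x ⊔ D := by
      have e : a⁻¹ * (u * a * u⁻¹) = ⁅u, a⁻¹⁆⁻¹ := by
        rw [commutatorElement_def]; group
      rw [e]
      exact inv_mem (b2 h1)
    obtain ⟨c, hc, d, hd, e⟩ := mem_sup_of_comm hD1 h2
    refine ⟨c, hc, d, hd, ?_⟩
    rw [mul_assoc a, ← e]; group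
  · exact fun d hd => hD d hd u (Or.inl hu)
  · exact fun d hd => hD d hd b (Or.inr (Or.inl hb))
  · intro a ha c hc
    refine ⟨⁅a⁻¹, c⁻¹⁆, b3 (R.comm x (x - r) hx.root hxr hn3 hn4 _ (inv_mem ha) _ (inv_mem hc)), ?_⟩
    rw [commutatorElement_def]; group
  · intro a ha
    have := R.conj_mem hm hx.root ha
    rwa [hs, hx.one, one_smul] at this
  · intro a ha
    have := R.conj_mem hm hxr ha
    rwa [hs, hx.opp_cpr H, neg_one_smul, sub_neg_eq_add, sub_add_cancel] at this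
  · intro a ha c hc d hd he
    have h1 : a ∈ RGD.Sup X {z | Btwn cs h (-r) x z} := by
      have e : a = (c * d)⁻¹ := eq_inv_of_mul_eq_one_left (by rw [← mul_assoc, he])
      rw [e]
      refine inv_mem (mul_mem ?_ (b4 hd))
      refine RGD.le_Sup (S := {z | Btwn cs h (-r) x z}) ?_ hc
      refine ⟨hxr, 1, 1, 1, by norm_num, by norm_num, by norm_num, ?_⟩
      module
    have h2 : a ∈ X x ⊓ RGD.Sup X {z | Btwn cs h (-r) x z} := ⟨ha, h1⟩
    rw [inf_cone R H.root.neg hx.root hrx hrx', Subgroup.mem_bot] at h2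
    exact h2
  · intro c hc hd
    have h2 : c ∈ X (x - r) ⊓ D := ⟨hc, hd⟩
    rwa [b6, Subgroup.mem_bot] at h2
  · intro c hc hd
    have h2 : c ∈ X x ⊓ D := ⟨hc, hd⟩
    rwa [b5, Subgroup.mem_bot] at h2

end data

end Cfsg.Agent.H580.SNX
end

-- part: H580/SNX/Nd
section
/-!
S3831, task T7c: commutators of the root groups `X_x`, `⟨x, r^∨⟩ = 1` (helper580)
-/

set_option autoImplicit false
set_option linter.unusedSectionVars false

namespace Cfsg.Agent.H580.SNX

open CoxeterSystem Cfsg.Agent.ChevalleyStructure.CoxeterGeom Cfsg.Agent.Tits.Roots Cfsg.Agent.Tits.Core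
  Cfsg.Agent.Tits.RootComb Cfsg.Agent.Tits.Exchange Cfsg.Agent.Nodes.Reps Cfsg.Agent.Nodes.BNOf
  Cfsg.Agent.Nodes.StabComb Cfsg.Agent.Nodes.Bruhat Cfsg.Agent.Nodes.OppDec Cfsg.Agent.Nodes.LeviDec
  Cfsg.Agent.Nodes.NormX Cfsg.Agent.Nodes.Coroot Cfsg.Agent.KFacts.RgdSL Cfsg.Agent.Nodes.PosPair
  Cfsg.Agent.H142.SNX Cfsg.Agent.KFacts.RgdTI
open Cfsg.Agent.H880.Six (Br)
open scoped commutatorElement

variable {I W : Type*} [Fintype I] [DecidableEq I] [Group W] {Y : Type*} [Group Y] {M : CoxeterMatrix I}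
  {cs : CoxeterSystem M W} {A : I → I → ℤ} {h : IsCartan M A} {T : Subgroup Y} {n : I → Y}
  {X : (I → ℤ) → Subgroup Y}

section comb

variable [Finite W] {r x y z : I → ℤ} (H : LgR cs h r)

include H

theorem N1.ne_neg (hx : N1 cs h r x) (hy : N1 cs h r y) : x ≠ -y := by
  intro h1
  have h2 := hx.one
  rw [h1, cpr_neg cs h _ H.root, hy.one] at h2
  omega

/-- two short roots of `N1` with a root in between add up to `r` -/
theorem add_eq_of_btwn (hx : N1 cs h r x) (hy : N1 cs h r y) (hxs : cpr cs h r x = 2) (hys : cpr cs h r y = 2)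
    (hz : Btwn cs h x y r) : x + y = r := by
  have := Fintype.ofFinite W
  obtain ⟨m, a, b, hm, ha, hb, he, hv⟩ := btwn_eqs hz
  have e1 := hv r H.root
  rw [hx.one, hy.one, cpr_self cs h H.root] at e1
  have e2 := hv x hx.root
  have e3 := hv y hy.root
  rw [hxs, cpr_self cs h hx.root] at e2
  rw [hys, cpr_self cs h hy.root] at e3
  obtain ⟨f1, f2⟩ := hx.forms H
  obtain ⟨f3, f4⟩ := hy.forms H
  rw [hxs] at f2
  rw [hys] at f4
  have hxx := form_pos cs h hx.root.ne_zero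
  have h4 := two_form_cpr cs h x hy.root
  have h5 := two_form_cpr cs h y hx.root
  rw [form_comm] at h5
  have h6 : cpr cs h x y = cpr cs h y x := by
    have h7 : (cpr cs h x y - cpr cs h y x) * form cs h x x = 0 := by
      have : form cs h y y = form cs h x x := by linarith only [f2, f4]
      rw [this] at h4
      linarith only [h4, h5]
    rcases mul_eq_zero.1 h7 with h8 | h8
    · linarith only [h, h8]
    · (clear * - hxx h8; omega)
  rw [h6] at e3
  -- `2 m = a + b`, `2 m = 2 a + b t`, `2 m = a t + 2 b`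
  have h7 : (a + b) * cpr cs h y x = 0 := by linarith only [e1, e2, e3]
  have h8 : cpr cs h y x = 0 := by
    rcases mul_eq_zero.1 h7 with h8 | h8
    · omega
    · exact h8
  rw [h8] at e2 e3
  have h9 : a = m := by omega
  have h10 : b = m := by omega
  rw [h9, h10, ← smul_add] at he
  exact (smul_right_injective _ hm.ne' he).symm

/-- the cone of `r - 2 x` and `x`, `x` short -/
theorem btwn_delta (hx : N1 cs h r x) (hs : cpr cs h r x = 2) (hz : Btwn cs h (r - (2 : ℤ) • x) x z) :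
    z = r - x ∨ z = r := by
  obtain ⟨s, hs'⟩ := exists_refl (cs := cs) (h := h) hx.root
  have h1 := hz.act s
  have c1 : cpr cs h (r - (2 : ℤ) • x) x = -2 := by
    rw [sub_eq_add_neg, cpr_add cs h _ _ hx.root, cpr_neg cs h _ hx.root, cpr_smul cs h _ _ hx.root,
      cpr_self cs h hx.root, hs]
    norm_num
  have e1 : rep cs h s (r - (2 : ℤ) • x) = r := by rw [hs', c1]; module
  have e2 : rep cs h s x = -x := by rw [hs', cpr_self cs h hx.root]; module
  rw [e1, e2] at h1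
  have h2 : Btwn cs h (-r) x (-(rep cs h s z)) := by
    have := btwn_neg_iff.2 h1
    rwa [neg_neg] at this
  have h3 : z = rep cs h s (rep cs h s z) := by
    have h4 : cpr cs h (z - cpr cs h z x • x) x = -cpr cs h z x := by
      rw [sub_eq_add_neg, cpr_add cs h _ _ hx.root, cpr_neg cs h _ hx.root, cpr_smul cs h _ _ hx.root,
        cpr_self cs h hx.root]
      ring
    rw [hs', hs', h4]; module
  have c2 : cpr cs h (r - x) x = 0 := by
    rw [sub_eq_add_neg, cpr_add cs h _ _ hx.root, cpr_neg cs h _ hx.root, cpr_self cs h hx.root, hs]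
    norm_num
  rcases btwn_neg_short H hx hs h2 with h4 | h4
  · left
    have h5 : rep cs h s z = r - x := by rw [← neg_sub, ← h4, neg_neg]
    rw [h3, h5, hs', c2, zero_smul, sub_zero]
  · right
    have h5 : rep cs h s z = r - (2 : ℤ) • x := by rw [← neg_sub, ← h4, neg_neg]
    rw [h3, h5, e1]

end comb

section data

variable [Finite W] [Finite Y] {r : I → ℤ} {R : RGD cs h 3 T n X}

/-- **commutators between different root groups** -/
theorem comm_ne (H : LgR cs h r) (lr : LR R r) {x y : I → ℤ} (hx : N1 cs h r x) (hy : N1 cs h r y) (hxy : x ≠ y)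
    {a b : Y} (ha : a ∈ X x) (hb : b ∈ X y) : ⁅a, b⁆ ∈ X r ∧ (x + y ≠ r → a * b = b * a) := by
  have hfw := Fintype.ofFinite W
  have hne : x ≠ -y := hx.ne_neg H hy
  -- the long case
  have key : ∀ {x y : I → ℤ}, N1 cs h r x → N1 cs h r y → x ≠ y → cpr cs h r x = 1 → ∀ {a b : Y}, a ∈ X x → b ∈ X y →
      (x + y = r ∧ ⁅a, b⁆ ∈ X r) ∨ a * b = b * a := by
    intro x y hx hy hxy hl a b ha hb
    have Hx := hx.lgR H hl
    obtain ⟨w, hw⟩ := hx.exists_rep H hl
    have lrx : LR R x := hw ▸ lr.act w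
    by_cases h1 : 0 ≤ cpr cs h y x
    · exact Or.inr (lrx.comm y hy.root h1 b hb a ha).symm
    · left
      have h2 : cpr cs h y x = -1 := by
        rcases Hx.cases hy.root with h3 | h3 | h3
        · omega
        · exact absurd h3.1 (hy.ne_neg H hx)
        · omega
      have h3 : IsRoot cs h (y + x) := isRoot_add hy.root hx.root h2
      have h4 : y + x = r := by
        refine H.eq_of_two h3 ?_
        rw [cpr_add cs h _ _ H.root, hx.one, hy.one]
        norm_num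
      have h5 : y = r - x := by rw [← h4]; abel
      refine ⟨by rw [← h4]; abel, ?_⟩
      refine btw_le_of (fun z hz => ?_) (R.comm x y hx.root hy.root hxy (hx.ne_neg H hy) a ha b hb)
      rw [h5] at hz
      exact btwn_opp_long H hx hl hz
  have hone : ∀ {a b : Y}, a * b = b * a → ⁅a, b⁆ ∈ X r := by
    intro a b hab
    rw [commutatorElement_eq_one_iff_mul_comm.2 hab]
    exact one_mem _
  rcases H.noG2 hx.root hx.one with hl | hs
  · rcases key hx hy hxy hl ha hb with ⟨h1, h2⟩ | h1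
    · exact ⟨h2, fun h3 => absurd h1 h3⟩
    · exact ⟨hone h1, fun _ => h1⟩
  · rcases H.noG2 hy.root hy.one with hl' | hs'
    · rcases key hy hx hxy.symm hl' hb ha with ⟨h1, h2⟩ | h1
      · refine ⟨?_, fun h3 => absurd (by rw [add_comm]; exact h1) h3⟩
        rw [← commutatorElement_inv]
        exact inv_mem h2
      · exact ⟨hone h1.symm, fun _ => h1.symm⟩
    · refine ⟨btw_le_of (fun z hz => btwn_short H hx hy hxy hs hs' hz)
        (R.comm x y hx.root hy.root hxy hne a ha b hb), fun h1 => ?_⟩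
      refine comm_of_not_btwn R hx.root hy.root hxy hne (fun z hz => ?_) ha hb
      have h2 := btwn_short H hx hy hxy hs hs' hz
      rw [h2] at hz
      exact h1 (add_eq_of_btwn H hx hy hs hs' hz)

/-- **nondegeneracy**, long roots -/
theorem nondeg_long (H : LgR cs h r) (lr : LR R r) {x : I → ℤ} (hx : N1 cs h r x) (hl : cpr cs h r x = 1)
    {a : Y} (ha : a ∈ X x) (hc : ∀ c ∈ X (r - x), a * c = c * a) : a = 1 := by
  by_contra ha1
  obtain ⟨w, hw⟩ := hx.exists_rep H hl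
  obtain ⟨w', hw'⟩ := exists_rep_neg (cs := cs) (h := h) hx.root
  have lrx : LR R (-x) := by
    have := (lr.act w).act w'
    rwa [hw, hw'] at this
  have hrx := hx.sub H
  obtain ⟨s, hs, a1, ha1', b1, hb1, m, hm, he⟩ := exists_mu R hx.root ha ha1
  obtain ⟨⟨c, hc1⟩, hc2⟩ := Subgroup.ne_bot_iff_exists_ne_one.1 (X_ne_bot R hrx.root)
  have hc3 : c ≠ 1 := fun h1 => hc2 (Subtype.ext h1)
  have hcpr : cpr cs h (r - x) x = -1 := by
    rw [sub_eq_add_neg, cpr_add cs h _ _ hx.root, cpr_neg cs h _ hx.root, cpr_self cs h hx.root, hl]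
    norm_num
  have hcomm : ∀ v ∈ X (-x), c * v = v * c := by
    intro v hv
    refine lrx.comm (r - x) hrx.root ?_ c hc1 v hv
    rw [cpr_neg_right cs h _ hx.root, hcpr]
    norm_num
  have h1 : m * c * m⁻¹ = c := by
    have e1 : b1 * c * b1⁻¹ = c := by rw [← hcomm b1 hb1]; group
    have e2 : a * c * a⁻¹ = c := by rw [hc c hc1]; group
    have e3 : a1 * c * a1⁻¹ = c := by rw [← hcomm a1 ha1']; group
    calc m * c * m⁻¹ = a1 * (a * (b1 * c * b1⁻¹) * a⁻¹) * a1⁻¹ := by rw [he]; group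
      _ = c := by rw [e1, e2, e3]
  have h2 := R.conj_mem hm hrx.root hc1
  rw [h1, hs, hcpr, neg_one_smul, sub_neg_eq_add, sub_add_cancel] at h2
  have h3 : c ∈ X r ⊓ X (r - x) := ⟨h2, hc1⟩
  rw [X_inf_X R H.root hrx.root (by
    intro h4
    apply hx.root.ne_zero
    have : x = r - (r - x) := by abel
    rw [this, ← h4, sub_self]), Subgroup.mem_bot] at h3
  exact hc3 h3

/-- **nondegeneracy**, short roots -/
theorem nondeg_short (H : LgR cs h r) (lr : LR R r) {u b : Y} (f : Fact3 X r u) (hb : b ∈ X (-r)) (hbr : Br u b)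
    {s : W} (hs : ∀ y, rep cs h s y = y - cpr cs h y r • r) (hm : Rp cs R.nsys s (u * b * u))
    (hz3 : (u * b) ^ 3 = (u * b * u) * (u * b * u)) {x : I → ℤ} (hx : N1 cs h r x) (hxs : cpr cs h r x = 2)
    {a : Y} (ha : a ∈ X x) (hc : ∀ c ∈ X (r - x), a * c = c * a) : a = 1 := by
  have hfw := Fintype.ofFinite W
  by_contra ha1
  have hrx := hx.sub H
  obtain ⟨f1, f2⟩ := hx.forms H
  rw [hxs] at f2
  -- the long root `r - 2 x`
  obtain ⟨w, hw⟩ := hx.exists_delta H hxs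
  have hδ : IsRoot cs h ((2 : ℤ) • x - r) := hw ▸ H.root.act w
  obtain ⟨w', hw'⟩ := exists_rep_neg (cs := cs) (h := h) hδ
  have hδ' : IsRoot cs h (r - (2 : ℤ) • x) := by rw [← neg_sub]; exact hδ.neg
  have lrδ : LR R (r - (2 : ℤ) • x) := by
    have := (lr.act w).act w'
    rwa [hw, hw', neg_sub] at this
  have Fδ : form cs h (r - (2 : ℤ) • x) (r - (2 : ℤ) • x) = form cs h r r := by
    have h1 : form cs h ((2 : ℤ) • x - r) ((2 : ℤ) • x - r) = form cs h r r := by rw [← hw, form_rep]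
    rw [← neg_sub, form_neg_left, form_neg_right, neg_neg, h1]
  have c1 : cpr cs h r (r - (2 : ℤ) • x) = 0 := by
    apply cpr_eq_of_form cs h hδ'
    rw [form_sub_right, form_smul_right, form_comm cs h r x]
    linarith only [f1]
  have c2 : cpr cs h (-r) (r - (2 : ℤ) • x) = 0 := by
    rw [cpr_neg cs h _ hδ', c1, neg_zero]
  have c3 : cpr cs h (-x) (r - (2 : ℤ) • x) = 1 := by
    apply cpr_eq_of_form cs h hδ'
    rw [form_neg_left, form_sub_right, form_smul_right, Fδ]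
    linarith
  obtain ⟨⟨s0, hs0⟩, hs01⟩ := Subgroup.ne_bot_iff_exists_ne_one.1 (X_ne_bot R hδ')
  have hs0ne : s0 ≠ 1 := fun h1 => hs01 (Subtype.ext h1)
  -- the involution
  obtain ⟨z, hz⟩ : ∃ z, z = (u * b * u) * (u * b * u) := ⟨_, rfl⟩
  have hza : z * a * z⁻¹ = a⁻¹ := by rw [hz]; exact neg_root H lr f.mem hb hs hm hx ha
  have hzc : ∀ c ∈ X (r - x), z * c * z⁻¹ = c⁻¹ := by
    intro c hc
    rw [hz]; exact neg_root H lr f.mem hb hs hm hrx hc
  have hzs : z * s0 * z⁻¹ = s0 := by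
    have e1 : Commute u s0 := lrδ.comm r H.root (by omega) u f.mem s0 hs0
    have e2 : Commute b s0 := lrδ.comm (-r) H.root.neg (by omega) b hb s0 hs0
    have e3 : Commute z s0 := by
      rw [hz]
      have := (e1.mul_left e2).mul_left e1
      exact this.mul_left this
    rw [e3.eq]; group
  have hzr : ∀ v ∈ X r, z * v * z⁻¹ = v := by
    intro v hv
    rw [f.zp] at hv
    obtain ⟨k, rfl⟩ := Subgroup.mem_zpowers_iff.1 hv
    have e1 : Commute z u := by
      show z * u = u * z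
      rw [hz, ← hz3]
      exact hbr.2.2
    rw [(e1.zpow_right k).eq]; group
  -- step 1
  have hcr : ∀ v ∈ X r, ∀ c ∈ X (r - x), c * v = v * c := fun v hv c hc =>
    lr.comm (r - x) hrx.root (by rw [hrx.one]; norm_num) c hc v hv
  have hbtw : Nodes.Reps.btw cs h X (r - (2 : ℤ) • x) x ≤ X (r - x) ⊔ X r := by
    refine iSup_le ?_
    rintro ⟨y, hy⟩
    rcases btwn_delta H hx hxs hy with h1 | h1
    · show X y ≤ _
      rw [h1]; exact le_sup_left
    · show X y ≤ _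
      rw [h1]; exact le_sup_right
  have hne1 : r - (2 : ℤ) • x ≠ x := by
    intro h1
    have h2 : cpr cs h (r - (2 : ℤ) • x) r = 1 := by rw [h1]; exact hx.one
    rw [sub_eq_add_neg, cpr_add cs h _ _ H.root, cpr_neg cs h _ H.root, cpr_smul cs h _ _ H.root,
      cpr_self cs h H.root, hx.one] at h2
    omega
  have hne2 : r - (2 : ℤ) • x ≠ -x := by
    intro h1
    have h2 : r = x := by
      have : r = r - (2 : ℤ) • x + (2 : ℤ) • x := by abel
      rw [this, h1]; module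
    exact (hx.ne H).1 h2.symm
  obtain ⟨c2', hc2', r2, hr2, e1⟩ : ∃ c ∈ X (r - x), ∃ v ∈ X r, a * s0 * a⁻¹ = s0 * (c * v) := by
    have h1 := R.comm (r - (2 : ℤ) • x) x hδ' hx.root hne1 hne2 s0⁻¹ (inv_mem hs0) a ha
    obtain ⟨c, hc, v, hv, e⟩ := mem_sup_of_comm hcr (hbtw h1)
    refine ⟨c, hc, v, hv, ?_⟩
    rw [← e, commutatorElement_def]; group
  have har : a * r2 = r2 * a := lr.comm x hx.root (by rw [hx.one]; norm_num) a ha r2 hr2
  -- step 2
  have e2 : a⁻¹ * s0 * a = s0 * (c2' * r2)⁻¹ := by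
    have h1 : a⁻¹ * (c2' * r2) * a = c2' * r2 := by
      have h2 : a * (c2' * r2) = c2' * r2 * a := by
        rw [← mul_assoc, hc c2' hc2', mul_assoc, har, mul_assoc]
      rw [mul_assoc, ← h2]; group
    have h2 : s0 = a⁻¹ * s0 * a * (c2' * r2) := by
      calc s0 = a⁻¹ * (a * s0 * a⁻¹) * a := by group
        _ = a⁻¹ * (s0 * (c2' * r2)) * a := by rw [e1]
        _ = a⁻¹ * s0 * a * (a⁻¹ * (c2' * r2) * a) := by group
        _ = _ := by rw [h1]
    nth_rw 2 [h2]; group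
  -- step 3
  have e3 : a⁻¹ * s0 * a = s0 * (c2'⁻¹ * r2) := by
    calc a⁻¹ * s0 * a = (z * a * z⁻¹) * (z * s0 * z⁻¹) * (z * a * z⁻¹)⁻¹ := by rw [hza, hzs]; group
      _ = z * (a * s0 * a⁻¹) * z⁻¹ := by group
      _ = (z * s0 * z⁻¹) * ((z * c2' * z⁻¹) * (z * r2 * z⁻¹)) := by rw [e1]; group
      _ = _ := by rw [hzs, hzc c2' hc2', hzr r2 hr2]
  have hr21 : r2 = 1 := by
    have h1 : (c2' * r2)⁻¹ = c2'⁻¹ * r2 := mul_left_cancel (e2.symm.trans e3)
    have h2 : r2⁻¹ = r2 := by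
      have h3 : (c2' * r2)⁻¹ = c2'⁻¹ * r2⁻¹ := by rw [hcr r2 hr2 c2' hc2', _root_.mul_inv_rev]
      rw [h3] at h1
      exact mul_left_cancel h1
    have h3 : r2 * r2 = 1 := by
      nth_rw 1 [← h2]
      exact inv_mul_cancel r2
    have h4 : r2 ^ 3 = 1 := by
      rw [f.zp] at hr2
      obtain ⟨k, rfl⟩ := Subgroup.mem_zpowers_iff.1 hr2
      rw [← zpow_natCast, ← zpow_mul, mul_comm, zpow_mul, zpow_natCast, f.cube, one_zpow]
    calc r2 = r2 ^ 3 * (r2 * r2)⁻¹ := by rw [pow_succ, pow_two]; group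
      _ = 1 := by rw [h3, h4]; group
  rw [hr21, mul_one] at e1
  -- step 4
  obtain ⟨t, ht, a1, ha1', b1, hb1, m, hm', he⟩ := exists_mu R hx.root ha ha1
  have e4 : b1 * s0 * b1⁻¹ = s0 := by
    rw [lrδ.comm (-x) hx.root.neg (by omega) b1 hb1 s0 hs0]; group
  have e5 : m * s0 * m⁻¹ = s0 * ⁅s0⁻¹ * a1 * s0, c2'⁆ * c2' * (s0⁻¹ * (a1 * s0 * a1⁻¹) )⁻¹ *
      (s0⁻¹ * (a1 * s0 * a1⁻¹)) := by
    have h0 : a1 * s0 * a1⁻¹ = s0 := by
      rw [lrδ.comm (-x) hx.root.neg (by omega) a1 ha1' s0 hs0]; group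
    have h1 : s0⁻¹ * a1 * s0 = a1 := by
      rw [mul_assoc, lrδ.comm (-x) hx.root.neg (by omega) a1 ha1' s0 hs0]; group
    calc m * s0 * m⁻¹ = a1 * (a * (b1 * s0 * b1⁻¹) * a⁻¹) * a1⁻¹ := by rw [he]; group
      _ = a1 * (s0 * c2') * a1⁻¹ := by rw [e4, e1]
      _ = (a1 * s0 * a1⁻¹) * (a1 * c2' * a1⁻¹) := by group
      _ = s0 * ⁅a1, c2'⁆ * c2' := by rw [h0, commutatorElement_def]; group
      _ = _ := by rw [h0, h1]; group
  have e6 : m * s0 * m⁻¹ = s0 * ⁅a1, c2'⁆ * c2' := by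
    rw [e5]
    have h1 : s0⁻¹ * a1 * s0 = a1 := by
      rw [mul_assoc, lrδ.comm (-x) hx.root.neg (by omega) a1 ha1' s0 hs0]; group
    rw [h1]; group
  have hbtw2 : Nodes.Reps.btw cs h X (-x) (r - x) ≤ X (r - (2 : ℤ) • x) := by
    refine btw_le_of fun y hy => ?_
    have h1 : Btwn cs h x (x - r) (-y) := by
      have := btwn_neg_iff.2 hy
      rwa [neg_neg, neg_sub] at this
    obtain ⟨h2, h3⟩ := btwn_inner H hx h1
    rcases btwn_neg_short H hx hxs h2 with h4 | h4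
    · exact absurd h4 h3
    · rw [← neg_neg y, h4, neg_sub]
  have h7 : m * s0 * m⁻¹ ∈ RGD.Sup X {y | Btwn cs h (-x) r y} := by
    have m1 : X (r - (2 : ℤ) • x) ≤ RGD.Sup X {y | Btwn cs h (-x) r y} := by
      refine RGD.le_Sup (S := {y | Btwn cs h (-x) r y}) ?_
      exact ⟨hδ', 1, 2, 1, by norm_num, by norm_num, by norm_num, by module⟩
    have m2 : X (r - x) ≤ RGD.Sup X {y | Btwn cs h (-x) r y} := by
      refine RGD.le_Sup (S := {y | Btwn cs h (-x) r y}) ?_
      exact ⟨hrx.root, 1, 1, 1, by norm_num, by norm_num, by norm_num, by module⟩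
    rw [e6]
    refine mul_mem (mul_mem (m1 hs0) (m1 (hbtw2 (R.comm (-x) (r - x) hx.root.neg hrx.root ?_ ?_ a1 ha1' c2' hc2'))))
      (m2 hc2')
    · intro h8
      exact H.root.ne_zero (by
        have : r = (r - x) + x := by abel
        rw [this, ← h8]; abel)
    · intro h8
      have h9 : r - x = x := (neg_injective h8).symm
      apply hx.ne_two H
      have : r = (r - x) + x := by abel
      rw [this, h9]
      module
  have h8 : m * s0 * m⁻¹ ∈ X r := by
    have h9 := R.conj_mem hm' hδ' hs0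
    have c5 : cpr cs h (r - (2 : ℤ) • x) x = -2 := by
      rw [sub_eq_add_neg, cpr_add cs h _ _ hx.root, cpr_neg cs h _ hx.root, cpr_smul cs h _ _ hx.root,
        cpr_self cs h hx.root, hxs]
      norm_num
    rw [ht, c5] at h9
    have e : r - (2 : ℤ) • x - (-2 : ℤ) • x = r := by module
    rwa [e] at h9
  have h9 : m * s0 * m⁻¹ ∈ X r ⊓ RGD.Sup X {y | Btwn cs h (-x) r y} := ⟨h8, h7⟩
  rw [inf_cone R hx.root.neg H.root (fun h10 => (hx.ne H).2 (neg_eq_iff_eq_neg.1 h10))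
    (fun h10 => (hx.ne H).1 (neg_injective h10)), Subgroup.mem_bot] at h9
  apply hs0ne
  have : s0 = m⁻¹ * (m * s0 * m⁻¹) * m := by group
  rw [this, h9]; group

end data

end Cfsg.Agent.H580.SNX
end

-- part: H580/SNX/LrgC
section
/-!
S3831, task T7c: the fields `comm`, `cen`, `neg` of `LRG u (VJ (orth r))` (helper580)
-/

set_option autoImplicit false
set_option linter.unusedSectionVars false

namespace Cfsg.Agent.H580.SNX

open CoxeterSystem Cfsg.Agent.ChevalleyStructure.CoxeterGeom Cfsg.Agent.Tits.Roots Cfsg.Agent.Tits.Core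
  Cfsg.Agent.Tits.RootComb Cfsg.Agent.Tits.Exchange Cfsg.Agent.Nodes.Reps Cfsg.Agent.Nodes.BNOf
  Cfsg.Agent.Nodes.StabComb Cfsg.Agent.Nodes.Bruhat Cfsg.Agent.Nodes.OppDec Cfsg.Agent.Nodes.LeviDec
  Cfsg.Agent.Nodes.NormX Cfsg.Agent.Nodes.Coroot Cfsg.Agent.KFacts.RgdSL Cfsg.Agent.Nodes.PosPair
  Cfsg.Agent.H142.SNX Cfsg.Agent.KFacts.RgdTI
open Cfsg.Agent.H880.Six (Br)
open scoped commutatorElement

variable {I W : Type*} [Fintype I] [DecidableEq I] [Group W] {Y : Type*} [Group Y] {M : CoxeterMatrix I}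
  {cs : CoxeterSystem M W} {A : I → I → ℤ} {h : IsCartan M A} {T : Subgroup Y} {n : I → Y}
  {X : (I → ℤ) → Subgroup Y}

/-- commutators of generated subgroups, modulo a central subgroup -/
theorem comm_sup {S : Set (I → ℤ)} {Z : Subgroup Y} (hZ : ∀ x ∈ S, ∀ a ∈ X x, ∀ v ∈ Z, a * v = v * a)
    (hS : ∀ x ∈ S, ∀ y ∈ S, ∀ a ∈ X x, ∀ b ∈ X y, ⁅a, b⁆ ∈ Z) :
    ∀ q ∈ RGD.Sup X S, ∀ q' ∈ RGD.Sup X S, ⁅q, q'⁆ ∈ Z := by
  have mulf : ∀ a q q' : Y, (∀ v ∈ Z, q * v = v * q) → ⁅a, q⁆ ∈ Z → ⁅a, q'⁆ ∈ Z → ⁅a, q * q'⁆ ∈ Z := by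
    intro a q q' h1 h2 h3
    have h4 : q * ⁅a, q'⁆ * q⁻¹ = ⁅a, q'⁆ := by rw [h1 _ h3]; group
    have h5 : ⁅a, q * q'⁆ = ⁅a, q⁆ * (q * ⁅a, q'⁆ * q⁻¹) := by
      simp only [commutatorElement_def]; group
    rw [h5, h4]
    exact mul_mem h2 h3
  have invf : ∀ a q : Y, (∀ v ∈ Z, q * v = v * q) → ⁅a, q⁆ ∈ Z → ⁅a, q⁻¹⁆ ∈ Z := by
    intro a q h1 h2
    have h3 : ⁅a, q⁻¹⁆ = q⁻¹ * ⁅a, q⁆⁻¹ * q := by
      simp only [commutatorElement_def]; group
    have h4 : q⁻¹ * ⁅a, q⁆⁻¹ * q = ⁅a, q⁆⁻¹ := by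
      rw [mul_assoc, ← h1 _ (inv_mem h2)]; group
    rw [h3, h4]
    exact inv_mem h2
  let C : Y → Subgroup Y := fun a =>
    { carrier := {q | (∀ v ∈ Z, q * v = v * q) ∧ ⁅a, q⁆ ∈ Z}
      mul_mem' := by
        rintro q q' ⟨h1, h2⟩ ⟨h3, h4⟩
        refine ⟨fun v hv => ?_, mulf a q q' h1 h2 h4⟩
        rw [mul_assoc, h3 v hv, ← mul_assoc, h1 v hv, mul_assoc]
      one_mem' := ⟨fun v _ => by rw [one_mul, mul_one], by
        show ⁅a, 1⁆ ∈ Z
        rw [commutatorElement_one_right]; exact one_mem _⟩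
      inv_mem' := by
        rintro q ⟨h1, h2⟩
        refine ⟨fun v hv => ?_, invf a q h1 h2⟩
        have := h1 v hv
        calc q⁻¹ * v = q⁻¹ * (v * q) * q⁻¹ := by group
          _ = q⁻¹ * (q * v) * q⁻¹ := by rw [this]
          _ = v * q⁻¹ := by group }
  have s1 : ∀ x ∈ S, ∀ a ∈ X x, RGD.Sup X S ≤ C a := by
    intro x hx a ha
    exact RGD.Sup_le fun y hy b hb => ⟨hZ y hy b hb, hS x hx y hy a ha b hb⟩
  have s2 : ∀ q' ∈ RGD.Sup X S, RGD.Sup X S ≤ C q' := by
    intro q' hq'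
    refine RGD.Sup_le fun x hx a ha => ⟨hZ x hx a ha, ?_⟩
    rw [← commutatorElement_inv]
    exact inv_mem (s1 x hx a ha hq').2
  intro q hq q' hq'
  exact (s2 q hq hq').2

section data

variable [Finite W] [Finite Y] {r : I → ℤ} {R : RGD cs h 3 T n X}

theorem notJ_cases (H : LgR cs h r) (hd : Dom A r) {x : I → ℤ} (hx : x ∈ NotJ cs h (orth cs h r)) :
    x = r ∨ N1 cs h r x := by
  have hfw := Fintype.ofFinite W
  have h1 := form_pos_of_NotJ hd hx
  rw [form_comm, ← cpr_pos_iff cs h x H.root] at h1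
  rcases H.cases hx.1 with h2 | h2 | ⟨-, -, h2 | h2 | h2⟩
  · exact Or.inl h2.1
  · omega
  · omega
  · exact Or.inr ⟨hx.1, h2⟩
  · omega

theorem n1_mem (H : LgR cs h r) (hd : Dom A r) {x : I → ℤ} (hx : N1 cs h r x) : x ∈ NotJ cs h (orth cs h r) := by
  have hfw := Fintype.ofFinite W
  rw [mem_NotJ_iff hd hx.root, form_comm, ← cpr_pos_iff cs h x H.root, hx.one]
  norm_num

/-- the data for the involution -/
structure Inv3 (R : RGD cs h 3 T n X) (r : I → ℤ) (u b : Y) : Prop where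
  H : LgR cs h r
  lr : LR R r
  f : Fact3 X r u
  mem : b ∈ X (-r)
  br : Br u b
  ex : ∃ s : W, (∀ y, rep cs h s y = y - cpr cs h y r • r) ∧ Rp cs R.nsys s (u * b * u)
  cube : (u * b) ^ 3 = (u * b * u) * (u * b * u)

namespace Inv3

variable {u b : Y} (D : Inv3 R r u b)

include D

theorem inv_root {x : I → ℤ} (hx : N1 cs h r x) {v : Y} (hv : v ∈ X x) :
    (u * b) ^ 3 * v * ((u * b) ^ 3)⁻¹ = v⁻¹ := by
  obtain ⟨s, hs, hm⟩ := D.ex
  rw [D.cube]
  exact neg_root D.H D.lr D.f.mem D.mem hs hm hx hv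

/-- `X_x` is abelian -/
theorem ab {x : I → ℤ} (hx : N1 cs h r x) {v v' : Y} (hv : v ∈ X x) (hv' : v' ∈ X x) : v * v' = v' * v := by
  have h1 := D.inv_root hx hv
  have h2 := D.inv_root hx hv'
  have h3 := D.inv_root hx (mul_mem hv hv')
  have h4 : (u * b) ^ 3 * (v * v') * ((u * b) ^ 3)⁻¹ =
      ((u * b) ^ 3 * v * ((u * b) ^ 3)⁻¹) * ((u * b) ^ 3 * v' * ((u * b) ^ 3)⁻¹) := by group
  rw [h4, h1, h2] at h3
  have h5 : (v⁻¹ * v'⁻¹)⁻¹ = ((v * v')⁻¹)⁻¹ := by rw [h3]
  rw [_root_.mul_inv_rev, inv_inv, inv_inv, inv_inv] at h5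
  exact h5.symm

/-- `⁅X_x, X_y⁆ ≤ X_r` -/
theorem comm_root {x y : I → ℤ} (hx : x = r ∨ N1 cs h r x) (hy : y = r ∨ N1 cs h r y) {a c : Y} (ha : a ∈ X x)
    (hc : c ∈ X y) : ⁅a, c⁆ ∈ X r ∧ (x + y ≠ r → a * c = c * a) := by
  have hone : ∀ {a b : Y}, a * b = b * a → ⁅a, b⁆ ∈ X r := by
    intro a b hab
    rw [commutatorElement_eq_one_iff_mul_comm.2 hab]
    exact one_mem _
  have key : ∀ {y : I → ℤ}, (y = r ∨ N1 cs h r y) → ∀ {a c : Y}, a ∈ X r → c ∈ X y → c * a = a * c := by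
    intro y hy a c ha hc
    rcases hy with rfl | hy
    · exact D.lr.comm y D.H.root (by rw [cpr_self cs h D.H.root]; norm_num) c hc a ha
    · exact D.lr.comm y hy.root (by rw [hy.one]; norm_num) c hc a ha
  rcases hx with rfl | hx
  · have := key hy ha hc
    exact ⟨hone this.symm, fun _ => this.symm⟩
  · rcases hy with rfl | hy
    · have := key (Or.inr hx) hc ha
      exact ⟨hone this, fun _ => this⟩
    · by_cases hxy : x = y
      · subst hxy
        have := D.ab hx ha hc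
        exact ⟨hone this, fun _ => this⟩
      · exact comm_ne D.H D.lr hx hy hxy ha hc

/-- nondegeneracy -/
theorem nondeg {x : I → ℤ} (hx : N1 cs h r x) {a : Y} (ha : a ∈ X x) (hc : ∀ c ∈ X (r - x), a * c = c * a) :
    a = 1 := by
  rcases D.H.noG2 hx.root hx.one with h1 | h1
  · exact nondeg_long D.H D.lr hx h1 ha hc
  · obtain ⟨s, hs, hm⟩ := D.ex
    exact nondeg_short D.H D.lr D.f D.mem D.br hs hm D.cube hx h1 ha hc

theorem comm_VJ' (hd : Dom A r) {q q' : Y} (hq : q ∈ VJ cs h X (orth cs h r)) (hq' : q' ∈ VJ cs h X (orth cs h r)) :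
    ⁅q, q'⁆ ∈ X r := by
  refine comm_sup (S := NotJ cs h (orth cs h r)) (Z := X r) ?_ ?_ q hq q' hq'
  · intro x hx a ha v hv
    have h1 := notJ_cases D.H hd hx
    rcases h1 with rfl | h1
    · exact D.lr.comm x D.H.root (by rw [cpr_self cs h D.H.root]; norm_num) a ha v hv
    · exact D.lr.comm x h1.root (by rw [h1.one]; norm_num) a ha v hv
  · intro x hx y hy a ha c hc
    exact (D.comm_root (notJ_cases D.H hd hx) (notJ_cases D.H hd hy) ha hc).1

theorem cent (hd : Dom A r) {q v : Y} (hq : q ∈ VJ cs h X (orth cs h r)) (hv : v ∈ X r) : q * v = v * q := by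
  have h1 : VJ cs h X (orth cs h r) ≤ Subgroup.centralizer (X r : Set Y) := by
    refine RGD.Sup_le fun x hx a ha => ?_
    rw [Subgroup.mem_centralizer_iff]
    intro v hv
    rcases notJ_cases D.H hd hx with rfl | h1
    · exact (D.lr.comm x D.H.root (by rw [cpr_self cs h D.H.root]; norm_num) a ha v hv).symm
    · exact (D.lr.comm x h1.root (by rw [h1.one]; norm_num) a ha v hv).symm
  exact ((Subgroup.mem_centralizer_iff.1 (h1 hq)) v hv).symm

/-- `z` inverts `Q / X_r` -/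
theorem neg_VJ (hd : Dom A r) {q : Y} (hq : q ∈ VJ cs h X (orth cs h r)) :
    (u * b) ^ 3 * q * ((u * b) ^ 3)⁻¹ * q ∈ X r := by
  obtain ⟨z, hz⟩ : ∃ z, z = (u * b) ^ 3 := ⟨_, rfl⟩
  rw [← hz]
  let K : Subgroup Y :=
    { carrier := {q | q ∈ VJ cs h X (orth cs h r) ∧ z * q * z⁻¹ * q ∈ X r}
      mul_mem' := by
        rintro q q' ⟨h1, h2⟩ ⟨h3, h4⟩
        refine ⟨mul_mem h1 h3, ?_⟩
        have h5 := D.comm_VJ' hd (inv_mem h1) (inv_mem h3)
        have h6 := D.cent hd (inv_mem h1) h4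
        have h7 : z * (q * q') * z⁻¹ * (q * q') =
            (z * q * z⁻¹ * q) * (q⁻¹ * (z * q' * z⁻¹ * q')) * (q'⁻¹ * q * q') := by group
        rw [h7, h6]
        have h8 : (z * q * z⁻¹ * q) * ((z * q' * z⁻¹ * q') * q⁻¹) * (q'⁻¹ * q * q') =
            (z * q * z⁻¹ * q) * (z * q' * z⁻¹ * q') * ⁅q⁻¹, q'⁻¹⁆ := by
          rw [commutatorElement_def]; group
        rw [h8]
        exact mul_mem (mul_mem h2 h4) h5
      one_mem' := ⟨one_mem _, by
        show z * 1 * z⁻¹ * 1 ∈ X r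
        have : z * 1 * z⁻¹ * 1 = 1 := by group
        rw [this]
        exact one_mem _⟩
      inv_mem' := by
        rintro q ⟨h1, h2⟩
        refine ⟨inv_mem h1, ?_⟩
        have h3 := D.cent hd h1 (inv_mem h2)
        have h4 : z * q⁻¹ * z⁻¹ * q⁻¹ = q * (z * q * z⁻¹ * q)⁻¹ * q⁻¹ := by group
        have h5 : q * (z * q * z⁻¹ * q)⁻¹ * q⁻¹ = (z * q * z⁻¹ * q)⁻¹ := by rw [h3]; group
        rw [h4, h5]
        exact inv_mem h2 }
  have h1 : VJ cs h X (orth cs h r) ≤ K := by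
    refine RGD.Sup_le fun x hx a ha => ⟨RGD.le_Sup (S := NotJ cs h (orth cs h r)) hx ha, ?_⟩
    rcases notJ_cases D.H hd hx with rfl | h1
    · have h2 : z * a * z⁻¹ = a := by
        rw [D.f.zp] at ha
        obtain ⟨k, rfl⟩ := Subgroup.mem_zpowers_iff.1 ha
        have e1 : Commute z u := by
          show z * u = u * z
          rw [hz]
          exact D.br.2.2
        rw [(e1.zpow_right k).eq]; group
      rw [h2]
      exact mul_mem ha ha
    · rw [hz, D.inv_root h1 ha, inv_mul_cancel]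
      exact one_mem _
  exact (h1 hq).2

open Cfsg.Agent.Nodes.Unique Cfsg.Agent.Nodes.BNOf.RGD in
/-- the centre of `Q` is `X_r` -/
theorem cen_aux (hd : Dom A r) (w : W) {S : Set (I → ℤ)} (hS : S ⊆ Fut cs h w) (hc : Closed cs h S)
    (hSN : S ⊆ NotJ cs h (orth cs h r)) {q : Y} (hq : q ∈ Sup X S)
    (hcom : ∀ x, N1 cs h r x → ∀ c ∈ X x, q * c = c * q) : q ∈ X r := by
  induction hn : (Fut cs h w).ncard generalizing w S q with
  | zero =>
    have h1 := (Set.ncard_eq_zero (finite_fut w)).1 hn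
    rw [h1, Set.subset_empty_iff] at hS
    subst hS
    rw [Sup_empty, Subgroup.mem_bot] at hq
    rw [hq]
    exact one_mem _
  | succ k ih =>
    have hne : (Fut cs h w).Nonempty := by
      rw [Set.nonempty_iff_ne_empty]
      intro h1
      rw [h1, Set.ncard_empty] at hn
      omega
    obtain ⟨y, hy⟩ := hne
    obtain ⟨i, hi⟩ := exists_simple hy
    set x := rep cs h w (sr i) with hxdef
    have hcard : (Fut cs h (w * cs.simple i)).ncard = k := by
      rw [fut_mul hi, Set.ncard_sdiff_singleton_of_mem (mem_fut hi), hn]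
      rfl
    have hsub : S \ {x} ⊆ Fut cs h (w * cs.simple i) := by
      rw [fut_mul hi]
      exact Set.sdiff_subset_sdiff_left hS
    have hpos : S ⊆ Pos cs h := hS.trans (fut_subset_pos w)
    by_cases hx : x ∈ S
    · obtain ⟨a, ha, b', hb', e⟩ := (mem_peel R hpos hc hx).1 hq
      rcases notJ_cases D.H hd (hSN hx) with hxr | hx1
      · -- `x = r`
        rw [hxr] at ha
        have h1 : b' ∈ X r := by
          refine ih (w * cs.simple i) hsub (closed_diff hi hS hc) (Set.sdiff_subset.trans hSN) hb' ?_ hcard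
          intro y hy c hcy
          have h2 := hcom y hy c hcy
          have h3 : c * a = a * c := D.lr.comm y hy.root (by rw [hy.one]; norm_num) c hcy a ha
          have h4 : b' = a⁻¹ * q := by rw [e]; group
          have h5 : a⁻¹ * c = c * a⁻¹ := by
            calc a⁻¹ * c = a⁻¹ * (c * a) * a⁻¹ := by group
              _ = a⁻¹ * (a * c) * a⁻¹ := by rw [h3]
              _ = _ := by group
          rw [h4, mul_assoc, h2, ← mul_assoc, h5, mul_assoc]
        rw [e]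
        exact mul_mem ha h1
      · have ha1 : a = 1 := by
          refine D.nondeg hx1 ha fun c hcx => ?_
          have hrx := hx1.sub D.H
          have h1 : b' * c = c * b' := by
            have h2 : Sup X (S \ {x}) ≤ Subgroup.centralizer {c} := by
              refine Sup_le fun y hy v hv => ?_
              rw [Subgroup.mem_centralizer_singleton_iff]
              have h3 := notJ_cases D.H hd (hSN hy.1)
              refine (D.comm_root h3 (Or.inr hrx) hv hcx).2 ?_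
              intro h4
              apply hy.2
              rw [Set.mem_singleton_iff]
              have : y = y + (r - x) - r + x := by abel
              rw [this, h4]; abel
            exact (Subgroup.mem_centralizer_singleton_iff.1 (h2 hb'))
          have h2 := hcom _ hrx c hcx
          rw [e, mul_assoc, h1, ← mul_assoc, ← mul_assoc] at h2
          exact mul_right_cancel h2
        rw [ha1, one_mul] at e
        refine ih (w * cs.simple i) hsub (closed_diff hi hS hc) (Set.sdiff_subset.trans hSN) ?_ hcom hcard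
        rw [e]
        exact hb'
    · have h1 : S \ {x} = S := Set.sdiff_singleton_eq_self hx
      rw [h1] at hsub
      exact ih (w * cs.simple i) hsub hc hSN hq hcom hcard

theorem cen_VJ (hd : Dom A r) {q : Y} (hq : q ∈ VJ cs h X (orth cs h r))
    (hcom : ∀ q' ∈ VJ cs h X (orth cs h r), q * q' = q' * q) : q ∈ X r := by
  have hsub : NotJ cs h (orth cs h r) ⊆ RGD.Pos cs h := fun x hx => ⟨hx.1, hx.2.1⟩
  refine D.cen_aux hd 1 (S := NotJ cs h (orth cs h r)) ?_ ?_ subset_rfl hq ?_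
  · rw [Nodes.Unique.fut_one]
    exact hsub
  · intro x hx y hy z hz
    have hfw := Fintype.ofFinite W
    rw [mem_NotJ_iff hd hz.1]
    have h1 := form_pos_of_NotJ hd hx
    have h2 := form_pos_of_NotJ hd hy
    obtain ⟨-, m, a, b', hm, ha, hb, he⟩ := hz
    have h3 : form cs h r (m • z) = form cs h r (a • x + b' • y) := by rw [he]
    rw [form_smul_right, form_add_right, form_smul_right, form_smul_right] at h3
    have h4 := mul_pos ha h1
    have h5 := mul_pos hb h2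
    have h6 : 0 < m * form cs h r z := by rw [h3]; omega
    exact (mul_pos_iff_of_pos_left hm).1 h6
  · intro x hx c hc
    exact hcom c (RGD.le_Sup (S := NotJ cs h (orth cs h r)) (n1_mem D.H hd hx) hc)

end Inv3

/-- **task T7c** : the fields `comm`, `cen`, `neg` of `LRG u (VJ (orth r))` -/
theorem lrg_c (L : Long R r (X r)) (hG : GG cs h T X = ⊤) {i j : I} (hij : M i j = 3) {w : W}
    (hw : rep cs h w (sr i) = r) (hc : Nat.card (X (sr i)) = 3)
    (hlong : ∀ x, IsRoot cs h x → x ≠ r → x ≠ -r → cpr cs h x r = 0 ∨ cpr cs h x r = 1 ∨ cpr cs h x r = -1)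
    {u : Y} (hu : u ∈ X r) (hu1 : u ≠ 1) :
    (∀ q ∈ VJ cs h X (orth cs h r), ∀ q' ∈ VJ cs h X (orth cs h r), ⁅q, q'⁆ ∈ Subgroup.zpowers u) ∧
    (∀ q ∈ VJ cs h X (orth cs h r), (∀ q' ∈ VJ cs h X (orth cs h r), q * q' = q' * q) → q ∈ Subgroup.zpowers u) ∧
    (∀ g : Y, Br u (g * u * g⁻¹) → ∀ q ∈ VJ cs h X (orth cs h r),
      ((u * (g * u * g⁻¹)) ^ 3 * q * ((u * (g * u * g⁻¹)) ^ 3)⁻¹) * q ∈ Subgroup.zpowers u) := by
  have f := fact3 R hij hw hc hu hu1
  have H : LgR cs h r := ⟨L.root, hlong, i, j, w, hij, hw⟩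
  obtain ⟨b, hb, hbr, -⟩ := f.ex
  obtain ⟨s, hs, hm, h3⟩ := exists_weyl R hij hw hc hu hb hbr
  have D : Inv3 R r u b := ⟨H, lr_of_long L f, f, hb, hbr, ⟨s, hs, hm⟩, h3⟩
  rw [← f.zp]
  refine ⟨fun q hq q' hq' => D.comm_VJ' L.dom hq hq', fun q hq hcom => D.cen_VJ L.dom hq hcom, ?_⟩
  intro g hg q hq
  obtain ⟨q0, hq0, e⟩ := opp_eq L hG f hb hbr hg
  have h1 := H142.SNX.comm_VJ L f hq0
  have h2 : (u * (g * u * g⁻¹)) ^ 3 = q0 * (u * b) ^ 3 * q0⁻¹ := by
    rw [e, ← conj_pow]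
    congr 1
    nth_rw 1 [← h1]
    group
  rw [h2]
  have hq' : q0⁻¹ * q * q0 ∈ VJ cs h X (orth cs h r) := mul_mem (mul_mem (inv_mem hq0) hq) hq0
  have h4 := D.neg_VJ L.dom hq'
  have h5 := D.cent L.dom hq0 h4
  have h6 : q0 * (u * b) ^ 3 * q0⁻¹ * q * (q0 * (u * b) ^ 3 * q0⁻¹)⁻¹ * q =
      q0 * ((u * b) ^ 3 * (q0⁻¹ * q * q0) * ((u * b) ^ 3)⁻¹ * (q0⁻¹ * q * q0)) * q0⁻¹ := by group
  rw [h6, h5]
  have h7 : (u * b) ^ 3 * (q0⁻¹ * q * q0) * ((u * b) ^ 3)⁻¹ * (q0⁻¹ * q * q0) * q0 * q0⁻¹ =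
      (u * b) ^ 3 * (q0⁻¹ * q * q0) * ((u * b) ^ 3)⁻¹ * (q0⁻¹ * q * q0) := by group
  rw [h7]
  exact h4

end data

end Cfsg.Agent.H580.SNX
end

-- part: H397/SNX/Sev
section
/-!
# A selfcentralising subgroup of order 73 in a group of order `|³D₄(3)|` (helper397, for S3831)

* `card_norm` : its normaliser has order `292`; `exists_inv` : it is inverted by an involution;
* `not_solvable` : a subgroup containing it and an element of order three is not solvable.
-/

set_option autoImplicit false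
set_option linter.unusedSectionVars false

namespace Cfsg.Agent.H397.SNX

open Subgroup

variable {L : Type*} [Group L] [Finite L]

theorem prime73 : Nat.Prime 73 := by norm_num

theorem n2 : ∀ k ≤ 6, k ≠ 0 → 2 ^ k % 73 ≠ 1 := by decide
theorem n3 : ∀ k ≤ 12, k ≠ 0 → 3 ^ k % 73 = 1 → k = 12 := by decide
theorem n7 : ∀ k ≤ 2, k ≠ 0 → 7 ^ k % 73 ≠ 1 := by decide
theorem n13 : ∀ k ≤ 2, k ≠ 0 → 13 ^ k % 73 ≠ 1 := by decide

section

variable (hL : Nat.card L = 20560831566912) {P : Subgroup L} (hP : Nat.card P = 73)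
  (hC : centralizer (P : Set L) = P)

include hL hP

/-- `P` is a Sylow subgroup -/
theorem exists_sylow : ∃ S : Sylow 73 L, (S : Subgroup L) = P := by
  have : Fact (Nat.Prime 73) := ⟨prime73⟩
  have h1 : Nat.card P = 73 ^ (Nat.card L).factorization 73 := by
    rw [hP, hL]
    have : (20560831566912 : ℕ) = 73 * 281655226944 := by norm_num
    rw [this, Nat.factorization_mul (by norm_num) (by norm_num), Finsupp.add_apply,
      Nat.Prime.factorization_self prime73, Nat.factorization_eq_zero_of_not_dvd (by norm_num)]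
    norm_num
  exact ⟨Sylow.ofCard P h1, rfl⟩

include hC

theorem card_norm : Nat.card (normalizer (P : Set L)) = 292 := by
  have : Fact (Nat.Prime 73) := ⟨prime73⟩
  obtain ⟨S, hS⟩ := exists_sylow hL hP
  have h1 : Nat.card (Sylow 73 L) ≡ 1 [MOD 73] := card_sylow_modEq_one 73 L
  rw [S.card_eq_index_normalizer] at h1
  change (normalizer ((S : Subgroup L) : Set L)).index ≡ 1 [MOD 73] at h1
  rw [hS] at h1
  set N := normalizer (P : Set L) with hN
  have h2 : Nat.card N * N.index = 20560831566912 := by rw [Subgroup.card_mul_index, hL]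
  -- the action
  let ρ : N →* MulAut P := normalizerMonoidHom P
  have hPN : P ≤ N := le_normalizer
  have hker : ρ.ker = P.subgroupOf N := by
    have h3 := normalizerMonoidHom_ker P
    change ρ.ker = _ at h3
    rw [h3]
    ext x
    rw [mem_subgroupOf, mem_subgroupOf, hC]
  have hcyc : IsCyclic P := isCyclic_of_prime_card hP
  have h4 : Nat.card ρ.range ≤ 72 := by
    have h5 : Nat.card (MulAut P) = 72 := by
      rw [IsCyclic.card_mulAut, hP]
      rw [Nat.totient_prime prime73]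
    rw [← h5]
    exact Nat.le_of_dvd Nat.card_pos (Subgroup.card_subgroup_dvd_card _)
  have h6 : 73 * Nat.card ρ.range = Nat.card N := by
    have h7 := Subgroup.card_mul_index ρ.ker
    rw [Subgroup.index_ker, hker, Nat.card_congr (subgroupOfEquivOfLe hPN).toEquiv, hP] at h7
    exact h7
  set k := Nat.card ρ.range with hk
  have h8 : k * N.index = 281655226944 := by
    have h9 : 73 * (k * N.index) = 73 * 281655226944 := by rw [← mul_assoc, h6, h2]
    exact Nat.eq_of_mul_eq_mul_left (by norm_num) h9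
  have h10 : k ≡ 4 [MOD 73] := by
    have h11 : k * N.index ≡ k * 1 [MOD 73] := Nat.ModEq.mul_left k h1
    rw [h8, mul_one] at h11
    have h12 : 281655226944 ≡ 4 [MOD 73] := by decide
    exact (h11.symm.trans h12)
  have h13 : k = 4 := by
    have h14 : k % 73 = 4 := h10
    rw [Nat.mod_eq_of_lt (by omega)] at h14
    exact h14
  rw [← h6, h13]

/-- elements normalising and centralising -/
theorem mem_of_comm {g : L} (h : ∀ x ∈ P, g * x = x * g) : g ∈ P := by
  rw [← hC, mem_centralizer_iff]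
  exact fun x hx => (h x hx).symm

/-- **`P` is inverted by an involution** -/
theorem exists_inv : ∃ i : L, i * i = 1 ∧ i ≠ 1 ∧ ∀ x ∈ P, i * x * i⁻¹ = x⁻¹ := by
  have : Fact (Nat.Prime 73) := ⟨prime73⟩
  have : Fact (Nat.Prime 2) := ⟨Nat.prime_two⟩
  obtain ⟨⟨i, hiN⟩, hi⟩ := exists_prime_orderOf_dvd_card' (G := ↥(normalizer (P : Set L))) 2
    (by rw [card_norm hL hP hC]; norm_num)
  rw [Subgroup.orderOf_mk] at hi
  have hii : i * i = 1 := by rw [← pow_two, ← hi, pow_orderOf_eq_one]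
  have hi1 : i ≠ 1 := by rintro rfl; rw [orderOf_one] at hi; norm_num at hi
  refine ⟨i, hii, hi1, ?_⟩
  have hnorm : ∀ x ∈ P, i * x * i⁻¹ ∈ P := fun x hx => (mem_normalizer_iff.1 hiN x).1 hx
  -- a generator
  obtain ⟨⟨v, hv⟩, hgen⟩ := (isCyclic_of_prime_card hP).exists_generator
  have hv73 : orderOf v = 73 := by
    have h1 := orderOf_eq_card_of_forall_mem_zpowers hgen
    rwa [Subgroup.orderOf_mk, hP] at h1
  have hgen' : ∀ x ∈ P, ∃ m : ℤ, v ^ m = x := by
    intro x hx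
    obtain ⟨m, hm⟩ := hgen ⟨x, hx⟩
    exact ⟨m, by simpa using congrArg Subtype.val hm⟩
  obtain ⟨m, hm⟩ := hgen' _ (hnorm v hv)
  have hpow : ∀ n : ℤ, i * v ^ n * i⁻¹ = v ^ (m * n) := by
    intro n
    rw [zpow_mul, hm, ← conj_zpow]
  have h2 : v ^ (m * m) = v := by
    rw [← hpow m, hm]
    calc i * (i * v * i⁻¹) * i⁻¹ = (i * i) * v * (i * i)⁻¹ := by group
      _ = v := by rw [hii]; group
  have h3 : ((73 : ℕ) : ℤ) ∣ (m - 1) * (m + 1) := by
    rw [← hv73, orderOf_dvd_iff_zpow_eq_one]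
    have : (m - 1) * (m + 1) = m * m - 1 := by ring
    rw [this, zpow_sub, h2, zpow_one, mul_inv_cancel]
  rcases (Nat.prime_iff_prime_int.1 prime73).dvd_or_dvd h3 with h4 | h4
  · exfalso
    have h5 : v ^ m = v := by
      rw [← hv73, orderOf_dvd_iff_zpow_eq_one, zpow_sub, zpow_one, mul_inv_eq_one] at h4
      exact h4
    have h6 : i ∈ P := by
      refine mem_of_comm hL hP hC ?_
      intro x hx
      obtain ⟨n, rfl⟩ := hgen' x hx
      have h7 := hpow n
      rw [zpow_mul, h5] at h7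
      rw [mul_inv_eq_iff_eq_mul] at h7
      exact h7
    have h8 : orderOf (⟨i, h6⟩ : P) ∣ 73 := by rw [← hP]; exact _root_.orderOf_dvd_natCard _
    rw [Subgroup.orderOf_mk, hi] at h8
    norm_num at h8
  · intro x hx
    obtain ⟨n, rfl⟩ := hgen' x hx
    rw [hpow]
    have h5 : v ^ (m + 1) = 1 := by
      rw [← hv73] at h4
      exact orderOf_dvd_iff_zpow_eq_one.1 h4
    have h6 : v ^ m = v⁻¹ := by rwa [zpow_add, zpow_one, mul_eq_one_iff_eq_inv] at h5
    rw [zpow_mul, h6, inv_zpow]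

/-- **Overgroups of order divisible by three are not solvable.** -/
theorem not_solvable (hS : ∀ S : Subgroup L, Nat.card S = 3 ^ 12 → ¬ IsMulCommutative S) {H : Subgroup L}
    (hPH : P ≤ H) {c : L} (hc : c ∈ H) (hc3 : orderOf c = 3) : ¬ Group.IsSolvable H := by
  intro hs
  have : Fact (Nat.Prime 73) := ⟨prime73⟩
  have hnt : Nontrivial H := by
    refine ⟨⟨c, hc⟩, 1, fun h => ?_⟩
    have h1 : c = 1 := congrArg Subtype.val h
    rw [h1, orderOf_one] at hc3
    norm_num at hc3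
  obtain ⟨r, N, hr, hNn, hNr, hNc, hN⟩ := Lib.SolvableNormalP.exists_normal_pSubgroup H
  have : Fact r.Prime := ⟨hr⟩
  set M : Subgroup L := N.map H.subtype with hM
  have hMH : M ≤ H := map_subtype_le _
  have hMn : ∀ g ∈ H, ∀ x ∈ M, g * x * g⁻¹ ∈ M := by
    rintro g hg _ ⟨x, hx, rfl⟩
    exact ⟨⟨g, hg⟩ * x * ⟨g, hg⟩⁻¹, hNn.conj_mem x hx _, rfl⟩
  have hMr : IsPGroup r M := hNr.map _
  have hM1 : M ≠ ⊥ := by
    rw [hM, Ne, Subgroup.map_eq_bot_iff_of_injective _ H.subtype_injective]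
    exact hN
  have hMc : IsMulCommutative M := by
    refine ⟨⟨?_⟩⟩
    rintro ⟨_, x, hx, rfl⟩ ⟨_, y, hy, rfl⟩
    apply Subtype.ext
    have h1 := congrArg (fun z : N => ((z : H) : L)) (hNc.is_comm.comm ⟨x, hx⟩ ⟨y, hy⟩)
    exact h1
  by_cases hr73 : r = 73
  · -- `M = P`
    subst hr73
    obtain ⟨S, hS'⟩ := exists_sylow hL hP
    have hPr : IsPGroup 73 P := by rw [← hS']; exact S.isPGroup'
    have hle : (S : Subgroup L) ≤ M ⊔ P := by rw [hS']; exact le_sup_right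
    have hPN : P ≤ normalizer (M : Set L) := by
      intro g hg
      rw [mem_normalizer_iff]
      intro x
      refine ⟨fun hx => hMn g (hPH hg) x hx, fun hx => ?_⟩
      have h1 := hMn g⁻¹ (H.inv_mem (hPH hg)) _ hx
      have h2 : g⁻¹ * (g * x * g⁻¹) * g⁻¹⁻¹ = x := by group
      rwa [h2] at h1
    have hsup : IsPGroup 73 ↥(M ⊔ P : Subgroup L) := hMr.to_sup_of_normal_left' hPr hPN
    have h1 : M ⊔ P = S := S.is_maximal' hsup hle
    rw [hS'] at h1
    have h2 : M ≤ P := by rw [← h1]; exact le_sup_left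
    have h3 : M = P := by
      have h4 : Nat.card M ∣ 73 := by rw [← hP]; exact Subgroup.card_dvd_of_le h2
      rcases (Nat.dvd_prime prime73).1 h4 with h5 | h5
      · exact absurd (Subgroup.card_eq_one.1 h5) hM1
      · exact Subgroup.eq_of_le_of_card_ge h2 (by rw [h5, hP])
    have h5 : c ∈ normalizer (P : Set L) := by
      rw [mem_normalizer_iff]
      intro x
      rw [← h3]
      refine ⟨fun hx => hMn c hc x hx, fun hx => ?_⟩
      have h1 := hMn c⁻¹ (H.inv_mem hc) _ hx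
      have h2 : c⁻¹ * (c * x * c⁻¹) * c⁻¹⁻¹ = x := by group
      rwa [h2] at h1
    have h6 : orderOf (⟨c, h5⟩ : ↥(normalizer (P : Set L))) ∣ 292 := by
      rw [← card_norm hL hP hC]; exact _root_.orderOf_dvd_natCard _
    rw [Subgroup.orderOf_mk, hc3] at h6
    norm_num at h6
  · -- `P` acts on `M` without fixed points
    let act : MulAction P M :=
      { smul := fun g x => ⟨g * x * (g : L)⁻¹, hMn g (hPH g.2) x x.2⟩
        one_smul := fun x => Subtype.ext (by change (1 : L) * x * (1 : L)⁻¹ = x; group)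
        mul_smul := fun g h x => Subtype.ext (by
          change ((g * h : P) : L) * x * ((g * h : P) : L)⁻¹ = g * (h * x * (h : L)⁻¹) * (g : L)⁻¹
          push_cast
          group) }
    have hPr : IsPGroup 73 P := IsPGroup.of_card (n := 1) (by rw [hP, pow_one])
    have h1 := hPr.card_modEq_card_fixedPoints M
    have h2 : Nat.card (MulAction.fixedPoints P M) = 1 := by
      rw [Nat.card_eq_one_iff_unique]
      refine ⟨⟨?_⟩, ⟨1, ?_⟩⟩
      · have key : ∀ x : MulAction.fixedPoints P M, (x : M) = 1 := by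
          rintro ⟨⟨x, hx⟩, hf⟩
          have hxP : x ∈ P := by
            refine mem_of_comm hL hP hC ?_
            intro y hy
            have h3 : y * x * y⁻¹ = x := congrArg Subtype.val (hf ⟨y, hy⟩)
            calc x * y = (y * x * y⁻¹) * y := by rw [h3]
              _ = y * x := by group
          have h3 : orderOf (⟨x, hxP⟩ : P) ∣ 73 := by rw [← hP]; exact _root_.orderOf_dvd_natCard _
          rw [Subgroup.orderOf_mk] at h3
          obtain ⟨k, hk⟩ := hMr ⟨x, hx⟩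
          have h4 : x ^ r ^ k = 1 := congrArg Subtype.val hk
          have h5 : orderOf x ∣ r ^ k := orderOf_dvd_of_pow_eq_one h4
          have h6 : orderOf x = 1 := by
            have hcop : Nat.Coprime 73 (r ^ k) := Nat.Coprime.pow_right k
              ((Nat.coprime_primes prime73 hr).2 (Ne.symm hr73))
            exact Nat.eq_one_of_dvd_coprimes hcop h3 h5
          exact Subtype.ext (orderOf_eq_one_iff.1 h6)
        intro x y
        exact Subtype.ext ((key x).trans (key y).symm)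
      · intro g
        apply Subtype.ext
        change (g : L) * (1 : L) * (g : L)⁻¹ = 1
        group
    rw [h2] at h1
    obtain ⟨k, hk⟩ := IsPGroup.iff_card.1 hMr
    have hd : r ^ k ∣ 20560831566912 := by rw [← hk, ← hL]; exact Subgroup.card_subgroup_dvd_card M
    rw [hk] at h1
    have hk0 : k ≠ 0 := by
      rintro rfl
      rw [pow_zero, Subgroup.card_eq_one] at hk
      exact hM1 hk
    have hr' : r ∣ 20560831566912 := (dvd_pow_self r hk0).trans hd
    have hfac : (20560831566912 : ℕ) = 2 ^ 6 * 3 ^ 12 * 7 ^ 2 * 13 ^ 2 * 73 := by norm_num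
    have hcases : r = 2 ∨ r = 3 ∨ r = 7 ∨ r = 13 := by
      rw [hfac] at hr'
      have hp2 : ∀ {s n : ℕ}, s.Prime → r ∣ s ^ n → r = s := fun {s n} hs h =>
        (Nat.prime_dvd_prime_iff_eq hr hs).1 (hr.dvd_of_dvd_pow h)
      rcases (Nat.Prime.dvd_mul hr).1 hr' with h | h
      · rcases (Nat.Prime.dvd_mul hr).1 h with h | h
        · rcases (Nat.Prime.dvd_mul hr).1 h with h | h
          · rcases (Nat.Prime.dvd_mul hr).1 h with h | h
            · exact Or.inl (hp2 Nat.prime_two h)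
            · exact Or.inr (Or.inl (hp2 Nat.prime_three h))
          · exact Or.inr (Or.inr (Or.inl (hp2 (by norm_num) h)))
        · exact Or.inr (Or.inr (Or.inr (hp2 (by norm_num) h)))
      · exact absurd ((Nat.prime_dvd_prime_iff_eq hr prime73).1 h) hr73
    have hle : ∀ {s n : ℕ}, s.Prime → ¬ s ^ (n + 1) ∣ 20560831566912 → s ^ k ∣ 20560831566912 → k ≤ n := by
      intro s n hs h1 h2
      by_contra hkn
      exact h1 ((pow_dvd_pow s (by omega)).trans h2)
    have h1' : r ^ k % 73 = 1 := h1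
    rcases hcases with rfl | rfl | rfl | rfl
    · have h3 : k ≤ 6 := hle Nat.prime_two (by norm_num) hd
      exact n2 k h3 hk0 h1'
    · have h3 : k ≤ 12 := hle Nat.prime_three (by norm_num) hd
      have h4 : k = 12 := n3 k h3 hk0 h1'
      subst h4
      exact hS M hk hMc
    · have h3 : k ≤ 2 := hle (by norm_num) (by norm_num) hd
      exact n7 k h3 hk0 h1'
    · have h3 : k ≤ 2 := hle (by norm_num) (by norm_num) hd
      exact n13 k h3 hk0 h1'

end

end Cfsg.Agent.H397.SNX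
end

-- part: H397/SNX/HexA
section
/-!
# Automorphisms of a group of type `³D₄` over `F₃` (helper397, for S3831)

`Ctx c` : the numerical facts of `³D₄(3)`.
* `map_K1` : automorphisms fixing `z` normalise `K1 ≅ SL₂(27)`;
* `inner_of_K1` : automorphisms trivial on `K1` are conjugations by elements of `K4 ≅ SL₂(3)`.
-/

set_option autoImplicit false
set_option linter.unusedSectionVars false

namespace Cfsg.Agent.H397.SNX

open Subgroup Cfsg Cfsg.Agent.SplitTwo Cfsg.Agent.TitsThree.RankTwoZ Cfsg.Agent.Lib.SL2Mat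
open Cfsg.Agent.Cit.HexBase Cfsg.Agent.Cit.AutFacts Cfsg.Agent.Cit
open Cfsg.Agent.H21.SN Cfsg.Agent.H459.Rad

variable {E : Type} [Field E] {σ : E ≃+* E} {L : Type} [Group L]

/-- the facts about `³D₄(3)` which are used -/
structure Ctx (c : HexGrp σ L) : Prop where
  finE : Finite E
  finL : Finite L
  two : (2 : E) ≠ 0
  char : CharP E 3
  cardE : Nat.card E = 27
  cardF : Nat.card ↥(fx σ) = 3
  cardL : Nat.card L = 20560831566912
  /-- automorphisms of order prime to three are inner -/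
  inn : ∀ τ : MulAut L, τ ^ 4 = 1 → ∃ g, τ = MulAut.conj g
  /-- the long root groups are conjugate under automorphisms -/
  long : ∀ τ : MulAut L, ∃ g : L, ∀ x ∈ c.X 4, τ x ∈ (c.X 4).map (MulAut.conj g).toMonoidHom
  torus : ∃ P : Subgroup L, Nat.card P = 73 ∧ centralizer (P : Set L) = P

theorem card_SL2 {F : Type*} [Field F] [Finite F] : Nat.card (Matrix.SpecialLinearGroup (Fin 2) F) =
    Nat.card F * (Nat.card F ^ 2 - 1) := by
  have : Fintype F := Fintype.ofFinite F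
  have h1 := Cfsg.Agent.S0242.result (F := F) rfl 2 (by norm_num)
  have hq : 2 ≤ Fintype.card F := Fintype.one_lt_card
  rw [Fin.prod_univ_two] at h1
  have h3 : Fintype.card F ^ 2 - Fintype.card F ^ 1 = (Fintype.card F - 1) * Fintype.card F := by
    rw [Nat.sub_mul, one_mul, pow_one, pow_two]
  simp only [Fin.val_zero, Fin.val_one, pow_zero] at h1
  rw [h3] at h1
  have h4 : (Fintype.card F - 1) * Nat.card (Matrix.SpecialLinearGroup (Fin 2) F) =
      (Fintype.card F - 1) * (Fintype.card F * (Fintype.card F ^ 2 - 1)) := by rw [h1]; ring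
  rw [Nat.card_eq_fintype_card (α := F)]
  exact Nat.eq_of_mul_eq_mul_left (by omega) h4

/-- fields with three elements -/
theorem cases_three {F : Type*} [Field F] [Finite F] (h : Nat.card F = 3) (a : F) : a = 0 ∨ a = 1 ∨ a = -1 := by
  have : Fintype F := Fintype.ofFinite F
  have h1 : a ^ 3 = a := by
    have := FiniteField.pow_card a
    rwa [← Nat.card_eq_fintype_card, h] at this
  have h2 : a * ((a - 1) * (a + 1)) = 0 := by linear_combination h1
  rcases mul_eq_zero.1 h2 with h3 | h3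
  · exact Or.inl h3
  · rcases mul_eq_zero.1 h3 with h4 | h4
    · exact Or.inr (Or.inl (sub_eq_zero.1 h4))
    · exact Or.inr (Or.inr (eq_neg_of_add_eq_zero_left h4))

namespace Ctx

variable {c : HexGrp σ L} (C : Ctx c)

include C

theorem card_K1 : Nat.card c.K1 = 19656 := by
  have := C.finE
  rw [← Nat.card_congr (c.equivK1 C.two).toEquiv, card_SL2, C.cardE]
  norm_num

theorem card_K4 : Nat.card c.K4 = 24 := by
  have := C.finE
  rw [← Nat.card_congr c.equivK4.toEquiv, card_SL2, C.cardF]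
  norm_num

theorem center_bot : center L = ⊥ := by
  rw [eq_bot_iff]
  intro g hg
  rw [mem_bot]
  exact c.cen g fun x => (mem_center_iff.1 hg x).symm

theorem conj_inj : Function.Injective (MulAut.conj : L →* MulAut L) :=
  H839.Rad.conj_injective C.center_bot

/-- **automorphisms fixing `z` normalise `K1`** -/
theorem map_K1 {τ : MulAut L} (hz : τ c.z = c.z) : ∀ x ∈ c.K1, τ x ∈ c.K1 := by
  have := C.finE
  have := C.finL
  have h2 := C.two
  set K : Subgroup L := c.K1.map τ.toMonoidHom with hKd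
  have hK : IsType K :=
    isType_of_equiv h2 ((c.K1.equivMapOfInjective τ.toMonoidHom τ.injective).symm.trans (c.equivK1 h2).symm)
  have hKz : K ≤ centralizer ({c.z} : Set L) := by
    rintro _ ⟨x, hx, rfl⟩
    rw [mem_centralizer_singleton_iff]
    have h1 : x * c.z = c.z * x := c.mem_CZ.1 (c.K1_le_CZ hx)
    change τ x * c.z = c.z * τ x
    rw [← hz, ← map_mul, ← map_mul, h1]
  have hn : (K.subgroupOf (centralizer ({c.z} : Set L))).Normal := by
    refine ⟨?_⟩
    rintro ⟨n, hn⟩ hnK ⟨g, hg⟩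
    rw [mem_subgroupOf] at hnK ⊢
    obtain ⟨x, hx, hxn⟩ := hnK
    have hxn' : τ x = n := hxn
    obtain ⟨g', rfl⟩ := τ.surjective g
    have h1 : g' * c.z = c.z * g' := by
      apply τ.injective
      rw [map_mul, map_mul, hz]
      exact mem_centralizer_singleton_iff.1 hg
    refine ⟨g' * x * g'⁻¹, c.nml1 h2 h1 hx, ?_⟩
    change τ (g' * x * g'⁻¹) = τ g' * n * (τ g')⁻¹
    rw [map_mul, map_mul, map_inv, hxn']
  rcases c.eq_K1_or_eq_K4 h2 hK hKz hn.isSubnormal with h | h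
  · intro x hx
    rw [← h]
    exact ⟨x, hx, rfl⟩
  · exfalso
    have h3 : Nat.card K = Nat.card c.K1 := Subgroup.card_map_of_injective τ.injective
    rw [h, C.card_K4, C.card_K1] at h3
    norm_num at h3

/-- **automorphisms trivial on `K1`** -/
theorem inner_of_K1 {τ : MulAut L} (h1 : ∀ x, τ (c.pb x) = c.pb x) : ∃ y, τ = MulAut.conj (c.p4 y) := by
  have := C.finE
  have := C.finL
  have h2 := C.two
  have ht : ∀ x, ∃ y, τ (c.p4 x) = c.p4 y := by
    intro x
    have h3 : τ (c.p4 x) ∈ c.K4 := c.centralizer_K1 h2 (fun y => by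
      rw [← h1 y, ← map_mul, ← map_mul, c.comm_pb_p4 y x])
    obtain ⟨y, hy⟩ := h3
    exact ⟨y, hy.symm⟩
  obtain ⟨s, d, hd, φ, hu, hl⟩ := HexGrp.exists_adjust c.p4 c.p4_inj τ ht
  set δ : MulAut L := MulAut.conj (c.p4 s) * τ with hδ
  have hφ : ∀ a, φ a = a := by
    intro a
    rcases cases_three C.cardF a with rfl | rfl | rfl
    · exact map_zero φ
    · exact map_one φ
    · rw [map_neg, map_one]
  have hdd : d * d = 1 := by
    rcases cases_three C.cardF d with rfl | rfl | rfl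
    · exact absurd rfl hd
    · rw [one_mul]
    · rw [neg_mul_neg, one_mul]
  have hδ1 : ∀ x, δ (c.pb x) = c.pb x := by
    intro x
    rw [hδ, MulAut.mul_apply, h1, MulAut.conj_apply, ← c.comm_pb_p4 x s]
    group
  have hδu : ∀ a, (δ * δ) (c.p4 (up a)) = c.p4 (up a) := by
    intro a
    rw [MulAut.mul_apply, hu, hu, hφ, hφ, ← mul_assoc, hdd, one_mul]
  have hδl : ∀ a, (δ * δ) (c.p4 (lo a)) = c.p4 (lo a) := by
    intro a
    rw [MulAut.mul_apply, hl, hl, hφ, hφ, div_div, hdd, div_one]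
  have hδδ : ∀ y, (δ * δ) (c.p4 y) = c.p4 y := by
    intro y
    obtain ⟨a, b, d', e, rfl⟩ := exists_up_lo y
    simp only [map_mul, hδu, hδl]
  have h4 : δ ^ 4 = 1 := by
    have e : δ ^ 4 = (δ * δ) * (δ * δ) := by rw [← pow_two δ, ← pow_add]
    rw [e]
    rcases HexGrp.eq_of_K14 (c := c) h2 (τ := δ * δ) (fun x => by rw [MulAut.mul_apply, hδ1, hδ1]) hδδ with h | h
    · rw [h, one_mul]
    · rw [h, ← map_mul, c.z_sq, map_one]
  obtain ⟨g, hg⟩ := C.inn δ h4
  have hgK : g ∈ c.K4 := by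
    refine c.centralizer_K1 h2 fun x => ?_
    have h3 := hδ1 x
    rw [hg, MulAut.conj_apply] at h3
    rw [mul_inv_eq_iff_eq_mul] at h3
    exact h3
  obtain ⟨y, rfl⟩ := hgK
  refine ⟨s⁻¹ * y, ?_⟩
  rw [map_mul, map_inv, map_mul, map_inv]
  rw [← hg, hδ, inv_mul_cancel_left]

end Ctx

end Cfsg.Agent.H397.SNX
end
end

-- part: H575/SN/Blk
section
set_option linter.all false
open scoped Cfsg.Agent.FastGrp

/-!
# Blocks in `PSL_n(q)` (helper575, for S3831)

* `bm e X Y` : the block matrix; `blk e : SL_k → SL_n`; `cj_blk`;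
* `phi e P : SL_k → PSL_n`, `g ↦ P (g ⊕ 1) P⁻¹`; `phi_injective`;
* `eq_one_of_phi`, `ps_of_phi`.
-/

set_option autoImplicit false
set_option linter.unusedSectionVars false

namespace Cfsg.Agent.H575.SN

open Subgroup Cfsg Matrix Cfsg.Agent.H459.Rad Cfsg.Agent.H21.SN
open Cfsg.Agent.ClassicalGeometry.AutPSL.Root Cfsg.Agent.ClassicalGeometry.AutPSL.Auto
  Cfsg.Agent.ClassicalGeometry.AutPSL.Main

section Mat

variable {F : Type*} [Field F] {k m n : ℕ} (e : Fin k ⊕ Fin m ≃ Fin n)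

/-- block diagonal matrix -/
def bm (X : Matrix (Fin k) (Fin k) F) (Y : Matrix (Fin m) (Fin m) F) : Matrix (Fin n) (Fin n) F :=
  Matrix.reindex e e (Matrix.fromBlocks X 0 0 Y)

theorem bm_mul (X X' : Matrix (Fin k) (Fin k) F) (Y Y' : Matrix (Fin m) (Fin m) F) :
    bm e X Y * bm e X' Y' = bm e (X * X') (Y * Y') := by
  unfold bm
  rw [Matrix.reindex_apply, Matrix.reindex_apply, Matrix.reindex_apply, Matrix.submatrix_mul_equiv,
    Matrix.fromBlocks_multiply]
  simp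

theorem bm_one : bm e (1 : Matrix (Fin k) (Fin k) F) 1 = 1 := by
  unfold bm
  rw [Matrix.fromBlocks_one, Matrix.reindex_apply, Matrix.submatrix_one_equiv]

theorem bm_det (X : Matrix (Fin k) (Fin k) F) (Y : Matrix (Fin m) (Fin m) F) :
    (bm e X Y).det = X.det * Y.det := by
  unfold bm
  rw [Matrix.det_reindex_self, Matrix.det_fromBlocks_zero₂₁]

theorem bm_smul (c : F) (X : Matrix (Fin k) (Fin k) F) (Y : Matrix (Fin m) (Fin m) F) :
    c • bm e X Y = bm e (c • X) (c • Y) := by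
  unfold bm
  rw [Matrix.reindex_apply, Matrix.reindex_apply]
  change (c • Matrix.fromBlocks X 0 0 Y).submatrix e.symm e.symm = _
  rw [Matrix.fromBlocks_smul, smul_zero, smul_zero]

theorem bm_inj {X X' : Matrix (Fin k) (Fin k) F} {Y Y' : Matrix (Fin m) (Fin m) F}
    (h : bm e X Y = bm e X' Y') : X = X' ∧ Y = Y' := by
  have h1 := (Matrix.reindex e e).injective h
  rw [Matrix.fromBlocks_inj] at h1
  exact ⟨h1.1, h1.2.2.2⟩

/-- the embedding `g ↦ g ⊕ 1` -/
def blk : Matrix.SpecialLinearGroup (Fin k) F →* Matrix.SpecialLinearGroup (Fin n) F where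
  toFun g := ⟨bm e (g : Matrix (Fin k) (Fin k) F) 1, by rw [bm_det, g.2, Matrix.det_one, one_mul]⟩
  map_one' := Subtype.ext (bm_one e)
  map_mul' g h := Subtype.ext (by
    change bm e ((g : Matrix (Fin k) (Fin k) F) * (h : Matrix (Fin k) (Fin k) F)) 1 =
      bm e (g : Matrix (Fin k) (Fin k) F) 1 * bm e (h : Matrix (Fin k) (Fin k) F) 1
    rw [bm_mul, mul_one])

theorem coe_blk (g : Matrix.SpecialLinearGroup (Fin k) F) :
    (blk e g : Matrix (Fin n) (Fin n) F) = bm e (g : Matrix (Fin k) (Fin k) F) 1 := rfl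

theorem cj_blk {A P : GL (Fin n) F} {a : GL (Fin k) F} {Y : Matrix (Fin m) (Fin m) F}
    (h : (A : Matrix (Fin n) (Fin n) F) * (P : Matrix (Fin n) (Fin n) F) =
      (P : Matrix (Fin n) (Fin n) F) * bm e (a : Matrix (Fin k) (Fin k) F) Y)
    (g : Matrix.SpecialLinearGroup (Fin k) F) : cj A (cj P (blk e g)) = cj P (blk e (cj a g)) := by
  apply Subtype.ext
  rw [coe_cj, coe_cj, coe_cj, coe_blk, coe_blk, coe_cj]
  set a' : Matrix (Fin k) (Fin k) F := (a : Matrix (Fin k) (Fin k) F) with ha'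
  set g' : Matrix (Fin k) (Fin k) F := (g : Matrix (Fin k) (Fin k) F)
  have h1 : a' * g' * ((a⁻¹ : GL (Fin k) F) : Matrix (Fin k) (Fin k) F) * a' = a' * g' := by
    rw [mul_assoc (a' * g'), a.inv_mul, mul_one]
  have h2 : bm e a' Y * bm e g' 1 =
      bm e (a' * g' * ((a⁻¹ : GL (Fin k) F) : Matrix (Fin k) (Fin k) F)) 1 * bm e a' Y := by
    rw [bm_mul, bm_mul, h1, mul_one, one_mul]
  have h3 : (A : Matrix (Fin n) (Fin n) F) * ((P : Matrix (Fin n) (Fin n) F) * bm e g' 1 *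
      ((P⁻¹ : GL (Fin n) F) : Matrix (Fin n) (Fin n) F)) =
      (P : Matrix (Fin n) (Fin n) F) *
        bm e (a' * g' * ((a⁻¹ : GL (Fin k) F) : Matrix (Fin k) (Fin k) F)) 1 *
        ((P⁻¹ : GL (Fin n) F) : Matrix (Fin n) (Fin n) F) * (A : Matrix (Fin n) (Fin n) F) := by
    have h4 : (A : Matrix (Fin n) (Fin n) F) =
        (P : Matrix (Fin n) (Fin n) F) * bm e a' Y * ((P⁻¹ : GL (Fin n) F) : Matrix (Fin n) (Fin n) F) := by
      rw [← h, mul_assoc, P.mul_inv, mul_one]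
    calc (A : Matrix (Fin n) (Fin n) F) * ((P : Matrix (Fin n) (Fin n) F) * bm e g' 1 *
          ((P⁻¹ : GL (Fin n) F) : Matrix (Fin n) (Fin n) F))
        = ((A : Matrix (Fin n) (Fin n) F) * (P : Matrix (Fin n) (Fin n) F)) * bm e g' 1 *
          ((P⁻¹ : GL (Fin n) F) : Matrix (Fin n) (Fin n) F) := by simp only [mul_assoc]
      _ = (P : Matrix (Fin n) (Fin n) F) * (bm e a' Y * bm e g' 1) *
          ((P⁻¹ : GL (Fin n) F) : Matrix (Fin n) (Fin n) F) := by rw [h]; simp only [mul_assoc]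
      _ = (P : Matrix (Fin n) (Fin n) F) *
          bm e (a' * g' * ((a⁻¹ : GL (Fin k) F) : Matrix (Fin k) (Fin k) F)) 1 *
          (((P⁻¹ : GL (Fin n) F) : Matrix (Fin n) (Fin n) F) * (P : Matrix (Fin n) (Fin n) F)) * bm e a' Y *
          ((P⁻¹ : GL (Fin n) F) : Matrix (Fin n) (Fin n) F) := by
            rw [h2, P.inv_mul, mul_one]; simp only [mul_assoc]
      _ = _ := by rw [h4]; simp only [mul_assoc]
  rw [h3, mul_assoc _ _ ((A⁻¹ : GL (Fin n) F) : Matrix (Fin n) (Fin n) F), A.mul_inv, mul_one]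

theorem fld_blk (σ : F ≃+* F) (g : Matrix.SpecialLinearGroup (Fin k) F) :
    fld σ (blk e g) = blk e (fld σ g) := by
  apply Subtype.ext
  ext i j
  rw [coe_fld_apply, coe_blk, coe_blk]
  unfold bm
  rw [Matrix.reindex_apply, Matrix.reindex_apply, Matrix.submatrix_apply, Matrix.submatrix_apply]
  rcases e.symm i with i' | i' <;> rcases e.symm j with j' | j'
  · rfl
  · exact map_zero σ
  · exact map_zero σ
  · rw [Matrix.fromBlocks_apply₂₂, Matrix.fromBlocks_apply₂₂, Matrix.one_apply]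
    split_ifs
    · exact map_one σ
    · exact map_zero σ

/-- the conjugated block in `PSL_n` -/
def phi (P : GL (Fin n) F) : Matrix.SpecialLinearGroup (Fin k) F →* Matrix.ProjectiveSpecialLinearGroup (Fin n) F :=
  pr.comp ((cj P).toMonoidHom.comp (blk e))

theorem phi_apply (P : GL (Fin n) F) (g : Matrix.SpecialLinearGroup (Fin k) F) :
    phi e P g = pr (cj P (blk e g)) := rfl

theorem phi_injective (hm : 0 < m) (P : GL (Fin n) F) : Function.Injective (phi e P) := by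
  intro g h hgh
  rw [phi_apply, phi_apply] at hgh
  obtain ⟨c, hc⟩ := exists_smul_of_pr_eq hgh
  rw [coe_cj, coe_cj] at hc
  have h1 : (blk e h : Matrix (Fin n) (Fin n) F) = c • (blk e g : Matrix (Fin n) (Fin n) F) := by
    have h2 : ((P⁻¹ : GL (Fin n) F) : Matrix (Fin n) (Fin n) F) *
        ((P : Matrix (Fin n) (Fin n) F) * (blk e h : Matrix (Fin n) (Fin n) F) *
          ((P⁻¹ : GL (Fin n) F) : Matrix (Fin n) (Fin n) F)) * (P : Matrix (Fin n) (Fin n) F) =
        ((P⁻¹ : GL (Fin n) F) : Matrix (Fin n) (Fin n) F) *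
        (c • ((P : Matrix (Fin n) (Fin n) F) * (blk e g : Matrix (Fin n) (Fin n) F) *
          ((P⁻¹ : GL (Fin n) F) : Matrix (Fin n) (Fin n) F))) * (P : Matrix (Fin n) (Fin n) F) := by
      rw [hc]
    rw [Matrix.mul_smul, Matrix.smul_mul] at h2
    have h3 : ∀ Z : Matrix (Fin n) (Fin n) F, ((P⁻¹ : GL (Fin n) F) : Matrix (Fin n) (Fin n) F) *
        ((P : Matrix (Fin n) (Fin n) F) * Z * ((P⁻¹ : GL (Fin n) F) : Matrix (Fin n) (Fin n) F)) *
        (P : Matrix (Fin n) (Fin n) F) = Z := by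
      intro Z
      calc _ = (((P⁻¹ : GL (Fin n) F) : Matrix (Fin n) (Fin n) F) * (P : Matrix (Fin n) (Fin n) F)) * Z *
          (((P⁻¹ : GL (Fin n) F) : Matrix (Fin n) (Fin n) F) * (P : Matrix (Fin n) (Fin n) F)) := by
            simp only [mul_assoc]
        _ = Z := by rw [P.inv_mul, one_mul, mul_one]
    rwa [h3, h3] at h2
  rw [coe_blk, coe_blk, bm_smul] at h1
  obtain ⟨h2, h3⟩ := bm_inj e h1
  have hc1 : c = 1 := by
    have h4 := congrFun (congrFun h3 ⟨0, hm⟩) ⟨0, hm⟩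
    rw [Matrix.smul_apply, Matrix.one_apply_eq, smul_eq_mul, mul_one] at h4
    exact h4.symm
  rw [hc1, one_smul] at h2
  exact Subtype.ext h2.symm

theorem lift_cj_phi {A P : GL (Fin n) F} {a : GL (Fin k) F} {Y : Matrix (Fin m) (Fin m) F}
    (h : (A : Matrix (Fin n) (Fin n) F) * (P : Matrix (Fin n) (Fin n) F) =
      (P : Matrix (Fin n) (Fin n) F) * bm e (a : Matrix (Fin k) (Fin k) F) Y)
    (g : Matrix.SpecialLinearGroup (Fin k) F) :
    Cfsg.Agent.ClassicalGeometry.AutPSL.Auto.lift (cj A) (phi e P g) = phi e P (cj a g) := by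
  rw [phi_apply, phi_apply, lift_pr, cj_blk e h]

theorem lift_fld_phi (σ : F ≃+* F) (P : GL (Fin n) F) (g : Matrix.SpecialLinearGroup (Fin k) F) :
    Cfsg.Agent.ClassicalGeometry.AutPSL.Auto.lift (cj P * fld σ * (cj P)⁻¹) (phi e P g) = phi e P (fld σ g) := by
  rw [phi_apply, phi_apply, lift_pr, MulAut.mul_apply, MulAut.mul_apply, MulAut.inv_apply_self, fld_blk]

end Mat

section Grp

variable {K S : Type*} [Group K] [Finite K] [Group S]

/-- **an invariant quasisimple group** -/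
theorem eq_one_of_rn (hq : IsQuasisimple S) (hS : NoS3 S) {φ : S →* K} (hφ : Function.Injective φ) {x : MulAut K}
    {y : MulAut S} (hxy : ∀ g, x (φ g) = φ (y g)) (hR : RN x) : y = 1 := by
  have e : S ≃* φ.range := MonoidHom.ofInjective hφ
  have hq' : IsQuasisimple φ.range :=
    Cfsg.Agent.SignalizersComponents.PCompQuot.quasisimple_congr e hq
  have hN : NoS3 φ.range := hS.congr e
  apply MulEquiv.ext
  intro g
  apply hφ
  rw [← hxy]
  refine hR.eq_of_quasisimple hN ?_ hq' (m := φ g) ⟨g, rfl⟩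
  rintro _ ⟨h, rfl⟩
  exact ⟨y h, (hxy h).symm⟩

/-- **an invariant section** -/
theorem ps_of_phi {φ : S →* K} (hφ : Function.Injective φ) {x : MulAut K}
    {y : MulAut S} (hxy : ∀ g, x (φ g) = φ (y g)) {L : Type*} [Group L] {f : S →* L} (hf : Function.Surjective f)
    {z : MulAut L} (hz : ∀ g, f (y g) = z (f g)) {k : ℕ} (hP : PS k x) : PS k z := by
  let e : S ≃* φ.range := MonoidHom.ofInjective hφ
  have he : ∀ g, ((e g : φ.range) : K) = φ g := fun g => rfl
  have hM : ∀ m ∈ φ.range, x m ∈ φ.range := by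
    rintro _ ⟨h, rfl⟩
    exact ⟨y h, (hxy h).symm⟩
  refine Cfsg.Agent.H21.SN.PS.sec hP hM (f.comp e.symm.toMonoidHom) (hf.comp e.symm.surjective) z ?_
  intro m
  obtain ⟨g, rfl⟩ := e.surjective m
  have h1 : (⟨x (e g : φ.range), hM _ (e g).2⟩ : φ.range) = e (y g) := by
    apply Subtype.ext
    change x (φ g) = φ (y g)
    exact hxy g
  rw [h1]
  change f (e.symm (e (y g))) = z (f (e.symm (e g)))
  rw [MulEquiv.symm_apply_apply, MulEquiv.symm_apply_apply, hz]

end Grp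

end Cfsg.Agent.H575.SN
end

-- part: H575/SN/Split
section
set_option linter.all false
open scoped Cfsg.Agent.FastGrp

/-!
# Invariant blocks of a matrix `A` with `A ^ p` scalar (helper575, for S3831)

* `exists_blk` : an invariant block has an invariant complement;
* `li_of_not_cube` : `A ^ 3 = c` not a cube: `v`, `A v`, `A ^ 2 v` are independent;
* `exists_plane` : `A ^ 3 = 1` not scalar: an invariant plane on which `A` is not scalar.
-/

set_option autoImplicit false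
set_option linter.unusedSectionVars false

namespace Cfsg.Agent.H575.SN

open Matrix

variable {F : Type*} [Field F] {k n : ℕ}

theorem exists_blk {A : GL (Fin n) F} {p : ℕ} {c : F} (hp : (p : F) ≠ 0) (hc : c ≠ 0)
    (hA : (A : Matrix (Fin n) (Fin n) F) ^ p = c • 1) {w : Fin k → Fin n → F} (hw : LinearIndependent F w)
    (hinv : ∀ j, (A : Matrix (Fin n) (Fin n) F) *ᵥ w j ∈ Submodule.span F (Set.range w)) :
    ∃ (m : ℕ) (e : Fin k ⊕ Fin m ≃ Fin n) (P : GL (Fin n) F) (a : GL (Fin k) F) (Y : Matrix (Fin m) (Fin m) F),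
      (A : Matrix (Fin n) (Fin n) F) * (P : Matrix (Fin n) (Fin n) F) =
        (P : Matrix (Fin n) (Fin n) F) * bm e (a : Matrix (Fin k) (Fin k) F) Y ∧
      ∀ j, (A : Matrix (Fin n) (Fin n) F) *ᵥ w j = ∑ i, (a : Matrix (Fin k) (Fin k) F) i j • w i := by
  classical
  set T : Module.End F (Fin n → F) := toLin' (A : Matrix (Fin n) (Fin n) F) with hT
  have hTa : ∀ u, T u = (A : Matrix (Fin n) (Fin n) F) *ᵥ u := fun u => toLin'_apply _ _
  have hTp : T ^ p = c • 1 := by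
    rw [hT, ← toLin'_pow, hA]
    apply LinearMap.ext
    intro v
    rw [toLin'_apply, smul_mulVec, one_mulVec]
    rfl
  have hss : T.IsSemisimple := Cfsg.Agent.BpLin.semisimple_of_pow hp hc hTp
  set U : Submodule F (Fin n → F) := Submodule.span F (Set.range w) with hU
  have hUT : U ∈ Module.End.invtSubmodule T := by
    rw [Module.End.mem_invtSubmodule]
    rw [hU, Submodule.span_le]
    rintro _ ⟨j, rfl⟩
    change T (w j) ∈ Submodule.span F (Set.range w)
    rw [hTa]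
    exact hinv j
  obtain ⟨W, hWT, hUW⟩ := Module.End.isSemisimple_iff.1 hss U hUT
  have hW : ∀ u ∈ W, T u ∈ W := fun u hu => (Module.End.mem_invtSubmodule T).1 hWT hu
  have hU' : ∀ u ∈ U, T u ∈ U := fun u hu => (Module.End.mem_invtSubmodule T).1 hUT hu
  have hwU : ∀ j, w j ∈ U := fun j => Submodule.subset_span ⟨j, rfl⟩
  set bU : Module.Basis (Fin k) F U := Module.Basis.span hw with hbU
  have hbUw : ∀ j, ((bU j : U) : Fin n → F) = w j := fun j => by rw [hbU, Module.Basis.span_apply]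
  set m := Module.finrank F W with hm
  set bW : Module.Basis (Fin m) F W := Module.finBasis F W with hbW
  set b : Module.Basis (Fin k ⊕ Fin m) F (Fin n → F) :=
    (bU.prod bW).map (Submodule.prodEquivOfIsCompl U W hUW) with hb
  have hbl : ∀ j, b (Sum.inl j) = w j := by
    intro j
    rw [hb, Module.Basis.map_apply, Submodule.coe_prodEquivOfIsCompl']
    simp [hbUw]
  have hbr : ∀ j, b (Sum.inr j) = (bW j : Fin n → F) := by
    intro j
    rw [hb, Module.Basis.map_apply, Submodule.coe_prodEquivOfIsCompl']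
    simp
  let e : Fin k ⊕ Fin m ≃ Fin n := b.indexEquiv (Pi.basisFun F (Fin n))
  let P₀ : Matrix (Fin n) (Fin n) F := Matrix.of fun i j => b (e.symm j) i
  have hu : IsUnit P₀ := by
    rw [← Matrix.linearIndependent_cols_iff_isUnit]
    exact b.linearIndependent.comp e.symm e.symm.injective
  obtain ⟨P, hP⟩ := hu
  let a₀ : Matrix (Fin k) (Fin k) F := Matrix.of fun i j => bU.repr ⟨T (w j), hU' _ (hwU j)⟩ i
  let Y : Matrix (Fin m) (Fin m) F := Matrix.of fun i j => bW.repr ⟨T (bW j), hW _ (bW j).2⟩ i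
  have ha₀ : ∀ j, T (w j) = ∑ i, a₀ i j • w i := by
    intro j
    have h1 := congrArg Subtype.val (bU.sum_repr ⟨T (w j), hU' _ (hwU j)⟩)
    rw [Submodule.coe_sum] at h1
    change _ = T (w j) at h1
    rw [← h1]
    refine Finset.sum_congr rfl fun i _ => ?_
    rw [Submodule.coe_smul]
    exact congrArg (fun z => a₀ i j • z) (hbUw i)
  have hY : ∀ j, T (bW j) = ∑ i, Y i j • (bW i : Fin n → F) := by
    intro j
    have h1 := congrArg Subtype.val (bW.sum_repr ⟨T (bW j), hW _ (bW j).2⟩)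
    rw [Submodule.coe_sum] at h1
    change _ = T (bW j) at h1
    rw [← h1]
    refine Finset.sum_congr rfl fun i _ => ?_
    rw [Submodule.coe_smul]
    rfl
  have hAP : (A : Matrix (Fin n) (Fin n) F) * (P : Matrix (Fin n) (Fin n) F) =
      (P : Matrix (Fin n) (Fin n) F) * bm e a₀ Y := by
    rw [hP]
    ext i j
    have h2 : ((A : Matrix (Fin n) (Fin n) F) * P₀) i j = T (b (e.symm j)) i := by
      rw [hTa]
      rfl
    have h3 : (P₀ * bm e a₀ Y) i j = ∑ l : Fin k ⊕ Fin m, b l i * Matrix.fromBlocks a₀ 0 0 Y l (e.symm j) := by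
      rw [Matrix.mul_apply, ← Equiv.sum_comp e]
      refine Finset.sum_congr rfl fun l _ => ?_
      change b (e.symm (e l)) i * Matrix.fromBlocks a₀ 0 0 Y (e.symm (e l)) (e.symm j) = _
      rw [Equiv.symm_apply_apply]
    rw [h2, h3, Fintype.sum_sum_type]
    rcases e.symm j with j' | j'
    · rw [hbl, ha₀]
      simp only [Matrix.fromBlocks_apply₁₁, Matrix.fromBlocks_apply₂₁, Matrix.zero_apply, mul_zero,
        Finset.sum_const_zero, add_zero, Finset.sum_apply, Pi.smul_apply, smul_eq_mul, hbl]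
      exact Finset.sum_congr rfl fun l _ => mul_comm _ _
    · rw [hbr, hY]
      simp only [Matrix.fromBlocks_apply₁₂, Matrix.fromBlocks_apply₂₂, Matrix.zero_apply, mul_zero,
        Finset.sum_const_zero, zero_add, Finset.sum_apply, Pi.smul_apply, smul_eq_mul, hbr]
      exact Finset.sum_congr rfl fun l _ => mul_comm _ _
  have hdet : IsUnit a₀ := by
    rw [Matrix.isUnit_iff_isUnit_det, isUnit_iff_ne_zero]
    intro h0
    have h4 : bm e a₀ Y = ((P⁻¹ * A * P : GL (Fin n) F) : Matrix (Fin n) (Fin n) F) := by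
      rw [Units.val_mul, Units.val_mul, mul_assoc, hAP, ← mul_assoc, P.inv_mul, one_mul]
    have h5 : (bm e a₀ Y).det = 0 := by rw [bm_det, h0, zero_mul]
    rw [h4] at h5
    exact (Matrix.isUnits_det_units (P⁻¹ * A * P)).ne_zero h5
  obtain ⟨a, ha⟩ := hdet
  refine ⟨m, e, P, a, Y, ?_, ?_⟩
  · rw [ha]; exact hAP
  · intro j
    rw [ha, ← hTa]
    exact ha₀ j

theorem li_of_not_cube {M : Matrix (Fin n) (Fin n) F} {c : F} (hM : M ^ 3 = c • 1) (hc : ∀ d : F, d ^ 3 ≠ c)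
    {v : Fin n → F} (hv : v ≠ 0) : LinearIndependent F ![v, M *ᵥ v, M *ᵥ (M *ᵥ v)] := by
  rw [Fintype.linearIndependent_iff]
  intro g hg
  rw [Fin.sum_univ_three] at hg
  change g 0 • v + g 1 • (M *ᵥ v) + g 2 • (M *ᵥ (M *ᵥ v)) = 0 at hg
  by_contra hne
  push Not at hne
  set T : Module.End F (Fin n → F) := toLin' M with hT
  have hTp : T ^ 3 = c • 1 := by
    rw [hT, ← toLin'_pow, hM]
    apply LinearMap.ext
    intro v
    rw [toLin'_apply, smul_mulVec, one_mulVec]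
    rfl
  set q : Polynomial F := Polynomial.C (g 0) + Polynomial.C (g 1) * Polynomial.X +
    Polynomial.C (g 2) * Polynomial.X ^ 2 with hq
  have hqc : ∀ i : Fin 3, q.coeff i = g i := by
    intro i
    fin_cases i <;> simp [hq, Polynomial.coeff_X, Polynomial.coeff_C, Polynomial.coeff_X_pow]
  have hq0 : q ≠ 0 := by
    intro h
    obtain ⟨i, hi⟩ := hne
    apply hi
    rw [← hqc, h, Polynomial.coeff_zero]
  have hqd : q.natDegree < 3 := by
    have h1 : q.natDegree ≤ 2 := by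
      rw [hq]
      compute_degree
    omega
  have hirr := X_pow_sub_C_irreducible_of_prime Nat.prime_three hc
  have hcop : IsCoprime (Polynomial.X ^ 3 - Polynomial.C c) q := by
    rw [hirr.coprime_iff_not_dvd]
    refine Polynomial.not_dvd_of_natDegree_lt hq0 ?_
    rwa [Polynomial.natDegree_X_pow_sub_C]
  obtain ⟨a, b, hab⟩ := hcop
  have h1 : Polynomial.aeval T (Polynomial.X ^ 3 - Polynomial.C c) = 0 := by
    rw [map_sub, map_pow, Polynomial.aeval_X, Polynomial.aeval_C, hTp, Algebra.algebraMap_eq_smul_one, sub_self]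
  have h2 : Polynomial.aeval T q v = 0 := by
    rw [hq, map_add, map_add, map_mul, map_mul, map_pow, Polynomial.aeval_X, Polynomial.aeval_C, Polynomial.aeval_C,
      Polynomial.aeval_C, Algebra.algebraMap_eq_smul_one, Algebra.algebraMap_eq_smul_one,
      Algebra.algebraMap_eq_smul_one, pow_two]
    simp only [LinearMap.add_apply, LinearMap.smul_apply, Module.End.mul_apply, Module.End.one_apply]
    rw [hT, toLin'_apply, toLin'_apply]
    exact hg
  have h3 := congrArg (fun f => Polynomial.aeval T f v) hab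
  simp only [map_add, map_mul, map_one, h1, mul_zero, zero_add] at h3
  rw [Module.End.mul_apply, h2, map_zero, Module.End.one_apply] at h3
  exact hv h3.symm

theorem exists_plane {A : GL (Fin n) F} (hA : (A : Matrix (Fin n) (Fin n) F) ^ 3 = 1)
    (hs : ∀ s : F, (A : Matrix (Fin n) (Fin n) F) ≠ s • 1) :
    ∃ v : Fin n → F, LinearIndependent F ![v, (A : Matrix (Fin n) (Fin n) F) *ᵥ v] ∧
      (A : Matrix (Fin n) (Fin n) F) *ᵥ ((A : Matrix (Fin n) (Fin n) F) *ᵥ v) ∈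
        Submodule.span F {v, (A : Matrix (Fin n) (Fin n) F) *ᵥ v} := by
  set M : Matrix (Fin n) (Fin n) F := (A : Matrix (Fin n) (Fin n) F) with hM
  have hM3 : ∀ v, M *ᵥ (M *ᵥ (M *ᵥ v)) = v := by
    intro v
    rw [mulVec_mulVec, mulVec_mulVec, show M * M * M = M ^ 3 by rw [pow_succ, pow_two], hA, one_mulVec]
  obtain ⟨v, hv⟩ : ∃ v, LinearIndependent F ![v, toLin' M v] := by
    by_contra hcon
    push Not at hcon
    obtain ⟨s, hs'⟩ := LinearMap.exists_eq_smul_id_of_forall_notLinearIndependent hcon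
    refine hs s (toLin'.injective ?_)
    rw [hs', map_smul, toLin'_one]
    rfl
  rw [toLin'_apply] at hv
  by_cases h : M *ᵥ (M *ᵥ v) ∈ Submodule.span F {v, M *ᵥ v}
  · exact ⟨v, hv, h⟩
  have hli : ∀ a b c : F, a • v + b • (M *ᵥ v) + c • (M *ᵥ (M *ᵥ v)) = 0 → a = 0 ∧ b = 0 ∧ c = 0 := by
    intro a b c h0
    have hc : c = 0 := by
      by_contra hc
      apply h
      rw [Submodule.mem_span_pair]
      refine ⟨-(c⁻¹ * a), -(c⁻¹ * b), ?_⟩
      have h1 : c • (M *ᵥ (M *ᵥ v)) = -(a • v + b • (M *ᵥ v)) := by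
        rw [eq_neg_iff_add_eq_zero, add_comm]; exact h0
      have h2 : M *ᵥ (M *ᵥ v) = c⁻¹ • (c • (M *ᵥ (M *ᵥ v))) := by
        rw [smul_smul, inv_mul_cancel₀ hc, one_smul]
      rw [h2, h1]
      module
    subst hc
    rw [zero_smul, add_zero] at h0
    obtain ⟨h1, h2⟩ := LinearIndependent.pair_iff.1 hv a b h0
    exact ⟨h1, h2, rfl⟩
  refine ⟨v - M *ᵥ v, ?_, ?_⟩
  · rw [LinearIndependent.pair_iff]
    intro s t hst
    rw [mulVec_sub] at hst
    have h1 : s • v + (t - s) • (M *ᵥ v) + (-t) • (M *ᵥ (M *ᵥ v)) = 0 := by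
      rw [← hst]
      module
    obtain ⟨h2, h3, h4⟩ := hli _ _ _ h1
    exact ⟨h2, by rw [neg_eq_zero] at h4; exact h4⟩
  · rw [Submodule.mem_span_pair]
    refine ⟨-1, -1, ?_⟩
    rw [mulVec_sub, mulVec_sub, hM3]
    module

end Cfsg.Agent.H575.SN
end

-- part: H575/SN/PslA
section
set_option linter.all false
open scoped Cfsg.Agent.FastGrp

/-!
# S3831, row `PSL_n(q)`, `n ≥ 3`, `q ≥ 4`, characteristic not three (helper575)

* `g3_psl_of` : the row, for `NoS3 (SL_2(q))`.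
-/

set_option autoImplicit false
set_option linter.unusedSectionVars false

namespace Cfsg.Agent.H575.SN

open Subgroup Cfsg Matrix Cfsg.Agent.H459.Rad Cfsg.Agent.H21.SN
open Cfsg.Agent.ClassicalGeometry.AutPSL.Root Cfsg.Agent.ClassicalGeometry.AutPSL.Auto
  Cfsg.Agent.ClassicalGeometry.AutPSL.Main

theorem irr3 {F : Type*} [Field F] {M : Matrix (Fin 3) (Fin 3) F} {c : F} (hM : M ^ 3 = c • 1)
    (hc : ∀ d : F, d ^ 3 ≠ c) (W : Submodule F (Fin 3 → F)) (hW : ∀ w ∈ W, M *ᵥ w ∈ W) : W = ⊥ ∨ W = ⊤ := by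
  by_cases h : W = ⊥
  · exact Or.inl h
  · right
    obtain ⟨u, hu, hu0⟩ := Submodule.exists_mem_ne_zero_of_ne_bot h
    have hli := li_of_not_cube hM hc hu0
    have h1 := hli.span_eq_top_of_card_eq_finrank' (by simp)
    rw [eq_top_iff, ← h1, Submodule.span_le]
    rintro _ ⟨i, rfl⟩
    fin_cases i
    · exact hu
    · exact hW _ hu
    · exact hW _ (hW _ hu)

theorem cj_eq_one_imp {F : Type*} [Field F] {n : ℕ} [Nontrivial (Fin n)] {a : GL (Fin n) F} {σ : F ≃+* F}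
    (h : cj a * fld σ = 1) : (∃ s : F, scalar (Fin n) s = (a : Matrix (Fin n) (Fin n) F)) ∧ σ = 1 := by
  have h1 : Cfsg.Agent.ClassicalGeometry.AutPSL.Auto.lift (cj a * fld σ) =
      Cfsg.Agent.ClassicalGeometry.AutPSL.Auto.lift (fld (ι := Fin n) (1 : F ≃+* F)) := by
    rw [h, map_one fld]
  exact injective_aux h1

theorem g3_psl_of {r : ℕ} [Fact r.Prime] (hr : r ≠ 3) {F : Type} [Field F] [Fintype F] [CharP F r] {n : ℕ}
    (hn : 3 ≤ n) (hq : 4 ≤ Fintype.card F) (hS : NoS3 (Matrix.SpecialLinearGroup (Fin 2) F)) :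
    G3 (Matrix.ProjectiveSpecialLinearGroup (Fin n) F) := by
  intro x hx hP hR
  have hxp : x ^ 3 = 1 := by rw [← hx]; exact pow_orderOf_eq_one x
  have hn0 : NeZero n := ⟨by omega⟩
  have hnt : Nontrivial (Fin n) := Fin.nontrivial_iff_two_le.2 (by omega)
  have hp' : Nat.Prime 3 := Nat.prime_three
  have : Fact (Nat.Prime 3) := ⟨hp'⟩
  have h30 : ((3 : ℕ) : F) ≠ 0 := by
    intro h
    have h1 := (CharP.cast_eq_zero_iff F r 3).1 h
    exact hr ((Nat.prime_dvd_prime_iff_eq Fact.out hp').1 h1)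
  have hqs : IsQuasisimple (Matrix.SpecialLinearGroup (Fin 2) F) :=
    ⟨Group.isPerfect_def.2 (Cfsg.Agent.TwoFusion.SLTwoFacts.commutator_eq_top (by omega)),
      Cfsg.Agent.TwoFusion.SLTwoFacts.isSimpleGroup_psl (by omega)⟩
  obtain ⟨A, σ, rfl⟩ := Cfsg.Agent.BpLin.exists_type (n := n) (F := F) (by omega) (by decide) hxp
  rw [← map_pow, Cfsg.Agent.BpLin.pow_type] at hxp
  have h1 : Cfsg.Agent.ClassicalGeometry.AutPSL.Auto.lift (cj (Cfsg.Agent.BpLin.NA A σ 3) * fld (σ ^ 3)) =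
      Cfsg.Agent.ClassicalGeometry.AutPSL.Auto.lift (fld (ι := Fin n) (1 : F ≃+* F)) := by
    rw [hxp, map_one fld, map_one]
  obtain ⟨⟨c, hc⟩, hσ⟩ := injective_aux h1
  have hc' : (Cfsg.Agent.BpLin.NA A σ 3 : Matrix (Fin n) (Fin n) F) = c • 1 := by
    rw [← hc, Matrix.scalar_apply, Matrix.smul_one_eq_diagonal]
  by_cases h2 : σ = 1
  · subst h2
    rw [map_one fld, mul_one] at hR hx hP
    rw [Cfsg.Agent.BpLin.NA_one] at hc'
    have hc0 : c ≠ 0 := by
      rintro rfl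
      rw [zero_smul] at hc'
      have h6 : (1 : Matrix (Fin n) (Fin n) F) = 0 := by
        rw [← (A ^ 3).mul_inv, hc', zero_mul]
      have h7 := congrFun (congrFun h6 0) 0
      rw [Matrix.one_apply_eq] at h7
      exact one_ne_zero h7
    rw [Units.val_pow_eq_pow_val] at hc'
    by_cases hd : ∃ d : F, d ^ 3 = c
    · obtain ⟨d, rfl⟩ := hd
      have hd0 : d ≠ 0 := by
        rintro rfl
        exact hc0 (zero_pow (by norm_num))
      let A' : GL (Fin n) F := Matrix.GeneralLinearGroup.scalar (Fin n) (Units.mk0 d⁻¹ (inv_ne_zero hd0)) * A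
      have hA' : (A' : Matrix (Fin n) (Fin n) F) = d⁻¹ • (A : Matrix (Fin n) (Fin n) F) := by
        rw [Units.val_mul]
        change Matrix.scalar (Fin n) d⁻¹ * (A : Matrix (Fin n) (Fin n) F) = _
        rw [Matrix.scalar_apply, ← Matrix.smul_one_eq_diagonal, Matrix.smul_mul, one_mul]
      rw [← Cfsg.Agent.BpLin.cj_smul (inv_ne_zero hd0) hA'] at hx hR
      have hA3 : (A' : Matrix (Fin n) (Fin n) F) ^ 3 = 1 := by
        rw [hA', smul_pow, hc', smul_smul, inv_pow, inv_mul_cancel₀ hc0, one_smul]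
      have hs : ∀ s : F, (A' : Matrix (Fin n) (Fin n) F) ≠ s • 1 := by
        intro s h
        have h3 : cj A' = 1 := cj_eq_one_of_scalar (r := s) (by
          rw [h, Matrix.scalar_apply, Matrix.smul_one_eq_diagonal])
        rw [h3, map_one, orderOf_one] at hx
        omega
      obtain ⟨v, hv, hv2⟩ := exists_plane hA3 hs
      have hinv : ∀ j : Fin 2, (A' : Matrix (Fin n) (Fin n) F) *ᵥ
          (![v, (A' : Matrix (Fin n) (Fin n) F) *ᵥ v] : Fin 2 → Fin n → F) j ∈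
            Submodule.span F (Set.range ![v, (A' : Matrix (Fin n) (Fin n) F) *ᵥ v]) := by
        rw [Matrix.range_cons_cons_empty]
        intro j
        fin_cases j
        · exact Submodule.subset_span (Set.mem_insert_of_mem _ rfl)
        · exact hv2
      obtain ⟨m, e, P, a, Y, h3, h4⟩ := exists_blk h30 one_ne_zero (c := 1) (by rw [hA3, one_smul]) hv hinv
      have hm : 0 < m := by
        have h5 := Fintype.card_congr e
        rw [Fintype.card_sum, Fintype.card_fin, Fintype.card_fin, Fintype.card_fin] at h5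
        omega
      have h5 : cj a = 1 := eq_one_of_rn hqs hS (phi_injective e hm P) (lift_cj_phi e h3) hR
      obtain ⟨⟨s, hs'⟩, -⟩ := cj_eq_one_imp (a := a) (σ := 1) (by rw [h5, map_one, mul_one])
      have h6 := h4 0
      rw [Fin.sum_univ_two] at h6
      change (A' : Matrix (Fin n) (Fin n) F) *ᵥ v = (a : Matrix (Fin 2) (Fin 2) F) 0 0 • v +
        (a : Matrix (Fin 2) (Fin 2) F) 1 0 • ((A' : Matrix (Fin n) (Fin n) F) *ᵥ v) at h6
      have h7 : (a : Matrix (Fin 2) (Fin 2) F) 1 0 = 0 := by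
        rw [← hs', Matrix.scalar_apply, Matrix.diagonal_apply_ne _ (by decide)]
      rw [h7, zero_smul, add_zero] at h6
      have h8 : (-(a : Matrix (Fin 2) (Fin 2) F) 0 0) • v + (1 : F) • ((A' : Matrix (Fin n) (Fin n) F) *ᵥ v) = 0 := by
        rw [h6]
        module
      exact one_ne_zero (LinearIndependent.pair_iff.1 hv _ _ h8).2
    · push Not at hd
      rcases Nat.eq_or_lt_of_le hn with rfl | hn4
      · exact Cfsg.Agent.H746.PslThree.irr_false hc' (irr3 hc' hd) (Cfsg.Agent.H959.Rad3.inv_of_ps le_rfl hP)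
      · obtain ⟨v, hv⟩ := exists_ne (0 : Fin n → F)
        have hli := li_of_not_cube hc' hd hv
        have hinv : ∀ j : Fin 3, (A : Matrix (Fin n) (Fin n) F) *ᵥ
            (![v, (A : Matrix (Fin n) (Fin n) F) *ᵥ v, (A : Matrix (Fin n) (Fin n) F) *ᵥ
              ((A : Matrix (Fin n) (Fin n) F) *ᵥ v)] : Fin 3 → Fin n → F) j ∈
              Submodule.span F (Set.range ![v, (A : Matrix (Fin n) (Fin n) F) *ᵥ v,
                (A : Matrix (Fin n) (Fin n) F) *ᵥ ((A : Matrix (Fin n) (Fin n) F) *ᵥ v)]) := by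
          intro j
          fin_cases j
          · exact Submodule.subset_span ⟨1, rfl⟩
          · exact Submodule.subset_span ⟨2, rfl⟩
          · change (A : Matrix (Fin n) (Fin n) F) *ᵥ ((A : Matrix (Fin n) (Fin n) F) *ᵥ
              ((A : Matrix (Fin n) (Fin n) F) *ᵥ v)) ∈ _
            have h3 : (A : Matrix (Fin n) (Fin n) F) *ᵥ ((A : Matrix (Fin n) (Fin n) F) *ᵥ
              ((A : Matrix (Fin n) (Fin n) F) *ᵥ v)) = c • v := by
              rw [mulVec_mulVec, mulVec_mulVec, show (A : Matrix (Fin n) (Fin n) F) * (A : Matrix (Fin n) (Fin n) F) *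
                (A : Matrix (Fin n) (Fin n) F) = (A : Matrix (Fin n) (Fin n) F) ^ 3 by rw [pow_succ, pow_two], hc',
                smul_mulVec, one_mulVec]
            rw [h3]
            exact Submodule.smul_mem _ _ (Submodule.subset_span ⟨0, rfl⟩)
        obtain ⟨m, e, P, a, Y, h3, -⟩ := exists_blk h30 hc0 hc' hli hinv
        have hm : 0 < m := by
          have h5 := Fintype.card_congr e
          rw [Fintype.card_sum, Fintype.card_fin, Fintype.card_fin, Fintype.card_fin] at h5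
          omega
        have ha3 : (a : Matrix (Fin 3) (Fin 3) F) ^ 3 = c • 1 := by
          have h5 : ∀ j : ℕ, (A : Matrix (Fin n) (Fin n) F) ^ j * (P : Matrix (Fin n) (Fin n) F) =
              (P : Matrix (Fin n) (Fin n) F) * bm e ((a : Matrix (Fin 3) (Fin 3) F) ^ j) (Y ^ j) := by
            intro j
            induction j with
            | zero => rw [pow_zero, pow_zero, pow_zero, bm_one, one_mul, mul_one]
            | succ j ih =>
              rw [pow_succ (A : Matrix (Fin n) (Fin n) F), mul_assoc, h3, ← mul_assoc, ih, mul_assoc, bm_mul,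
                pow_succ, pow_succ]
          have h6 := h5 3
          rw [hc', Matrix.smul_mul, one_mul] at h6
          have h7 : bm e ((a : Matrix (Fin 3) (Fin 3) F) ^ 3) (Y ^ 3) = bm e (c • 1) (c • 1) := by
            rw [← bm_smul, bm_one]
            have h8 := congrArg (fun Z => ((P⁻¹ : GL (Fin n) F) : Matrix (Fin n) (Fin n) F) * Z) h6
            change ((P⁻¹ : GL (Fin n) F) : Matrix (Fin n) (Fin n) F) * (c • (P : Matrix (Fin n) (Fin n) F)) =
              ((P⁻¹ : GL (Fin n) F) : Matrix (Fin n) (Fin n) F) * ((P : Matrix (Fin n) (Fin n) F) * _) at h8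
            rw [Matrix.mul_smul, P.inv_mul, ← mul_assoc, P.inv_mul, one_mul] at h8
            exact h8.symm
          exact (bm_inj e h7).1
        have hP3 : PS 2 (Cfsg.Agent.ClassicalGeometry.AutPSL.Auto.lift (cj a)) :=
          ps_of_phi (phi_injective e hm P) (lift_cj_phi e h3) pr_surjective (fun g => rfl) hP
        exact Cfsg.Agent.H746.PslThree.irr_false ha3 (irr3 ha3 hd) (Cfsg.Agent.H959.Rad3.inv_of_ps le_rfl hP3)
  · obtain ⟨B, hB⟩ := Cfsg.Agent.BpLin.exists_std hp' h2 hσ hc'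
    rw [hB] at hR
    let e : Fin 2 ⊕ Fin (n - 2) ≃ Fin n := finSumFinEquiv.trans (finCongr (by omega))
    have h5 : fld (ι := Fin 2) σ = 1 :=
      eq_one_of_rn hqs hS (phi_injective e (by omega) B) (lift_fld_phi e σ B) hR
    exact h2 (cj_eq_one_imp (a := (1 : GL (Fin 2) F)) (σ := σ) (by rw [h5, map_one, mul_one])).2

/-- **S3831, C1a.** The row `PSL_n(q)`, `n ≥ 3`, `q ≥ 4`, for the criterion `hT`. -/
theorem c1a_of (hT : ∀ {H : Type} [Group H] [Finite H], (∃ P : Sylow 3 H, IsMulCommutative (P : Subgroup H)) → NoS3 H)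
    {K : Type} [Group K] [Finite K] {r : ℕ} [Fact r.Prime] (hr : r ≠ 3) {F : Type} [Field F] [Fintype F] [CharP F r]
    {n : ℕ} (hn : 3 ≤ n) (hq : 4 ≤ Fintype.card F)
    (e : Nonempty (K ≃* Matrix.ProjectiveSpecialLinearGroup (Fin n) F)) : G3 K := by
  obtain ⟨e⟩ := e
  refine G3.congr e (g3_psl_of hr hn hq (hT ?_))
  have : Fact (Nat.Prime 3) := ⟨Nat.prime_three⟩
  obtain ⟨P⟩ := (inferInstance : Nonempty (Sylow 3 (Matrix.SpecialLinearGroup (Fin 2) F)))
  have hP := Cfsg.Agent.S0262.result (F := F) r 3 (by norm_num) hr.symm P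
  exact ⟨P, inferInstance⟩

end Cfsg.Agent.H575.SN
end
end
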